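import Groth.Agent.MaxTorTransp.Conj
import Groth.Agent.SolvGrp.Reductive2
import Groth.Agent.NonAffine.IdComp
import Groth.Agent.VarDim.Basic
import Groth.Agent.H23.TopDim
import Groth.Agent.DomHom.MonoAffine
import Groth.Agent.TorusQI.Geom
import Groth.Agent.GrpSchLib.LaurentPic

/-!
# Dimensions of tori over algebraically closed fields
-/

universe u

open CategoryTheory CategoryTheory.Limits MonoidalCategory CartesianMonoidalCategory MonObj AlgebraicGeometry

set_option backward.isDefEq.respectTransparency false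
set_option backward.isDefEq.respectTransparency.types false
set_option linter.style.haveILetI false
set_option synthInstance.maxHeartbeats 80000
set_option autoImplicit false

namespace Groth.Agent.RedRank

open Groth.Agent.GrpSchLib AGFLib AGFLib.Gen AGFLib.BorelExist AGFLib.BorelFixed SolvGrp

variable (k : Type u) [Field k]

/-- The dimension of a Laurent polynomial algebra. -/
theorem dim_laurent (r : ℕ) :
    ringKrullDim (MonoidAlgebra k (Multiplicative (Fin r → ℤ))) = (r : WithBot ℕ∞) := by
  classical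
  haveI : AddGroup.FG (Fin r → ℤ) := Module.Finite.iff_addGroup_fg.1 inferInstance
  haveI : IsDomain (MonoidAlgebra k (Multiplicative (Fin r → ℤ))) := (GrpSchLib.LaurentPic.ufd_lattice k r).1
  let X : Fin r → (MonoidAlgebra k (Multiplicative (Fin r → ℤ))) := fun i => MonoidAlgebra.of k _ (Multiplicative.ofAdd (Pi.single i (1 : ℤ)))
  let φ : MvPolynomial (Fin r) k →ₐ[k] (MonoidAlgebra k (Multiplicative (Fin r → ℤ))) := MvPolynomial.aeval X
  have hmon : ∀ (s : Fin r →₀ ℕ) (c : k),
      φ (MvPolynomial.monomial s c) = MonoidAlgebra.single (Multiplicative.ofAdd fun i => (s i : ℤ)) c := fun s c => by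
    rw [MvPolynomial.aeval_monomial, Finsupp.prod_fintype _ _ fun i => pow_zero _]
    rw [show (∏ x, X x ^ s x) = MonoidAlgebra.of k _ (∏ x, (Multiplicative.ofAdd (Pi.single x (1 : ℤ))) ^ s x) by
      rw [map_prod]; exact Finset.prod_congr rfl fun x _ => (map_pow (MonoidAlgebra.of k (Multiplicative (Fin r → ℤ))) _ _).symm]
    simp only [← ofAdd_nsmul]
    rw [← ofAdd_sum]
    rw [show (∑ i, s i • Pi.single i (1 : ℤ) : Fin r → ℤ) = fun i => (s i : ℤ) from funext fun j => by
      simp [Finset.sum_apply, Pi.single_apply], MonoidAlgebra.of_apply, MonoidAlgebra.coe_algebraMap]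
    simp [MonoidAlgebra.single_mul_single]
  have hinj : Function.Injective φ := by
    let em : (Fin r →₀ ℕ) → Multiplicative (Fin r → ℤ) := fun s => Multiplicative.ofAdd fun i => (s i : ℤ)
    have hem : Function.Injective em := fun s t h => Finsupp.ext fun i => by
      exact_mod_cast congrFun (Multiplicative.ofAdd.injective h) i
    rw [injective_iff_map_eq_zero]
    intro p hp
    refine MvPolynomial.ext _ _ fun s => ?_
    rw [MvPolynomial.as_sum p, map_sum] at hp
    simp only [hmon] at hp
    have h := congrArg (fun f : (MonoidAlgebra k (Multiplicative (Fin r → ℤ))) => f.coeff (em s)) hp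
    simp only [MonoidAlgebra.coeff_sum, Finsupp.finset_sum_apply, MonoidAlgebra.coeff_single, Finsupp.single_apply] at h
    rw [Finset.sum_eq_single s (fun t _ ht => if_neg fun e => ht (hem e))
      (fun hs => by simpa [MvPolynomial.notMem_support_iff] using hs)] at h
    rw [MvPolynomial.coeff_zero]
    simpa [em] using h
  letI : Algebra (MvPolynomial (Fin r) k) (MonoidAlgebra k (Multiplicative (Fin r → ℤ))) := φ.toRingHom.toAlgebra
  haveI : IsScalarTower k (MvPolynomial (Fin r) k) (MonoidAlgebra k (Multiplicative (Fin r → ℤ))) := IsScalarTower.of_algebraMap_eq fun x => (φ.commutes x).symm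
  haveI : FaithfulSMul (MvPolynomial (Fin r) k) (MonoidAlgebra k (Multiplicative (Fin r → ℤ))) := (faithfulSMul_iff_algebraMap_injective _ _).2 hinj
  haveI : Algebra.IsAlgebraic (MvPolynomial (Fin r) k) (MonoidAlgebra k (Multiplicative (Fin r → ℤ))) := by
    refine ⟨fun a => ?_⟩
    induction a using MonoidAlgebra.induction_on with
    | of g =>
      let pos : Fin r →₀ ℕ := Finsupp.equivFunOnFinite.symm fun i => (Multiplicative.toAdd g i).toNat
      let neg : Fin r →₀ ℕ := Finsupp.equivFunOnFinite.symm fun i => (-Multiplicative.toAdd g i).toNat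
      refine ⟨Polynomial.C (MvPolynomial.monomial neg 1) * Polynomial.X - Polynomial.C (MvPolynomial.monomial pos 1),
        fun h => ?_, ?_⟩
      · have h' := congrArg (fun P => Polynomial.coeff P 1) h
        simp at h'
      · rw [map_sub, map_mul, Polynomial.aeval_C, Polynomial.aeval_X, Polynomial.aeval_C]
        show φ _ * _ - φ _ = 0
        rw [hmon, hmon, sub_eq_zero, MonoidAlgebra.of_apply, MonoidAlgebra.single_mul_single, _root_.one_mul]
        congr 1
        refine Multiplicative.toAdd.injective (funext fun i => ?_)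
        simp [pos, neg]
        omega
    | add f g hf hg => exact hf.add hg
    | smul c f hf =>
      rw [Algebra.smul_def, IsScalarTower.algebraMap_apply k (MvPolynomial (Fin r) k) (MonoidAlgebra k (Multiplicative (Fin r → ℤ)))]
      exact (isAlgebraic_algebraMap _).mul hf
  obtain ⟨n, hn, htr⟩ := VarDim.exists_dim_eq_trdeg k (MonoidAlgebra k (Multiplicative (Fin r → ℤ)))
  have h := lift_trdeg_add_eq k (MvPolynomial (Fin r) k) (MonoidAlgebra k (Multiplicative (Fin r → ℤ)))
  rw [MvPolynomial.trdeg_of_isDomain, trdeg_eq_zero (R := MvPolynomial (Fin r) k), Cardinal.lift_zero, add_zero, htr] at h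
  simp at h
  rw [hn, h]

variable {k}

/-- The dimension of a split torus. -/
theorem dim_split {T : Over (Spec (CommRingCat.of k))} [GrpObj T] {r : ℕ}
    (e : Red.IsSplitTorusWith (Fin r → ℤ) T) : topologicalKrullDim T.left = (r : WithBot ℕ∞) := by
  haveI : AddGroup.FG (Fin r → ℤ) := Module.Finite.iff_addGroup_fg.1 inferInstance
  obtain ⟨e₀⟩ := e
  obtain ⟨e₁⟩ := AffineHopf.nonempty_DS_iso k (Fin r → ℤ)
  let a : AffineHopf.sp k (MonoidAlgebra k (Multiplicative (Fin r → ℤ))) ≅ T :=
    (Grp.forget _).mapIso (e₁ ≪≫ e₀.symm)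
  let h : Spec (CommRingCat.of (MonoidAlgebra k (Multiplicative (Fin r → ℤ)))) ≅ T.left := (Over.forget _).mapIso a
  rw [← dim_laurent k r, ← PrimeSpectrum.topologicalKrullDim_eq_ringKrullDim]
  exact (IsHomeomorph.topologicalKrullDim_eq _ h.hom.homeomorph.isHomeomorph).symm

/-- A split torus is irreducible. -/
theorem irreducible_split {T : Over (Spec (CommRingCat.of k))} [GrpObj T] {r : ℕ}
    (e : Red.IsSplitTorusWith (Fin r → ℤ) T) : IrreducibleSpace T.left := by
  obtain ⟨e₀⟩ := e
  obtain ⟨e₁⟩ := AffineHopf.nonempty_DS_iso k (Fin r → ℤ)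
  let a : AffineHopf.sp k (MonoidAlgebra k (Multiplicative (Fin r → ℤ))) ≅ T :=
    (Grp.forget _).mapIso (e₁ ≪≫ e₀.symm)
  let h : Spec (CommRingCat.of (MonoidAlgebra k (Multiplicative (Fin r → ℤ)))) ≅ T.left := (Over.forget _).mapIso a
  haveI : IsDomain (MonoidAlgebra k (Multiplicative (Fin r → ℤ))) := (GrpSchLib.LaurentPic.ufd_lattice k r).1
  haveI : IrreducibleSpace ↥(Spec (CommRingCat.of (MonoidAlgebra k (Multiplicative (Fin r → ℤ))))) :=
    inferInstanceAs (IrreducibleSpace (PrimeSpectrum _))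
  exact Function.Surjective.irreducibleSpace h.hom.homeomorph.continuous h.hom.homeomorph.surjective

variable [IsAlgClosed k]

local notation "PT" => 𝟙_ (Over (Spec (CommRingCat.of k)))

/-- The dimension of a torus over an algebraically closed field is finite. -/
theorem exists_dim {T : Over (Spec (CommRingCat.of k))} [GrpObj T] (hT : Red.IsTorus T) :
    ∃ r : ℕ, Red.IsSplitTorusWith (Fin r → ℤ) T ∧ topologicalKrullDim T.left = (r : WithBot ℕ∞) := by
  obtain ⟨r, e⟩ := TorusQI.exists_split_geom hT (𝟙 _)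
  obtain ⟨e'⟩ : Nonempty (Grp.mk (Red.bc (𝟙 (Spec (CommRingCat.of k))) T) ≅ Grp.mk T) :=
    ⟨(Functor.mapGrpNatIso Over.pullbackId ≪≫ Functor.mapGrpIdIso).app (Grp.mk T)⟩
  obtain ⟨e₀⟩ := e
  exact ⟨r, ⟨e'.symm ≪≫ e₀⟩, dim_split ⟨e'.symm ≪≫ e₀⟩⟩

/-- A monomorphism between tori of the same dimension is an isomorphism. -/
theorem isIso_of_dim {T T' : Over (Spec (CommRingCat.of k))} [GrpObj T] [GrpObj T'] (hT : Red.IsTorus T)
    (hT' : Red.IsTorus T') (f : T ⟶ T') [IsMonHom f] [Mono f]
    (hd : topologicalKrullDim T.left = topologicalKrullDim T'.left) : IsIso f := by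
  obtain ⟨hA, hS, hC, -⟩ := torus_props hT
  obtain ⟨hA', hS', hC', -⟩ := torus_props hT'
  obtain ⟨r₀, er₀, -⟩ := exists_dim hT'
  haveI := hA; haveI := hS; haveI := hC; haveI := hA'; haveI := hS'; haveI := hC'
  haveI : IsClosedImmersion f.left := DomHom.isClosedImmersion_of_mono f
  haveI : IsReduced T'.left := isReduced_of_smooth_field T'.hom
  haveI : IrreducibleSpace T'.left := irreducible_split er₀
  obtain ⟨r, -, hr⟩ := exists_dim hT'
  have hu : Set.range f.left = Set.univ := by
    by_contra hne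
    have h := H23.TopDim.dim_lt_of_ssubset (by rw [hr]; exact fun e => ENat.coe_ne_top r (WithBot.coe_injective e))
      f.left.isClosedEmbedding.isClosed_range hne
    rw [← hd] at h
    have h' := IsHomeomorph.topologicalKrullDim_eq _ f.left.isClosedEmbedding.isEmbedding.toHomeomorph.isHomeomorph
    rw [h'] at h
    exact lt_irrefl _ h
  obtain ⟨d, hd'⟩ := H23.RedSub.exists_lift_closed (𝟙 T'.left) f.left (by rintro _ ⟨p, rfl⟩; rw [hu]; trivial)
  let g : T' ⟶ T := Over.homMk d (by rw [← Over.w f, reassoc_of% hd'])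
  have hg : g ≫ f = 𝟙 T' := Over.OverMorphism.ext hd'
  exact ⟨g, by rw [← cancel_mono f, Category.assoc, hg, Category.comp_id, Category.id_comp], hg⟩

/-- In an affine smooth group every torus has dimension at most that of a maximal torus. -/
theorem dim_le {G T S₀ : Over (Spec (CommRingCat.of k))} [GrpObj G] [GrpObj T] [GrpObj S₀] [IsAffine G.left]
    [Smooth G.hom] [QuasiCompact G.hom] {i : T ⟶ G} (hi : AGF.IsMaxTorus i) (j : S₀ ⟶ G) [IsMonHom j] [Mono j]
    (hS : Red.IsTorus S₀) : topologicalKrullDim S₀.left ≤ topologicalKrullDim T.left := by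
  haveI := hi.1; haveI := hi.2.1
  obtain ⟨D, _, r, hr, hrc, hDs, hDc, hDq, -, huniv⟩ := NonAffine.exists_idSub G
  haveI := hr; haveI := hrc; haveI := hDs; haveI := hDc; haveI := hDq
  haveI : IsAffine D.left := isAffine_of_isAffineHom r.left
  haveI : Mono r := haveI : Mono r.left := inferInstance; Over.mono_of_mono_left _
  obtain ⟨ha, hs, hc, -⟩ := torus_props hS
  haveI := ha; haveI := hs; haveI := hc
  obtain ⟨ha', hs', hc', -⟩ := torus_props hi.2.2.1
  haveI := ha'; haveI := hs'; haveI := hc'
  obtain ⟨j₀, hj₀, hjr⟩ := huniv S₀ j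
  haveI := hj₀
  haveI : Mono j₀ := haveI : Mono (j₀ ≫ r) := hjr.symm ▸ ‹Mono j›; mono_of_mono j₀ r
  obtain ⟨i₀, hi₀, hir⟩ := huniv T i
  haveI := hi₀
  haveI : Mono i₀ := haveI : Mono (i₀ ≫ r) := hir.symm ▸ ‹Mono i›; mono_of_mono i₀ r
  have hmax : AGF.IsMaxTorus i₀ := NonAffine.isMaxTorus_of_comp r (hir.symm ▸ hi)
  obtain ⟨T₃, _, iT, hmT, hT₃, hle⟩ := SolvGrp.exists_maxTorus_containing j₀ hS
  haveI := hT₃.2.1
  obtain ⟨g, φ, -⟩ := MaxTorTransp.exists_conj_maxTorus hT₃ hmax
  obtain ⟨ha₃, hs₃, hc₃, -⟩ := torus_props hT₃.2.2.1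
  haveI := ha₃; haveI := hs₃; haveI := hc₃
  haveI : IsClosedImmersion iT.left := DomHom.isClosedImmersion_of_mono iT
  haveI : IsClosedImmersion j₀.left := DomHom.isClosedImmersion_of_mono j₀
  haveI : IsReduced S₀.left := isReduced_of_smooth_field S₀.hom
  have hrange : j₀.left ⁻¹' Set.range iT.left = Set.univ := by
    refine eq_univ_of_forall_cp (iT.left.isClosedEmbedding.isClosed_range.preimage j₀.left.continuous) fun x => ?_
    obtain ⟨y, hy⟩ := hle ⟨x, rfl⟩
    change y ≫ iT = x ≫ j₀ at hy
    exact ⟨cp y, by rw [← cp_comp, hy, cp_comp]⟩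
  obtain ⟨d, hd⟩ := H23.RedSub.exists_lift_closed j₀.left iT.left (by
    rintro _ ⟨p, rfl⟩
    exact hrange.ge (Set.mem_univ p))
  haveI : IsClosedImmersion d := by
    haveI : IsClosedImmersion (d ≫ iT.left) := by rw [hd]; infer_instance
    exact IsClosedImmersion.of_comp d iT.left
  calc topologicalKrullDim S₀.left ≤ topologicalKrullDim T₃.left :=
        d.isClosedEmbedding.isInducing.topologicalKrullDim_le
    _ = topologicalKrullDim T.left :=
        IsHomeomorph.topologicalKrullDim_eq _ ((Over.forget _).mapIso φ).hom.homeomorph.isHomeomorph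

end Groth.Agent.RedRank
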