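import Groth.Agent.RedRank.Main
import Groth.Agent.MultTypeImage.Image
import Groth.Agent.TorusQI.SplitSubtori
import Groth.Agent.TorusQI.FibreIso

/-!
# Maximal tori of commutative affine smooth groups
-/

universe u

open CategoryTheory CategoryTheory.Limits MonoidalCategory CartesianMonoidalCategory MonObj AlgebraicGeometry

set_option backward.isDefEq.respectTransparency false
set_option backward.isDefEq.respectTransparency.types false
set_option linter.style.haveILetI false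
set_option synthInstance.maxHeartbeats 80000
set_option autoImplicit false

namespace Groth.Agent.RedRank

open Groth.Agent.GrpSchLib GrpLimLib

variable {S : Scheme.{u}}

theorem isLocSplit_bc {S' : Scheme.{u}} (f : S' ⟶ S) {E : Over S} [GrpObj E] (h : TorusQI.IsLocSplit E) :
    TorusQI.IsLocSplit (Red.bc f E) := fun x => by
  obtain ⟨U, hU, r, ⟨e⟩⟩ := h (f x)
  let l : (f ⁻¹ᵁ U : Scheme.{u}) ⟶ U := f ∣_ U
  obtain ⟨e₁⟩ := MultTypeBC.bc_bc (f ⁻¹ᵁ U).ι f E
  obtain ⟨e₂⟩ := MultTypeBC.bc_congr (morphismRestrict_ι f U).symm E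
  obtain ⟨e₃⟩ := MultTypeBC.bc_bc l U.ι E
  obtain ⟨e₄⟩ := MultTypeBC.bc_iso l e
  obtain ⟨e₅⟩ := MultTypeBC.bc_DS l (Fin r → ℤ)
  exact ⟨f ⁻¹ᵁ U, hU, r, ⟨e₁ ≪≫ e₂ ≪≫ e₃.symm ≪≫ e₄ ≪≫ e₅⟩⟩

/-- A torus is locally split after an fpqc covering. -/
theorem exists_cover_locSplit {A : Over S} [GrpObj A] (hA : Red.IsTorus A) :
    ∃ (S' : Scheme.{u}) (f : S' ⟶ S), Flat f ∧ Surjective f ∧ FpqcDescLib.IsCovering f ∧
      TorusQI.IsLocSplit (Red.bc f A) := by
  obtain ⟨S', f, hf, hfs, hfc, hfl⟩ := hA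
  haveI := hf; haveI := hfs
  refine ⟨S', f, hf, hfs, FpqcDescLib.isCovering_of_flat f hfc, fun x => ?_⟩
  obtain ⟨U, hU, r, ⟨e⟩⟩ := hfl x
  obtain ⟨e₁⟩ := MultTypeBC.bc_bc U.ι f A
  exact ⟨U, hU, r, ⟨e₁ ≪≫ e⟩⟩

theorem isTorus_prod_of_bc {S' : Scheme.{u}} (f : S' ⟶ S) [Surjective f] (hf : FpqcDescLib.IsCovering f)
    {A B : Over S} [GrpObj A] [GrpObj B] (h : Red.IsTorus (Red.bc f A ⊗ Red.bc f B)) : Red.IsTorus (A ⊗ B) := by
  obtain ⟨e⟩ := TorusQI.nonempty_bc_prod f A B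
  let e' : Red.bc f (A ⊗ B) ≅ Red.bc f A ⊗ Red.bc f B :=
    ⟨e.hom.hom.hom, e.inv.hom.hom, congrArg (fun k => k.hom.hom) e.hom_inv_id,
      congrArg (fun k => k.hom.hom) e.inv_hom_id⟩
  haveI : IsMonHom e'.hom := e.hom.hom.isMonHom_hom
  exact MaxTorTransp.isTorus_of_bc f hf e' h

/-- A product of tori is a torus. -/
theorem isTorus_prod {A B : Over S} [GrpObj A] [GrpObj B] (hA : Red.IsTorus A) (hB : Red.IsTorus B) :
    Red.IsTorus (A ⊗ B) := by
  obtain ⟨S₁, f₁, -, h₁s, h₁c, hA₁⟩ := exists_cover_locSplit hA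
  haveI := h₁s
  refine isTorus_prod_of_bc f₁ h₁c ?_
  obtain ⟨S₂, f₂, -, h₂s, h₂c, hB₂⟩ := exists_cover_locSplit (SolvGrp.isTorus_bc f₁ hB)
  haveI := h₂s
  exact isTorus_prod_of_bc f₂ h₂c
    (TorusQI.isTorus_of_locSplit (TorusQI.isLocSplit_prod (isLocSplit_bc f₂ hA₁) hB₂))

/-- A commutative affine smooth group of locally constant reductive rank has a largest torus. -/
theorem exists_largest_torus {G : Over S} [GrpObj G] [IsCommMonObj G] [IsAffineHom G.hom] [Smooth G.hom]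
    (hr : SGA3x.RedRankLocallyConstant G) :
    ∃ (T : Over S) (_ : GrpObj T) (i : T ⟶ G), Red.IsMaximalTorus i ∧
      ∀ (R : Over S) [GrpObj R] (j : R ⟶ G) [IsMonHom j] [Mono j], Red.IsTorus R → ∃ f : R ⟶ T, f ≫ i = j := by
  obtain ⟨S', π, hπ, hπs, T', _, i', hi'⟩ := etale_of_rank hr
  haveI := hπ; haveI := hπs
  haveI : IsMonHom (𝟙 G) := inferInstance
  haveI : IsClosedImmersion (𝟙 G : G ⟶ G).left := by rw [Over.id_left]; infer_instance
  obtain ⟨T, _, i, hi⟩ := TorsionCent.exists_maximalTorus_of_central (C := G) (𝟙 G) π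
    (FpqcDescLib.isCovering_of_lfp π) i'
    (by rw [CategoryTheory.Functor.map_id, Category.comp_id]; exact hi')
    (fun g x => mul_comm _ _)
  refine ⟨T, inferInstance, i, hi, fun R _ j _ _ hR => ?_⟩
  haveI := hi.1; haveI := hi.2.1
  let u : T ⊗ R ⟶ G := (fst T R ≫ i) * (snd T R ≫ j)
  haveI : IsMonHom u := TorusQI.isMonHom_of_pts u fun Y x y => by
    simp only [u, MonObj.comp_mul, MonObj.mul_comp _ _ (fst T R ≫ i), MonObj.mul_comp _ _ (snd T R ≫ j)]
    exact mul_mul_mul_comm _ _ _ _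
  obtain ⟨Q, iQ, jQ, q, hQ, hjm, hjmono, hqm, -, hqj⟩ :=
    MultTypeImage.exists_torus_image (isTorus_prod hi.2.2.1 hR) u
  haveI := hjm; haveI := hjmono; haveI := hqm
  let a : T ⟶ Q := lift (𝟙 T) 1 ≫ q
  have ha : a ≫ jQ = i := by
    simp only [a, Category.assoc, hqj, u, MonObj.comp_mul, lift_fst_assoc, lift_snd_assoc, Category.id_comp,
      MonObj.one_comp j, _root_.mul_one]
  haveI : IsMonHom a := MaxTorusBC.isMonHom_of_mono a jQ (by rw [ha]; infer_instance)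
  haveI : IsIso a := TorusQI.isIso_of_geomFibres (TorusQI.isMultTypeFT_of_isTorus hi.2.2.1)
    (TorusQI.isMultTypeFT_of_isTorus hQ) a fun s => by
      haveI : (Over.pullback (Red.geomPt s)).IsRightAdjoint := (Over.mapPullbackAdj (Red.geomPt s)).isRightAdjoint
      exact hi.2.2.2 s _ ((Over.pullback (Red.geomPt s)).map jQ) _ (SolvGrp.isTorus_bc _ hQ)
        (by rw [← Functor.map_comp, ha])
  refine ⟨lift 1 (𝟙 R) ≫ q ≫ inv a, ?_⟩
  have hinv : inv a ≫ i = jQ := by rw [IsIso.inv_comp_eq]; exact ha.symm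
  simp only [Category.assoc, hinv, hqj, u, MonObj.comp_mul, lift_fst_assoc, lift_snd_assoc, Category.id_comp,
    MonObj.one_comp i, _root_.one_mul]

end Groth.Agent.RedRank
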