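import Groth.Agent.RedRank.Main
import Groth.Agent.GrpSchLib.HomFlatLft
import Groth.Agent.MaxTorTransp.Cartan
import Groth.Agent.FixTorus.Conn
import Groth.Agent.AGFLib.Rosen.Reduce
import Groth.Agent.S1386

/-!
# A closed subgroup which fills a connected geometric fibre fills the nearby fibres
-/

universe u

open CategoryTheory CategoryTheory.Limits MonoidalCategory CartesianMonoidalCategory MonObj AlgebraicGeometry

set_option backward.isDefEq.respectTransparency false
set_option backward.isDefEq.respectTransparency.types false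
set_option linter.style.haveILetI false
set_option synthInstance.maxHeartbeats 80000
set_option autoImplicit false

namespace Groth.Agent.RedRank

open Groth.Agent.GrpSchLib GrpLimLib

variable {S : Scheme.{u}}

/-- A point with values in a field factors through the residue field of its image. -/
theorem exists_residue_lift {K : Type u} [Field K] (b : Spec (CommRingCat.of K) ⟶ S) (s : S)
    (hs : b (IsLocalRing.closedPoint K) = s) :
    ∃ τ : Spec (CommRingCat.of K) ⟶ Spec (S.residueField s), Flat τ ∧ τ ≫ S.fromSpecResidueField s = b := by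
  subst hs
  refine ⟨Spec.map (S.descResidueField (Scheme.stalkClosedPointTo b)), ?_,
    Scheme.descResidueField_stalkClosedPointTo_fromSpecResidueField K S b⟩
  rw [HasRingHomProperty.Spec_iff (P := @Flat)]
  exact RingHom.Flat.of_isField (Field.toIsField (S.residueField _)) _

/-- A flat fibre over a field-valued point gives a flat map of fibres. -/
theorem fiberMap_flat_of_geom {A B : Over S} (f : A ⟶ B) (x : A.left) {K : Type u} [Field K]
    (b : Spec (CommRingCat.of K) ⟶ S) (hb : b (IsLocalRing.closedPoint K) = B.hom (f.left x))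
    [Flat ((Over.pullback b).map f).left] :
    ((MoreMor.fiberMap f.left B.hom (B.hom (f.left x))).stalkMap ((f.left ≫ B.hom).asFiber x)).hom.Flat := by
  let s := B.hom (f.left x)
  obtain ⟨τ, hτ, hτb⟩ := exists_residue_lift b s hb
  subst hτb
  haveI := hτ
  haveI : Surjective τ := ⟨Function.surjective_to_subsingleton (α := Spec (CommRingCat.of K))
    (β := Spec (S.residueField s)) _⟩
  let σ := τ ≫ S.fromSpecResidueField s
  let GK := Red.bc σ A
  let HK := Red.bc σ B
  let fK : GK ⟶ HK := (Over.pullback σ).map f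
  haveI : Flat fK.left := ‹Flat ((Over.pullback (τ ≫ S.fromSpecResidueField (B.hom (f.left x)))).map f).left›
  have sqf : IsPullback fK.left (pullback.fst A.hom σ) (pullback.fst B.hom σ) f.left :=
    (MaxTorusBC.isPullback_map σ f).flip
  let p : GK.left ⟶ (f.left ≫ B.hom).fiber s :=
    pullback.lift (pullback.fst A.hom σ) (pullback.snd A.hom σ ≫ τ) (by
      rw [Category.assoc, Over.w f, pullback.condition])
  let q : HK.left ⟶ B.hom.fiber s :=
    pullback.lift (pullback.fst B.hom σ) (pullback.snd B.hom σ ≫ τ) (by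
      rw [Category.assoc, pullback.condition])
  have hq : IsPullback q (pullback.snd B.hom σ) (pullback.snd B.hom (S.fromSpecResidueField s)) τ := by
    refine IsPullback.of_right ?_ (pullback.lift_snd _ _ _) (IsPullback.of_hasPullback _ _)
    rw [show q ≫ pullback.fst B.hom (S.fromSpecResidueField s) = pullback.fst B.hom σ from pullback.lift_fst _ _ _]
    exact IsPullback.of_hasPullback B.hom σ
  have hp : IsPullback p (pullback.snd A.hom σ) (pullback.snd (f.left ≫ B.hom) (S.fromSpecResidueField s)) τ := by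
    refine IsPullback.of_right ?_ (pullback.lift_snd _ _ _) (IsPullback.of_hasPullback _ _)
    rw [show p ≫ pullback.fst (f.left ≫ B.hom) (S.fromSpecResidueField s) = pullback.fst A.hom σ from pullback.lift_fst _ _ _,
      Over.w f]
    exact IsPullback.of_hasPullback A.hom σ
  haveI : Flat q := MorphismProperty.of_isPullback (P := @Flat) hq.flip ‹Flat τ›
  haveI : Flat p := MorphismProperty.of_isPullback (P := @Flat) hp.flip ‹Flat τ›
  haveI : Surjective p := MorphismProperty.of_isPullback (P := @Surjective) hp.flip ‹Surjective τ›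
  have hcomm : p ≫ MoreMor.fiberMap f.left B.hom s = fK.left ≫ q := by
    apply pullback.hom_ext
    · refine (Category.assoc _ _ _).trans ?_
      refine (congrArg (fun t => p ≫ t) (pullback.lift_fst _ _ _)).trans ?_
      refine (Category.assoc _ _ _).symm.trans ?_
      refine Eq.trans ?_ (Category.assoc _ _ _).symm
      refine Eq.trans ?_ (congrArg (fun t => fK.left ≫ t) (pullback.lift_fst _ _ _)).symm
      exact (congrArg (fun t => t ≫ f.left) (pullback.lift_fst _ _ _)).trans sqf.w.symm
    · refine (Category.assoc _ _ _).trans ?_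
      refine (congrArg (fun t => p ≫ t) ((pullback.lift_snd _ _ _).trans (Category.comp_id _))).trans ?_
      refine Eq.trans ?_ (Category.assoc _ _ _).symm
      refine Eq.trans ?_ (congrArg (fun t => fK.left ≫ t) (pullback.lift_snd _ _ _)).symm
      refine (pullback.lift_snd _ _ _).trans ?_
      exact ((congrArg (fun t => t ≫ τ) (Over.w fK)).symm.trans (Category.assoc _ _ _))
  obtain ⟨z, hz⟩ := p.surjective ((f.left ≫ B.hom).asFiber x)
  have hflat : Flat (p ≫ MoreMor.fiberMap f.left B.hom s) := by
    rw [hcomm]; infer_instance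
  have := SrcDescent.flat_of_flat_comp p (MoreMor.fiberMap f.left B.hom s) z hflat
  rw [hz] at this
  exact this

/-- A point of a pullback square over given points. -/
theorem exists_preimage_of_isPullback {P X Y Z : Scheme.{u}} {f : P ⟶ X} {g : P ⟶ Y} {h : X ⟶ Z} {k : Y ⟶ Z}
    (sq : IsPullback f g h k) (x : X) (y : Y) (e : h x = k y) : ∃ p : P, f p = x ∧ g p = y := by
  obtain ⟨w, hw₁, hw₂⟩ := Scheme.Pullback.exists_preimage_pullback (f := h) (g := k) x y e
  refine ⟨sq.isoPullback.inv w, ?_, ?_⟩
  · rw [← Scheme.Hom.comp_apply, sq.isoPullback_inv_fst, hw₁]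
  · rw [← Scheme.Hom.comp_apply, sq.isoPullback_inv_snd, hw₂]

/-- A closed subgroup which fills a fibre does so nearby, the fibres being connected. -/
theorem exists_nhd_isIso {A B : Over S} [GrpObj A] [GrpObj B] [Smooth A.hom] [Smooth B.hom] (a : A ⟶ B)
    [IsMonHom a] [IsClosedImmersion a.left] (hB : ∀ t : S, _root_.IsConnected (B.hom.base ⁻¹' {t}))
    {K : Type u} [Field K] (b₀ : Spec (CommRingCat.of K) ⟶ S)
    (hs : IsIso ((Over.pullback b₀).map a)) :
    ∃ V : S.Opens, b₀ (IsLocalRing.closedPoint K) ∈ V ∧ IsIso ((Over.pullback V.ι).map a) ∧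
      ∀ t ∈ V, IsIso ((Over.pullback (Red.geomPt t)).map a) := by
  let s : S := b₀ (IsLocalRing.closedPoint K)
  haveI : LocallyOfFinitePresentation (a.left ≫ B.hom) := by rw [Over.w a]; infer_instance
  haveI : LocallyOfFinitePresentation a.left := AlgSpPts.locallyOfFinitePresentation_of_comp a.left B.hom
  obtain ⟨hiff, hopen⟩ := Groth.Agent.S1386.result a.left B.hom
  let W : A.left.Opens := ⟨_, hopen⟩
  let eA : S ⟶ A.left := η[A].left
  let eB : S ⟶ B.left := η[B].left
  have heA : eA ≫ A.hom = 𝟙 S := Over.w η[A]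
  have heB : eB ≫ B.hom = 𝟙 S := Over.w η[B]
  have hea : eA ≫ a.left = eB := congrArg Over.Hom.left (IsMonHom.one_hom a)
  have hAf : Flat (a.left ≫ B.hom) := by rw [Over.w a]; infer_instance
  let x₀ : A.left := eA s
  have hx₀ : B.hom (a.left x₀) = s := by
    show B.hom (a.left (eA s)) = s
    rw [← Scheme.Hom.comp_apply, ← Scheme.Hom.comp_apply, ← Category.assoc, hea, heB]
    rfl
  have hW₀ : x₀ ∈ W := by
    refine (hiff x₀).1 ⟨Flat.stalkMap (a.left ≫ B.hom) x₀, ?_⟩
    haveI : IsIso ((Over.pullback b₀).map a).left :=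
      Functor.map_isIso (Over.forget _) ((Over.pullback b₀).map a)
    exact fiberMap_flat_of_geom a x₀ b₀ hx₀.symm
  haveI : Flat (W.ι ≫ a.left) := by
    refine Flat.of_stalkMap _ fun w => ?_
    rw [Scheme.Hom.stalkMap_comp]
    exact RingHom.Flat.comp w.2.2 (Flat.stalkMap W.ι w)
  haveI : LocallyOfFinitePresentation (W.ι ≫ a.left) := inferInstance
  let O : Set B.left := Set.range (W.ι ≫ a.left)
  have hO : IsOpen O := (W.ι ≫ a.left).isOpenMap.isOpen_range
  let V : S.Opens := ⟨eA ⁻¹' (W : Set A.left), W.2.preimage eA.continuous⟩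
  suffices hsec : ∀ t : S, eA t ∈ W → ∃ c : Red.geomFibre t B ⟶ Red.geomFibre t A,
      c ≫ (Over.pullback (Red.geomPt t)).map a = 𝟙 _ by
    haveI : Mono a := haveI : Mono a.left := inferInstance; Over.mono_of_mono_left _
    refine ⟨V, hW₀, ?_, fun t ht => ?_⟩
    swap
    · obtain ⟨c, hc⟩ := hsec t ht
      haveI : (Over.pullback (Red.geomPt t)).IsRightAdjoint := (Over.mapPullbackAdj (Red.geomPt t)).isRightAdjoint
      haveI : IsSplitEpi ((Over.pullback (Red.geomPt t)).map a) := IsSplitEpi.mk' ⟨c, hc⟩
      exact isIso_of_mono_of_isSplitEpi _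
    haveI : (Over.pullback V.ι).IsRightAdjoint := (Over.mapPullbackAdj V.ι).isRightAdjoint
    haveI : Smooth (Red.bc V.ι A).hom := inferInstanceAs (Smooth (pullback.snd A.hom V.ι))
    haveI : Smooth (Red.bc V.ι B).hom := inferInstanceAs (Smooth (pullback.snd B.hom V.ι))
    refine MaxTorTransp.isIso_of_fibre_sections _ fun v => ?_
    obtain ⟨σ, hσ⟩ := exists_geom_lift (Red.geomPt v ≫ V.ι) (V.ι v)
      (by rw [Scheme.Hom.comp_apply]; exact congrArg _ (Scheme.fromSpecResidueField_apply v _))
    obtain ⟨c, hc⟩ := hsec (V.ι v) v.2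
    let c₁ := (Over.pullback σ).map c
    have hc₁ : c₁ ≫ (Over.pullback σ).map ((Over.pullback (Red.geomPt (V.ι v))).map a) = 𝟙 _ := by
      rw [← Functor.map_comp, hc, CategoryTheory.Functor.map_id]
    let e₁ := cmp (rfl : Red.geomPt v ≫ V.ι = _) B
    let e₂ := cmp hσ B
    let f₁ := cmp (rfl : Red.geomPt v ≫ V.ι = _) A
    let f₂ := cmp hσ A
    refine ⟨e₁.hom ≫ e₂.inv ≫ c₁ ≫ f₂.hom ≫ f₁.inv, ?_⟩
    have n₁ := MaxTorusBC.cmp_naturality (rfl : Red.geomPt v ≫ V.ι = _) a
    have n₂ := MaxTorusBC.cmp_naturality hσ a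
    rw [← cancel_mono e₁.hom, Category.id_comp]
    simp only [Category.assoc, e₁, f₁, n₁, Iso.inv_hom_id_assoc]
    simp only [f₂, ← n₂, reassoc_of% hc₁]
    simp [e₂]
  intro t ht
  let b := Red.geomPt t
  let m := ((Over.pullback b).map a).left
  have sq := MaxTorusBC.isPullback_map b a
  haveI : IsClosedImmersion m := MorphismProperty.of_isPullback (P := @IsClosedImmersion) sq ‹_›
  haveI : Smooth (Red.geomFibre t B).hom := inferInstanceAs (Smooth (pullback.snd B.hom b))
  haveI : IsReduced (Red.geomFibre t B).left := isReduced_of_smooth_field (Red.geomFibre t B).hom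
  haveI : ConnectedSpace ↥(Red.geomFibre t B).left := FixTorus.connectedSpace_geomFibre t (hB t)
  haveI : IrreducibleSpace ↥(Red.geomFibre t B).left := AGFLib.Rosen.irreducibleSpace_of_connected
  haveI : IrreducibleSpace ↥(pullback B.hom b) := ‹IrreducibleSpace ↥(Red.geomFibre t B).left›
  let O' : Set ↥(pullback B.hom b) := pullback.fst B.hom b ⁻¹' O
  have hsub : O' ⊆ Set.range m := by
    rintro z ⟨w, hw⟩
    obtain ⟨p, -, hp⟩ := exists_preimage_of_isPullback sq (W.ι w) z (by rw [← Scheme.Hom.comp_apply]; exact hw)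
    exact ⟨p, hp⟩
  have hne : O'.Nonempty := by
    obtain ⟨z, hz, -⟩ := Scheme.Pullback.exists_preimage_pullback (f := B.hom) (g := b) (eB t)
      (IsLocalRing.closedPoint _) (by
        rw [← Scheme.Hom.comp_apply, heB]
        exact (Scheme.fromSpecResidueField_apply t _).symm)
    exact ⟨z, ⟨eA t, ht⟩, by rw [hz, ← hea]; rfl⟩
  have huniv : Set.range m = Set.univ := by
    refine Set.eq_univ_of_univ_subset ?_
    rw [← ((hO.preimage (pullback.fst B.hom b).continuous).dense hne).closure_eq]
    exact closure_minimal hsub m.isClosedEmbedding.isClosed_range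
  obtain ⟨d, hd⟩ := H23.RedSub.exists_lift_closed (𝟙 (Red.geomFibre t B).left) m (by
    rintro _ ⟨z, rfl⟩
    rw [huniv]
    trivial)
  exact ⟨Over.homMk d (by rw [← Over.w ((Over.pullback b).map a), reassoc_of% hd]), Over.OverMorphism.ext hd⟩

end Groth.Agent.RedRank
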