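import Groth.Agent.RedRank.Main
import Groth.Agent.TorusQI.SplitSubtori

/-!
# Lower semicontinuity of the reductive rank
-/

universe u

open CategoryTheory CategoryTheory.Limits MonoidalCategory CartesianMonoidalCategory MonObj AlgebraicGeometry

set_option backward.isDefEq.respectTransparency false
set_option backward.isDefEq.respectTransparency.types false
set_option linter.style.haveILetI false
set_option synthInstance.maxHeartbeats 80000
set_option autoImplicit false

namespace Groth.Agent.RedRank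

open Groth.Agent.GrpSchLib GrpLimLib MaxTorCent MaxTorTransp

variable {S : Scheme.{u}}

/-- A point in the image of a locally finite type morphism lifts to the geometric point over it. -/
theorem exists_lift_geomPt {X : Scheme.{u}} (q : X ⟶ S) [LocallyOfFiniteType q] (t : S) (ht : t ∈ Set.range q) :
    ∃ σ : Spec (CommRingCat.of (AlgebraicClosure (S.residueField t))) ⟶ X, σ ≫ q = Red.geomPt t := by
  obtain ⟨y₁, hy₁⟩ := ht
  let Ω := AlgebraicClosure (S.residueField t)
  let b := Red.geomPt t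
  haveI : Subsingleton ↥(Spec (CommRingCat.of Ω)) := inferInstanceAs (Subsingleton (PrimeSpectrum Ω))
  let p := pullback.snd q b
  haveI : LocallyOfFiniteType p := MorphismProperty.pullback_snd (P := @LocallyOfFiniteType) q b inferInstance
  obtain ⟨z, -, -⟩ := Scheme.Pullback.exists_preimage_pullback (f := q) (g := b) y₁ (IsLocalRing.closedPoint Ω)
    (hy₁.trans (Scheme.fromSpecResidueField_apply t _).symm)
  haveI : JacobsonSpace (Spec (CommRingCat.of Ω)) := inferInstanceAs (JacobsonSpace (PrimeSpectrum Ω))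
  haveI : JacobsonSpace ↥(pullback q b) := LocallyOfFiniteType.jacobsonSpace p
  obtain ⟨c, -, hc⟩ := nonempty_inter_closedPoints (Z := (Set.univ : Set ↥(pullback q b))) ⟨z, trivial⟩
    isClosed_univ.isLocallyClosed
  obtain ⟨⟨σ₀, hσ₀⟩, -⟩ := (pointEquivClosedPoint p).surjective ⟨c, hc⟩
  exact ⟨σ₀ ≫ pullback.fst q b, by rw [Category.assoc, pullback.condition, reassoc_of% hσ₀]⟩

/-- An affine smooth group over an algebraically closed field has a maximal torus. -/
theorem exists_maximal {k : Type u} [Field k] [IsAlgClosed k] (G : Over (Spec (CommRingCat.of k))) [GrpObj G]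
    [IsAffine G.left] [Smooth G.hom] [QuasiCompact G.hom] :
    ∃ (T : Over (Spec (CommRingCat.of k))) (_ : GrpObj T) (i : T ⟶ G), Red.IsMaximalTorus i := by
  obtain ⟨D, _, r, hr, hrc, hDs, hDc, hDq, -, huniv⟩ := NonAffine.exists_idSub G
  haveI := hr; haveI := hrc; haveI := hDs; haveI := hDc; haveI := hDq
  haveI : IsAffine D.left := isAffine_of_isAffineHom r.left
  haveI : Mono r := haveI : Mono r.left := inferInstance; Over.mono_of_mono_left _
  obtain ⟨T, _, i, hi⟩ := SolvGrp.exists_maxTorus_closed D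
  haveI := hi.1; haveI := hi.2.1
  refine ⟨T, inferInstance, i ≫ r, NonAffine.isMaximalTorus_of_isMaxTorus ⟨inferInstance, inferInstance, hi.2.2.1,
    fun T' _ j _ _ f hT' hf => ?_⟩⟩
  obtain ⟨ha, hs, hc, -⟩ := SolvGrp.torus_props hT'
  haveI := ha; haveI := hs; haveI := hc
  obtain ⟨j₀, hj₀, hjr⟩ := huniv T' j
  haveI := hj₀
  haveI : Mono j₀ := haveI : Mono (j₀ ≫ r) := hjr.symm ▸ ‹Mono j›; mono_of_mono j₀ r
  exact hi.2.2.2 T' j₀ f hT' (by rw [← cancel_mono r, Category.assoc, hjr, hf])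

variable {G : Over S} [GrpObj G] [IsAffineHom G.hom] [Smooth G.hom]

/-- Near a point with a maximal torus of rank `n` every geometric fibre has a split subtorus of rank `n`. -/
theorem exists_nhd_subtorus {s : S} {n : ℕ} (h : HasRank G (Red.geomPt s) n) :
    ∃ V : S.Opens, s ∈ V ∧ ∀ t ∈ V, ∃ (T : Over (Spec (CommRingCat.of (AlgebraicClosure (S.residueField t)))))
      (_ : GrpObj T) (i : T ⟶ Red.bc (Red.geomPt t) G), IsMonHom i ∧ Mono i ∧ Red.IsSplitTorusWith (Fin n → ℤ) T := by
  obtain ⟨H, _, -, hH, hHsplit, hHiso⟩ := exists_std S n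
  obtain ⟨A, υ, ⟨hυ, huniv⟩, hAs, -⟩ := Groth.Agent.S5246.result H G hH inferInstance inferInstance
  haveI := hAs
  let ε : (Over.map A.hom).obj (𝟙_ (Over A.left)) ⟶ A := Over.homMk (𝟙 A.left)
  obtain ⟨uA, huAm, huA⟩ := exists_hom A.hom ((H ◁ ε) ≫ υ) (HomRepLib.isHomFamily_comp hυ ε)
  haveI := huAm
  obtain ⟨T₀, _, i₀, hi₀, hs₀⟩ := h
  haveI := hi₀.1; haveI := hi₀.2.1
  let b := Red.geomPt s
  obtain ⟨e, he⟩ := hHiso b T₀ hs₀
  haveI := he
  haveI : IsIso e.hom := e.isIso_hom
  let u₀ : Red.bc b H ⟶ Red.bc b G := e.hom ≫ i₀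
  haveI : IsMonHom u₀ := inferInstanceAs (IsMonHom (e.hom ≫ i₀))
  haveI : Mono u₀ := inferInstanceAs (Mono (e.hom ≫ i₀))
  obtain ⟨φ₀, hφ₀, hu₀⟩ := exists_family b u₀
  obtain ⟨a₀, ha₀, -⟩ := huniv _ φ₀ hφ₀
  beta_reduce at ha₀
  have hinj := inj_of_classify υ uA huA b u₀ a₀ (fun Z z => by rw [ha₀]; exact hu₀ Z z)
  haveI : IsSeparated (Red.bc A.hom G).hom := inferInstanceAs (IsSeparated (pullback.snd G.hom A.hom))
  obtain ⟨U, hmem, hU⟩ := HomMonoLocus.main (u := uA) (MultTypeBC.isMultTypeFT_bc A.hom hH)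
  let p₀ : Spec (CommRingCat.of (AlgebraicClosure (S.residueField s))) ⟶ A.left := a₀.left
  let α : A.left := p₀ (IsLocalRing.closedPoint _)
  have hα : α ∈ U := by
    rw [hmem]
    refine HomMonoLocus.Inj.of_covers
      (Spec.map (A.left.descResidueField (Scheme.stalkClosedPointTo p₀))) (HomUnitLocus.covers_field _) ?_
    rw [Scheme.descResidueField_stalkClosedPointTo_fromSpecResidueField]
    exact hinj
  have hαs : A.hom α = s := by
    show A.hom (a₀.left _) = s
    rw [← Scheme.Hom.comp_apply, (Over.w a₀).trans (Category.id_comp b), Scheme.Hom.comp_apply]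
    exact Scheme.fromSpecResidueField_apply s _
  refine ⟨⟨Set.range (U.ι ≫ A.hom), (U.ι ≫ A.hom).isOpenMap.isOpen_range⟩, ⟨⟨α, hα⟩, hαs⟩, fun t ht => ?_⟩
  obtain ⟨σ, hσ⟩ := exists_lift_geomPt (U.ι ≫ A.hom) t ht
  let w : Spec (CommRingCat.of (AlgebraicClosure (S.residueField t))) ⟶ A.left := σ ≫ U.ι
  have hw : w ≫ A.hom = Red.geomPt t := (Category.assoc _ _ _).trans hσ
  haveI : Mono ((Over.pullback w).map uA).left := HomMonoLocus.mono_of_inj (hU.comp σ)
  haveI : Mono ((Over.pullback w).map uA) := Over.mono_of_mono_left _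
  haveI := GrpLimLib.isMonHom_cmp hw G
  exact ⟨Red.bc w (Red.bc A.hom H), inferInstance, (Over.pullback w).map uA ≫ (cmp hw G).hom, inferInstance,
    inferInstance, hHsplit A.hom w⟩

/-- The reductive rank is lower semicontinuous. -/
theorem isOpen_rank_ge (n : ℕ) :
    IsOpen {s : S | ∃ r : WithBot ℕ∞, SGA3x.HasRedRank G s r ∧ (n : WithBot ℕ∞) ≤ r} := by
  rw [isOpen_iff_forall_mem_open]
  rintro s ⟨r, hr, hnr⟩
  obtain ⟨m, hm, rfl⟩ := exists_rank hr
  obtain ⟨V, hsV, hV⟩ := exists_nhd_subtorus hm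
  refine ⟨V, fun t ht => ?_, V.2, hsV⟩
  obtain ⟨T, _, i, hi, him, hT⟩ := hV t ht
  let b := Red.geomPt t
  haveI : IsAffineHom (pullback.snd G.hom b) := MorphismProperty.pullback_snd (P := @IsAffineHom) _ _ inferInstance
  haveI : IsAffine (Red.geomFibre t G).left := isAffine_of_isAffineHom (pullback.snd G.hom b)
  haveI : Smooth (Red.geomFibre t G).hom := inferInstanceAs (Smooth (pullback.snd G.hom b))
  haveI : QuasiCompact (Red.geomFibre t G).hom := inferInstanceAs (QuasiCompact (pullback.snd G.hom b))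
  obtain ⟨T₁, _, i₁, hi₁⟩ := exists_maximal (Red.geomFibre t G)
  haveI := hi; haveI := him
  refine ⟨_, ⟨T₁, inferInstance, i₁, hi₁, rfl⟩, hnr.trans ?_⟩
  rw [← dim_split hT]
  exact dim_le (SolvGrp.isMaxTorus_of_isMaximalTorus hi₁) i
    (TorusQI.isTorus_of_locSplit (TorusQI.isLocSplit_of_split hT))

end Groth.Agent.RedRank
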