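import Groth.Agent.RedRank.IsoNhd
import Groth.Agent.RedRank.Semi
import Groth.Agent.MaxTorTransp.Descend
import Groth.Agent.NonAffine.Cent
import Groth.Agent.MultTypeLib.SubgroupTransporter

/-!
# A smooth subgroup which is a Cartan subgroup of one fibre is one nearby
-/

universe u

open CategoryTheory CategoryTheory.Limits MonoidalCategory CartesianMonoidalCategory MonObj AlgebraicGeometry

set_option backward.isDefEq.respectTransparency false
set_option backward.isDefEq.respectTransparency.types false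
set_option linter.style.haveILetI false
set_option synthInstance.maxHeartbeats 80000
set_option autoImplicit false

namespace Groth.Agent.RedRank

open Groth.Agent.GrpSchLib GrpLimLib MaxTorCent MaxTorTransp

variable {S : Scheme.{u}}

/-- The fibres of a centraliser of a torus in a group with connected fibres are connected. -/
theorem isConnected_centralizer {G T C : Over S} [GrpObj G] [GrpObj T] [GrpObj C] [Smooth G.hom]
    [QuasiCompact G.hom] (hconn : ∀ t : S, _root_.IsConnected (G.hom.base ⁻¹' {t})) (i : T ⟶ G) [IsMonHom i]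
    (hT : Red.IsTorus T) {c : C ⟶ G} (hc : Red.IsCentralizerOf i c) (t : S) :
    _root_.IsConnected (C.hom.base ⁻¹' {t}) := by
  let b := Red.geomPt t
  haveI : Smooth (Red.geomFibre t G).hom := inferInstanceAs (Smooth (pullback.snd G.hom b))
  haveI : QuasiCompact (Red.geomFibre t G).hom := inferInstanceAs (QuasiCompact (pullback.snd G.hom b))
  haveI := FixTorus.connectedSpace_geomFibre t (hconn t)
  haveI : ConnectedSpace ↥(Red.geomFibre t C).left :=
    (NonAffine.smooth_connected_centralizer ((Over.pullback b).map i) (SolvGrp.isTorus_bc b hT)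
      (SolvGrp.isCentralizerOf_bc b i c hc)).2
  exact FixTorus.isConnected_preimage_of_geomFibre C t

section Geom

variable {G C : Over S} [GrpObj G] [GrpObj C] [Smooth G.hom] [IsSeparated G.hom] [QuasiCompact G.hom] (c : C ⟶ G)
  [IsMonHom c] [Mono c]

/-- Cartan subgroups are stable under extensions of algebraically closed fields. -/
theorem cartanOver_trans {K L : Type u} [Field K] [IsAlgClosed K] [Field L] [IsAlgClosed L]
    {b : Spec (CommRingCat.of K) ⟶ S} {b' : Spec (CommRingCat.of L) ⟶ S}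
    (σ : Spec (CommRingCat.of L) ⟶ Spec (CommRingCat.of K)) (hσ : σ ≫ b = b')
    (h : SGA3x.IsCartanOver K ((Over.pullback b).map c)) : SGA3x.IsCartanOver L ((Over.pullback b').map c) := by
  haveI : (Over.pullback b).IsRightAdjoint := (Over.mapPullbackAdj b).isRightAdjoint
  haveI : (Over.pullback b').IsRightAdjoint := (Over.mapPullbackAdj b').isRightAdjoint
  haveI : (Over.pullback σ).IsRightAdjoint := (Over.mapPullbackAdj σ).isRightAdjoint
  obtain ⟨h1, h2, U, _, u, hU, hcen⟩ := h
  haveI := h1; haveI := h2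
  haveI : LocallyOfFinitePresentation (Red.bc b G).hom :=
    inferInstanceAs (LocallyOfFinitePresentation (pullback.snd G.hom b))
  haveI : QuasiCompact (Red.bc b G).hom := inferInstanceAs (QuasiCompact (pullback.snd G.hom b))
  haveI : IsSeparated (Red.bc b G).hom := inferInstanceAs (IsSeparated (pullback.snd G.hom b))
  have hσc : SGA3x.IsCartanOver L ((Over.pullback σ).map ((Over.pullback b).map c)) :=
    ⟨inferInstance, inferInstance, Red.bc σ U, inferInstance, (Over.pullback σ).map u,
      MaxTorCent.isMaximalTorus_bc hU σ, SolvGrp.isCentralizerOf_bc σ u _ hcen⟩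
  haveI := isMonHom_cmp_hom hσ G
  exact MaxTorTransp.isCartanOver_of_iso hσc (cmp hσ C) (cmp hσ G) (MaxTorusBC.cmp_naturality hσ c).symm

/-- A Cartan subgroup of one geometric fibre is one of all of them over the same point. -/
theorem cartanOver_geom {s : S} (h : SGA3x.IsCartanOver _ ((Over.pullback (Red.geomPt s)).map c)) {K : Type u}
    [Field K] [IsAlgClosed K] (b : Spec (CommRingCat.of K) ⟶ S) (hb : b (IsLocalRing.closedPoint K) = s) :
    SGA3x.IsCartanOver K ((Over.pullback b).map c) := by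
  obtain ⟨σ, hσ⟩ := exists_geom_lift b s hb
  exact cartanOver_trans c σ hσ h

/-- Iterated base change of a Cartan subgroup. -/
theorem cartanOver_cmp {K : Type u} [Field K] [IsAlgClosed K] {S' : Scheme.{u}} {f : S' ⟶ S}
    {b : Spec (CommRingCat.of K) ⟶ S'} {k : Spec (CommRingCat.of K) ⟶ S} (e : b ≫ f = k) :
    SGA3x.IsCartanOver K ((Over.pullback b).map ((Over.pullback f).map c)) ↔
      SGA3x.IsCartanOver K ((Over.pullback k).map c) := by
  haveI : (Over.pullback f).IsRightAdjoint := (Over.mapPullbackAdj f).isRightAdjoint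
  haveI : (Over.pullback b).IsRightAdjoint := (Over.mapPullbackAdj b).isRightAdjoint
  haveI := isMonHom_cmp_hom e G
  refine ⟨fun h => MaxTorTransp.isCartanOver_of_iso h (cmp e C) (cmp e G) (MaxTorusBC.cmp_naturality e c).symm,
    fun h => ?_⟩
  haveI : IsMonHom (cmp e G).symm.hom := inferInstanceAs (IsMonHom (cmp e G).inv)
  refine MaxTorTransp.isCartanOver_of_iso h (cmp e C).symm (cmp e G).symm ?_
  rw [Iso.symm_hom, Iso.symm_hom, Iso.inv_comp_eq, ← Category.assoc, ← MaxTorusBC.cmp_naturality e c,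
    Category.assoc, Iso.hom_inv_id, Category.comp_id]

end Geom

set_option maxHeartbeats 800000 in
/-- With a maximal torus: near a Cartan fibre the fibres of a smooth closed subgroup are Cartan. -/
theorem exists_etale_cartan_nhd {G C T : Over S} [GrpObj G] [GrpObj C] [GrpObj T] [Smooth G.hom]
    [IsSeparated G.hom] [QuasiCompact G.hom] (hconn : ∀ t : S, _root_.IsConnected (G.hom.base ⁻¹' {t}))
    (c : C ⟶ G) [IsMonHom c] [IsClosedImmersion c.left] [Smooth C.hom]
    (hCconn : ∀ t : S, _root_.IsConnected (C.hom.base ⁻¹' {t})) {i : T ⟶ G} (hi : Red.IsMaximalTorus i) (s : S)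
    (hs : SGA3x.IsCartanOver _ ((Over.pullback (Red.geomPt s)).map c)) :
    ∃ U : S.Opens, s ∈ U ∧ ∀ t ∈ U, SGA3x.IsCartanOver _ ((Over.pullback (Red.geomPt t)).map c) := by
  haveI : Mono c := haveI : Mono c.left := inferInstance; Over.mono_of_mono_left _
  haveI := hi.1; haveI := hi.2.1
  -- conjugate the torus into the subgroup on the fibre
  obtain ⟨M, m, -, hMs, hM⟩ := exists_transporter i hi.2.2.1 c
  haveI := hMs
  obtain ⟨s₀, hs₀⟩ : s ∈ Set.range M.hom := by
    let b := Red.geomPt s
    haveI : Smooth (Red.geomFibre s G).hom := inferInstanceAs (Smooth (pullback.snd G.hom b))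
    haveI : QuasiCompact (Red.geomFibre s G).hom := inferInstanceAs (QuasiCompact (pullback.snd G.hom b))
    obtain ⟨h1, h2, U, _, u, hU, hcen⟩ := id hs
    haveI := h1; haveI := h2; haveI := hU.1
    obtain ⟨g, φ, hφ⟩ := MaxTorTransp.exists_conj_maxTorus
      (SolvGrp.isMaxTorus_of_isMaximalTorus (isMaximalTorus_geomFibre hi s))
      (SolvGrp.isMaxTorus_of_isMaximalTorus hU)
    obtain ⟨u', hu'⟩ := (hcen.2.2 U u).mpr fun X' x h => by
      rw [← MonObj.mul_comp, ← MonObj.mul_comp,
        MultTypeComm.points_comm (TorusQI.isMultTypeFT_of_isTorus hU.2.2.1)]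
    obtain ⟨z, -⟩ := (hM _ _).mpr ((into_iff c i b g).mpr ⟨φ.hom ≫ u', by
      rw [Category.assoc, hu', hφ, comp_conjEnd]⟩)
    refine ⟨z.left (IsLocalRing.closedPoint (AlgebraicClosure (S.residueField s))), ?_⟩
    rw [← Scheme.Hom.comp_apply, Over.w z]
    show (𝟙 _ ≫ Red.geomPt s) _ = s
    rw [Category.id_comp]
    exact Scheme.fromSpecResidueField_apply s _
  obtain ⟨S'', q, s'', hq, hqs, h, hh⟩ := Groth.Agent.S0412.result M.hom s ⟨s₀, hs₀⟩
  haveI := hq
  let z : (Over.map q).obj (𝟙_ (Over S'')) ⟶ M := Over.homMk h (by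
    show h ≫ M.hom = 𝟙 _ ≫ q
    rw [Category.id_comp, hh])
  obtain ⟨g, hg⟩ := (DSPtsLib.theta_bijective (g := q) (Y := 𝟙_ (Over S'')) (H := G)).2 (z ≫ m)
  obtain ⟨β, hβ⟩ := (into_iff c i q g).mp (by rw [hg]; exact (hM _ _).mp ⟨z, rfl⟩)
  let F := Over.pullback q
  haveI : F.IsRightAdjoint := (Over.mapPullbackAdj q).isRightAdjoint
  haveI : Smooth (F.obj G).hom := inferInstanceAs (Smooth (pullback.snd G.hom q))
  haveI : IsSeparated (F.obj G).hom := inferInstanceAs (IsSeparated (pullback.snd G.hom q))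
  haveI : QuasiCompact (F.obj G).hom := inferInstanceAs (QuasiCompact (pullback.snd G.hom q))
  haveI : Smooth (F.obj C).hom := inferInstanceAs (Smooth (pullback.snd C.hom q))
  haveI : IsClosedImmersion (F.map c).left :=
    MorphismProperty.of_isPullback (P := @IsClosedImmersion) (MaxTorusBC.isPullback_map q c) ‹IsClosedImmersion c.left›
  haveI : IsSeparated (F.obj C).hom := by rw [← Over.w (F.map c)]; infer_instance
  have hmax := isMaximalTorus_comp_iso (MaxTorCent.isMaximalTorus_bc hi q) (conjEnd g)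
  haveI := hmax.1; haveI := hmax.2.1
  haveI : IsMonHom β := MaxTorusBC.isMonHom_of_mono β (F.map c) (by rw [hβ]; exact hmax.1)
  have hTq : Red.IsTorus (F.obj T) := SolvGrp.isTorus_bc q hi.2.2.1
  obtain ⟨C₁, _, c₁, hc₁, hc₁cl, hc₁cart, -⟩ := exists_cartan (F.obj G) hmax
  haveI := hc₁.1; haveI := hc₁.2.1; haveI := hc₁cl; haveI := hc₁cart.2.2.1
  obtain ⟨D, _, d, hd, hdcl, hdsm⟩ := exists_centralizer β (TorusQI.isMultTypeFT_of_isTorus hTq)
  haveI := hd.1; haveI := hd.2.1; haveI := hdcl; haveI := hdsm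
  obtain ⟨j, hj⟩ := (hc₁.2.2 D (d ≫ F.map c)).mpr fun X' x a => by
    have h := (hd.2.2 D d).mp ⟨𝟙 D, Category.id_comp d⟩ X' x a
    have h' := congrArg (· ≫ F.map c) h
    rw [MonObj.mul_comp, MonObj.mul_comp] at h'
    rw [← hβ]
    simpa only [Category.assoc] using h'
  haveI : IsMonHom j := MaxTorusBC.isMonHom_of_mono j c₁ (by rw [hj]; infer_instance)
  haveI : IsClosedImmersion j.left := by
    haveI : IsClosedImmersion (j.left ≫ c₁.left) := by
      rw [← Over.comp_left, hj, Over.comp_left]; infer_instance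
    exact IsClosedImmersion.of_comp j.left c₁.left
  -- on the fibre over the point all three agree
  let b := Red.geomPt s''
  let E := Over.pullback b
  haveI : E.IsRightAdjoint := (Over.mapPullbackAdj b).isRightAdjoint
  have hC'' : SGA3x.IsCartanOver _ (E.map (F.map c)) :=
    (cartanOver_cmp c (rfl : b ≫ q = _)).2 (cartanOver_geom c hs (b ≫ q) (by
      rw [Scheme.Hom.comp_apply, ← hqs]
      exact congrArg _ (Scheme.fromSpecResidueField_apply s'' _)))
  haveI : Smooth (E.obj (F.obj G)).hom := inferInstanceAs (Smooth (pullback.snd (F.obj G).hom b))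
  haveI : QuasiCompact (E.obj (F.obj G)).hom := inferInstanceAs (QuasiCompact (pullback.snd (F.obj G).hom b))
  have hβc : E.map β ≫ E.map (F.map c) = E.map (F.map i ≫ conjEnd g) := by
    rw [← Functor.map_comp, hβ]
  have hcC : Red.IsCentralizerOf (E.map (F.map i ≫ conjEnd g)) (E.map (F.map c)) := by
    have := MaxTorTransp.isCentralizerOf_of_cartanOver hC'' (E.map β)
      (by rw [hβc]; exact isMaximalTorus_geomFibre hmax s'')
    rwa [hβc] at this
  have hdb := SolvGrp.isCentralizerOf_bc b β d hd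
  obtain ⟨d', hd'⟩ := (hdb.2.2 _ (𝟙 (E.obj (F.obj C)))).mpr fun X' x a => by
    rw [← cancel_mono (E.map (F.map c)), MonObj.mul_comp, MonObj.mul_comp, Category.comp_id]
    have h := (hcC.2.2 _ (E.map (F.map c))).mp ⟨𝟙 _, Category.id_comp _⟩ X' x a
    rw [← hβc] at h
    simpa only [Category.assoc] using h
  haveI : IsIso (E.map d) :=
    haveI : IsSplitEpi (E.map d) := IsSplitEpi.mk' ⟨d', hd'⟩
    isIso_of_mono_of_isSplitEpi _
  obtain ⟨e, he⟩ := SolvGrp.centralizer_unique (SolvGrp.isCentralizerOf_bc b _ c₁ hc₁) hcC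
  haveI : Mono j := haveI : Mono j.left := inferInstance; Over.mono_of_mono_left _
  haveI : IsIso (E.map j) :=
    haveI : IsSplitEpi (E.map j) := IsSplitEpi.mk' ⟨e.hom ≫ inv (E.map d), by
      rw [← cancel_mono (E.map c₁), Category.assoc, Category.assoc, ← Functor.map_comp, hj, Functor.map_comp,
        IsIso.inv_hom_id_assoc, he, Category.id_comp]⟩
    isIso_of_mono_of_isSplitEpi _
  have hC''conn : ∀ t, _root_.IsConnected ((F.obj C).hom.base ⁻¹' {t}) := fun t =>
    SmoothWeilLib.isConnected_preimage_snd hCconn q t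
  have hGconn : ∀ t, _root_.IsConnected ((F.obj G).hom.base ⁻¹' {t}) := fun t =>
    SmoothWeilLib.isConnected_preimage_snd hconn q t
  obtain ⟨V₁, hsV₁, -, hV₁⟩ := exists_nhd_isIso d hC''conn b inferInstance
  obtain ⟨V₂, hsV₂, -, hV₂⟩ := exists_nhd_isIso j
    (fun t => isConnected_centralizer hGconn _ hTq hc₁ t) b inferInstance
  let V := V₁ ⊓ V₂
  refine ⟨⟨Set.range (V.ι ≫ q), (V.ι ≫ q).isOpenMap.isOpen_range⟩,
    ⟨⟨b (IsLocalRing.closedPoint _), hsV₁, hsV₂⟩, (congrArg q (Scheme.fromSpecResidueField_apply s'' _)).trans hqs⟩,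
    fun t ht => ?_⟩
  obtain ⟨τ, hτ⟩ := exists_lift_geomPt (V.ι ≫ q) t ht
  let y : (V : Scheme.{u}) := τ (IsLocalRing.closedPoint _)
  let b' := Red.geomPt (V.ι y)
  haveI : (Over.pullback b').IsRightAdjoint := (Over.mapPullbackAdj b').isRightAdjoint
  haveI := hV₁ (V.ι y) y.2.1
  haveI := hV₂ (V.ι y) y.2.2
  haveI : IsMonHom (Iso.refl ((Over.pullback b').obj (F.obj G))).hom :=
    inferInstanceAs (IsMonHom (𝟙 ((Over.pullback b').obj (F.obj G))))
  have hy : SGA3x.IsCartanOver _ ((Over.pullback b').map (F.map c)) := by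
    refine MaxTorTransp.isCartanOver_of_iso (hc₁cart.2.2.2 (V.ι y))
      ((asIso ((Over.pullback b').map j)).symm ≪≫ asIso ((Over.pullback b').map d)) (Iso.refl _) ?_
    show (inv ((Over.pullback b').map j) ≫ (Over.pullback b').map d) ≫ _ = _ ≫ 𝟙 _
    rw [Category.assoc, ← Functor.map_comp, ← hj, Functor.map_comp, IsIso.inv_hom_id_assoc, Category.comp_id]
  have h1 : SGA3x.IsCartanOver _ ((Over.pullback (τ ≫ V.ι)).map (F.map c)) :=
    cartanOver_geom (F.map c) hy (τ ≫ V.ι) (Scheme.Hom.comp_apply _ _ _)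
  exact (cartanOver_cmp c ((Category.assoc _ _ _).trans hτ)).1 h1

/-- A smooth closed subgroup with connected fibres which is Cartan on one fibre is Cartan nearby. -/
theorem exists_isCartan_nhd {G C : Over S} [GrpObj G] [GrpObj C] [Smooth G.hom] [IsSeparated G.hom]
    [QuasiCompact G.hom] (hconn : ∀ t : S, _root_.IsConnected (G.hom.base ⁻¹' {t}))
    (hG : SGA3x.HasMaxTorusFpqcLocally G) (c : C ⟶ G) [IsMonHom c] [IsClosedImmersion c.left] [Smooth C.hom]
    (hCconn : ∀ t : S, _root_.IsConnected (C.hom.base ⁻¹' {t})) (s : S)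
    (hs : SGA3x.IsCartanOver _ ((Over.pullback (Red.geomPt s)).map c)) :
    ∃ U : S.Opens, s ∈ U ∧ SGA3x.IsCartan ((Over.pullback U.ι).map c) := by
  haveI : Mono c := haveI : Mono c.left := inferInstance; Over.mono_of_mono_left _
  obtain ⟨S', f, hf, hfs, T, _, i, hi⟩ := TorsionCent.etale_locally hG
  haveI := hf
  obtain ⟨s', hs'⟩ := hfs.surj s
  let F := Over.pullback f
  haveI : Smooth (F.obj G).hom := inferInstanceAs (Smooth (pullback.snd G.hom f))
  haveI : IsSeparated (F.obj G).hom := inferInstanceAs (IsSeparated (pullback.snd G.hom f))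
  haveI : QuasiCompact (F.obj G).hom := inferInstanceAs (QuasiCompact (pullback.snd G.hom f))
  haveI : Smooth (F.obj C).hom := inferInstanceAs (Smooth (pullback.snd C.hom f))
  haveI : IsClosedImmersion (F.map c).left :=
    MorphismProperty.of_isPullback (P := @IsClosedImmersion) (MaxTorusBC.isPullback_map f c) ‹IsClosedImmersion c.left›
  haveI : F.IsRightAdjoint := (Over.mapPullbackAdj f).isRightAdjoint
  obtain ⟨U', hsU', hU'⟩ := exists_etale_cartan_nhd (SmoothWeilLib.isConnected_preimage_snd hconn f) (F.map c)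
    (SmoothWeilLib.isConnected_preimage_snd hCconn f) hi s'
    ((cartanOver_cmp c (rfl : Red.geomPt s' ≫ f = _)).2 (cartanOver_geom c hs (Red.geomPt s' ≫ f) (by
      rw [Scheme.Hom.comp_apply, ← hs']
      exact congrArg _ (Scheme.fromSpecResidueField_apply s' _))))
  let U : S.Opens := ⟨Set.range (U'.ι ≫ f), (U'.ι ≫ f).isOpenMap.isOpen_range⟩
  refine ⟨U, ⟨⟨s', hsU'⟩, hs'⟩, ?_⟩
  haveI : (Over.pullback U.ι).IsRightAdjoint := (Over.mapPullbackAdj U.ι).isRightAdjoint
  refine ⟨inferInstance, inferInstance, inferInstanceAs (Smooth (pullback.snd C.hom U.ι)), fun u => ?_⟩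
  obtain ⟨τ, hτ⟩ := exists_lift_geomPt (U'.ι ≫ f) (U.ι u) u.2
  let y : (U' : Scheme.{u}) := τ (IsLocalRing.closedPoint _)
  have h1 : SGA3x.IsCartanOver _ ((Over.pullback (τ ≫ U'.ι)).map (F.map c)) :=
    cartanOver_geom (F.map c) (hU' (U'.ι y) y.2) (τ ≫ U'.ι) (Scheme.Hom.comp_apply _ _ _)
  have h2 : SGA3x.IsCartanOver _ ((Over.pullback (Red.geomPt (U.ι u))).map c) :=
    (cartanOver_cmp c ((Category.assoc _ _ _).trans hτ)).1 h1
  exact (cartanOver_cmp c (rfl : Red.geomPt u ≫ U.ι = _)).2 (cartanOver_geom c h2 _ (by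
    rw [Scheme.Hom.comp_apply]
    exact congrArg _ (Scheme.fromSpecResidueField_apply u _)))

end Groth.Agent.RedRank
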