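import Groth.Agent.RedRank.IsoNhd
import Groth.Agent.RedRank.Semi
import Groth.Agent.RedRank.CartanNhd
import Groth.Agent.MultTypeLib.SubgroupTransporter

/-!
# Étale-local split maximal tori near a fibre whose maximal tori are their own centralisers
-/

universe u

open CategoryTheory CategoryTheory.Limits MonoidalCategory CartesianMonoidalCategory MonObj AlgebraicGeometry

set_option backward.isDefEq.respectTransparency false
set_option backward.isDefEq.respectTransparency.types false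
set_option linter.style.haveILetI false
set_option synthInstance.maxHeartbeats 80000
set_option autoImplicit false

namespace Groth.Agent.RedRank

open Groth.Agent.GrpSchLib GrpLimLib MaxTorCent MaxTorTransp

variable {S : Scheme.{u}}

/-- A torus of the dimension of a maximal torus is maximal. -/
theorem isMaximalTorus_of_dim {k : Type u} [Field k] [IsAlgClosed k] {G T T₁ : Over (Spec (CommRingCat.of k))}
    [GrpObj G] [GrpObj T] [GrpObj T₁] [IsAffine G.left] [Smooth G.hom] [QuasiCompact G.hom] (j : T ⟶ G) [IsMonHom j]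
    [Mono j] (hT : Red.IsTorus T) {i₁ : T₁ ⟶ G} (h₁ : Red.IsMaximalTorus i₁)
    (hd : topologicalKrullDim T.left = topologicalKrullDim T₁.left) : Red.IsMaximalTorus j := by
  refine NonAffine.isMaximalTorus_of_isMaxTorus ⟨inferInstance, inferInstance, hT, fun T' _ j' _ _ f hT' hf => ?_⟩
  haveI : IsMonHom f := MaxTorusBC.isMonHom_of_mono f j' (by rw [hf]; infer_instance)
  haveI : Mono (f ≫ j') := hf.symm ▸ ‹Mono j›
  haveI : Mono f := mono_of_mono f j'
  refine isIso_of_dim hT hT' f (le_antisymm ?_ ?_)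
  · obtain ⟨ha, hs, hc, -⟩ := SolvGrp.torus_props hT'
    obtain ⟨ha', hs', hc', -⟩ := SolvGrp.torus_props hT
    haveI := ha; haveI := hs; haveI := hc; haveI := ha'; haveI := hs'; haveI := hc'
    haveI : IsClosedImmersion f.left := DomHom.isClosedImmersion_of_mono f
    exact f.left.isClosedEmbedding.isInducing.topologicalKrullDim_le
  · rw [hd]
    exact dim_le (SolvGrp.isMaxTorus_of_isMaximalTorus h₁) j' hT'

variable {G : Over S} [GrpObj G] [IsAffineHom G.hom] [Smooth G.hom]

/-- A maximal torus of a geometric fibre lifts to an étale neighbourhood as a torus which splits on every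
scheme over it. -/
theorem exists_etale_subtorus {s : S} {n : ℕ} (h : HasRank G (Red.geomPt s) n) :
    ∃ (S' : Scheme.{u}) (g : S' ⟶ S), Etale g ∧ s ∈ Set.range g ∧
      ∃ (H : Over S') (_ : GrpObj H) (i : H ⟶ Red.bc g G), IsMonHom i ∧ Mono i ∧ Red.IsTorus H ∧
        ∀ {U' : Scheme.{u}} (b : U' ⟶ S'), Red.IsSplitTorusWith (Fin n → ℤ) (Red.bc b H) := by
  obtain ⟨H, _, hHtor, hH, hHsplit, hHiso⟩ := exists_std S n
  obtain ⟨A, υ, ⟨hυ, huniv⟩, hAs, -⟩ := Groth.Agent.S5246.result H G hH inferInstance inferInstance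
  haveI := hAs
  let ε : (Over.map A.hom).obj (𝟙_ (Over A.left)) ⟶ A := Over.homMk (𝟙 A.left)
  obtain ⟨uA, huAm, huA⟩ := exists_hom A.hom ((H ◁ ε) ≫ υ) (HomRepLib.isHomFamily_comp hυ ε)
  haveI := huAm
  obtain ⟨T₀, _, i₀, hi₀, hs₀⟩ := h
  haveI := hi₀.1; haveI := hi₀.2.1
  let b := Red.geomPt s
  obtain ⟨e, he⟩ := hHiso b T₀ hs₀
  haveI := he
  haveI : IsIso e.hom := e.isIso_hom
  let u₀ : Red.bc b H ⟶ Red.bc b G := e.hom ≫ i₀
  haveI : IsMonHom u₀ := inferInstanceAs (IsMonHom (e.hom ≫ i₀))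
  haveI : Mono u₀ := inferInstanceAs (Mono (e.hom ≫ i₀))
  obtain ⟨φ₀, hφ₀, hu₀⟩ := exists_family b u₀
  obtain ⟨a₀, ha₀, -⟩ := huniv _ φ₀ hφ₀
  beta_reduce at ha₀
  have hinj := inj_of_classify υ uA huA b u₀ a₀ (fun Z z => by rw [ha₀]; exact hu₀ Z z)
  haveI : IsSeparated (Red.bc A.hom G).hom := inferInstanceAs (IsSeparated (pullback.snd G.hom A.hom))
  obtain ⟨U, hmem, hU⟩ := HomMonoLocus.main (u := uA) (MultTypeBC.isMultTypeFT_bc A.hom hH)
  let p₀ : Spec (CommRingCat.of (AlgebraicClosure (S.residueField s))) ⟶ A.left := a₀.left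
  let α : A.left := p₀ (IsLocalRing.closedPoint _)
  have hα : α ∈ U := by
    rw [hmem]
    refine HomMonoLocus.Inj.of_covers
      (Spec.map (A.left.descResidueField (Scheme.stalkClosedPointTo p₀))) (HomUnitLocus.covers_field _) ?_
    rw [Scheme.descResidueField_stalkClosedPointTo_fromSpecResidueField]
    exact hinj
  have hαs : A.hom α = s := by
    show A.hom (a₀.left _) = s
    rw [← Scheme.Hom.comp_apply, (Over.w a₀).trans (Category.id_comp b), Scheme.Hom.comp_apply]
    exact Scheme.fromSpecResidueField_apply s _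
  obtain ⟨S', g, s₀, hg, hgs, h, hh⟩ := Groth.Agent.S0412.result (U.ι ≫ A.hom) s ⟨⟨α, hα⟩, hαs⟩
  haveI := hg
  refine ⟨S', g, hg, ⟨s₀, hgs⟩, ?_⟩
  let w : S' ⟶ A.left := h ≫ U.ι
  have hw : w ≫ A.hom = g := (Category.assoc _ _ _).trans hh
  haveI : Mono ((Over.pullback w).map uA).left := HomMonoLocus.mono_of_inj (hU.comp h)
  haveI : Mono ((Over.pullback w).map uA) := Over.mono_of_mono_left _
  haveI := GrpLimLib.isMonHom_cmp hw G
  haveI := GrpLimLib.isMonHom_cmp hw H
  haveI : IsMonHom (cmp hw H).inv := TorsionCent.isMonHom_inv_of _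
  haveI : Mono ((Over.pullback w).map uA ≫ (cmp hw G).hom) := mono_comp _ _
  haveI : Mono ((cmp hw H).inv ≫ (Over.pullback w).map uA ≫ (cmp hw G).hom) := mono_comp _ _
  exact ⟨Red.bc g H, inferInstance, (cmp hw H).inv ≫ (Over.pullback w).map uA ≫ (cmp hw G).hom, inferInstance,
    inferInstance, SolvGrp.isTorus_bc g hHtor, fun b => hHsplit g b⟩

set_option maxHeartbeats 800000 in
/-- Near a fibre whose maximal tori are their own centralisers there is étale locally a split maximal torus. -/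
theorem exists_split_maximal (hconn : ∀ t : S, _root_.IsConnected (G.hom.base ⁻¹' {t})) (s₀ : S)
    (hc : ∀ (T : Over (Spec (CommRingCat.of (AlgebraicClosure (S.residueField s₀))))) [GrpObj T]
      (i : T ⟶ Red.geomFibre s₀ G), Red.IsMaximalTorus i → ∀ (X : Over _) (g : X ⟶ Red.geomFibre s₀ G),
        (∀ (X' : Over _) (x : X' ⟶ X) (t : X' ⟶ T), (x ≫ g) * (t ≫ i) = (t ≫ i) * (x ≫ g)) →
          ∃ t : X ⟶ T, g = t ≫ i) :
    ∃ (B : Type u) (_ : CommRing B) (v : Spec (CommRingCat.of B) ⟶ S), Etale v ∧ s₀ ∈ Set.range v.base ∧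
      ∃ (T : Over (Spec (CommRingCat.of B))) (_ : GrpObj T) (i : T ⟶ Red.bc v G), Red.IsMaximalTorus i ∧
        ∃ r : ℕ, Red.IsSplitTorusWith (Fin r → ℤ) T := by
  let b₀ := Red.geomPt s₀
  haveI : IsAffineHom (pullback.snd G.hom b₀) := MorphismProperty.pullback_snd (P := @IsAffineHom) _ _ inferInstance
  haveI : IsAffine (Red.geomFibre s₀ G).left := isAffine_of_isAffineHom (pullback.snd G.hom b₀)
  haveI : Smooth (Red.geomFibre s₀ G).hom := inferInstanceAs (Smooth (pullback.snd G.hom b₀))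
  haveI : QuasiCompact (Red.geomFibre s₀ G).hom := inferInstanceAs (QuasiCompact (pullback.snd G.hom b₀))
  obtain ⟨T₁, _, i₁, hi₁⟩ := exists_maximal (Red.geomFibre s₀ G)
  obtain ⟨n, hn, hdim⟩ := exists_dim hi₁.2.2.1
  obtain ⟨S', g, hg, hgs, H, _, i, hi, him, hH, hsplit⟩ := exists_etale_subtorus ⟨T₁, inferInstance, i₁, hi₁, hn⟩
  haveI := hg; haveI := hi; haveI := him
  let F := Over.pullback g
  haveI : Smooth (Red.bc g G).hom := inferInstanceAs (Smooth (pullback.snd G.hom g))
  haveI : IsAffineHom (Red.bc g G).hom := MorphismProperty.pullback_snd (P := @IsAffineHom) _ _ inferInstance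
  haveI : IsClosedImmersion i.left :=
    MultTypeLib.SubgroupTransporter.isClosedImmersion_of_mono (TorusQI.isMultTypeFT_of_isTorus hH) i
  obtain ⟨C, _, c, hcC, hcl, hsm⟩ := exists_centralizer i (TorusQI.isMultTypeFT_of_isTorus hH)
  haveI := hcC.1; haveI := hcC.2.1; haveI := hcl; haveI := hsm
  obtain ⟨a, ha⟩ := (hcC.2.2 H i).mpr fun X' x h => by
    rw [← MonObj.mul_comp, ← MonObj.mul_comp, MultTypeComm.points_comm (TorusQI.isMultTypeFT_of_isTorus hH)]
  haveI : IsMonHom a := MaxTorusBC.isMonHom_of_mono a c (by rw [ha]; infer_instance)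
  haveI : IsClosedImmersion a.left := by
    haveI : IsClosedImmersion (a.left ≫ c.left) := by rw [← Over.comp_left, ha]; infer_instance
    exact IsClosedImmersion.of_comp a.left c.left
  haveI : Smooth H.hom := FixTorus.smooth_of_isTorus hH
  -- the fibre over the chosen point
  obtain ⟨τ, hτ⟩ := exists_lift_geomPt g s₀ hgs
  let P := Over.pullback τ
  haveI : P.IsRightAdjoint := (Over.mapPullbackAdj τ).isRightAdjoint
  haveI := GrpLimLib.isMonHom_cmp hτ G
  let u₀ : Red.bc τ H ⟶ Red.geomFibre s₀ G := P.map i ≫ (cmp hτ G).hom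
  haveI : IsMonHom u₀ := inferInstanceAs (IsMonHom (P.map i ≫ (cmp hτ G).hom))
  haveI : Mono u₀ := inferInstanceAs (Mono (P.map i ≫ (cmp hτ G).hom))
  have hu₀ : Red.IsMaximalTorus u₀ := isMaximalTorus_of_dim u₀ (SolvGrp.isTorus_bc τ hH) hi₁
    ((dim_split (hsplit τ)).trans hdim.symm)
  haveI : Mono a := haveI : Mono a.left := inferInstance; Over.mono_of_mono_left _
  haveI : IsIso (P.map a) := by
    obtain ⟨t, ht⟩ := hc _ u₀ hu₀ (P.obj C) (P.map c ≫ (cmp hτ G).hom) fun X' x h => by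
      have h1 := ((SolvGrp.isCentralizerOf_bc τ i c hcC).2.2 _ (P.map c)).mp ⟨𝟙 _, Category.id_comp _⟩ X' x h
      have h2 := congrArg (· ≫ (cmp hτ G).hom) h1
      rw [MonObj.mul_comp, MonObj.mul_comp] at h2
      simpa only [u₀, Category.assoc] using h2
    haveI : IsSplitEpi (P.map a) := IsSplitEpi.mk' ⟨t, by
      rw [← cancel_mono (P.map c ≫ (cmp hτ G).hom), Category.id_comp, Category.assoc, ← Category.assoc (P.map a),
        ← Functor.map_comp, ha]
      exact ht.symm⟩
    exact isIso_of_mono_of_isSplitEpi _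
  obtain ⟨V, hV, hViso, -⟩ := exists_nhd_isIso a
    (fun t => isConnected_centralizer (fun t => SmoothWeilLib.isConnected_preimage_snd hconn g t) i hH hcC t) τ
    inferInstance
  -- an affine neighbourhood inside
  obtain ⟨W, hW, hpW, hWV⟩ := exists_isAffineOpen_mem_and_subset hV
  let l : Spec (CommRingCat.of Γ(S', W)) ⟶ S' := hW.fromSpec
  haveI : IsOpenImmersion l := inferInstanceAs (IsOpenImmersion hW.fromSpec)
  let L := Over.pullback l
  haveI : L.IsRightAdjoint := (Over.mapPullbackAdj l).isRightAdjoint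
  haveI : IsIso (L.map a) := by
    let l' : Spec (CommRingCat.of Γ(S', W)) ⟶ V := IsOpenImmersion.lift V.ι l (by
      rw [Scheme.Opens.range_ι]
      exact (hW.range_fromSpec).trans_subset hWV)
    have hl : l' ≫ V.ι = l := IsOpenImmersion.lift_fac _ _ _
    have hn := MaxTorusBC.cmp_naturality hl a
    rw [← Iso.inv_comp_eq] at hn
    rw [show L.map a = _ from hn.symm]
    infer_instance
  haveI := GrpLimLib.isMonHom_cmp (rfl : l ≫ g = _) G
  refine ⟨Γ(S', W), inferInstance, l ≫ g, inferInstance, ⟨hW.primeIdealOf ⟨_, hpW⟩, ?_⟩, Red.bc l H, inferInstance,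
    L.map i ≫ (cmp (rfl : l ≫ g = _) G).hom, ?_, n, hsplit l⟩
  · rw [Scheme.Hom.comp_apply]
    show g (hW.fromSpec (hW.primeIdealOf ⟨_, hpW⟩)) = s₀
    rw [hW.fromSpec_primeIdealOf, ← Scheme.Hom.comp_apply, hτ, Scheme.Hom.comp_apply]
    exact Scheme.fromSpecResidueField_apply s₀ _
  refine isMaximalTorus_comp_iso ?_ _
  refine ⟨inferInstance, inferInstance, SolvGrp.isTorus_bc l hH, fun x T' _ j _ _ f hT' hf => ?_⟩
  let E := Over.pullback (Red.geomPt x)
  haveI : E.IsRightAdjoint := (Over.mapPullbackAdj (Red.geomPt x)).isRightAdjoint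
  have hcx := SolvGrp.isCentralizerOf_bc (Red.geomPt x) _ _ (SolvGrp.isCentralizerOf_bc l i c hcC)
  obtain ⟨q, hq⟩ := (hcx.2.2 T' j).mpr fun X' y h => by
    have hh : h ≫ E.map (L.map i) = (h ≫ f) ≫ j := (congrArg (h ≫ ·) hf).symm.trans (Category.assoc _ _ _).symm
    rw [hh, ← MonObj.mul_comp, ← MonObj.mul_comp, MultTypeComm.points_comm (TorusQI.isMultTypeFT_of_isTorus hT')]
  refine ⟨q ≫ inv (E.map (L.map a)), ?_, ?_⟩
  · rw [← cancel_mono (E.map (L.map i)), Category.id_comp]
    have h3 : E.map (L.map i) = E.map (L.map a) ≫ E.map (L.map c) := by rw [← Functor.map_comp, ← Functor.map_comp, ha]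
    rw [Category.assoc, Category.assoc, h3, IsIso.inv_hom_id_assoc, hq, hf, h3]
  · rw [← cancel_mono j, Category.id_comp, Category.assoc, hf, Category.assoc]
    have h3 : E.map (L.map i) = E.map (L.map a) ≫ E.map (L.map c) := by rw [← Functor.map_comp, ← Functor.map_comp, ha]
    rw [h3, IsIso.inv_hom_id_assoc, hq]

end Groth.Agent.RedRank
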