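import Groth.Agent.HomRepLib.Fam
import Groth.Agent.GrpSchLib.HomMonoLocus
import Groth.Agent.AGFLib.Semi

/-!
# Homomorphisms between base changes as families, and injectivity at a point of the parameter scheme
-/

universe u

open CategoryTheory CategoryTheory.Limits MonoidalCategory CartesianMonoidalCategory MonObj AlgebraicGeometry

set_option backward.isDefEq.respectTransparency false
set_option backward.isDefEq.respectTransparency.types false
set_option linter.style.haveILetI false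
set_option synthInstance.maxHeartbeats 80000
set_option autoImplicit false

namespace Groth.Agent.RedRank

open HomRepLib DSPtsLib GrpSchLib

variable {S U : Scheme.{u}} {H G : Over S} [GrpObj H] [GrpObj G]

/-- A homomorphism between base changes is given by a family. -/
theorem exists_family (f : U ⟶ S) (u : Red.bc f H ⟶ Red.bc f G) [IsMonHom u] :
    ∃ φ : H ⊗ (Over.map f).obj (𝟙_ (Over U)) ⟶ G, AutFam.IsHomFamily H G φ ∧
      ∀ (Z : Over U) (z : Z ⟶ Red.bc f H),
        theta f (z ≫ u) = lift (theta f z) ((Over.map f).map (toUnit Z)) ≫ φ := by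
  obtain ⟨φ, hφ⟩ := (toBc_bijective (G := H) (G' := G) (Y := 𝟙_ (Over U)) f).2 (fst _ _ ≫ u)
  have key : ∀ (Z : Over U) (z : Z ⟶ Red.bc f H),
      theta f (z ≫ u) = lift (theta f z) ((Over.map f).map (toUnit Z)) ≫ φ := fun Z z => by
    rw [← theta_toBc f φ z (toUnit Z), hφ, lift_fst_assoc]
  refine ⟨φ, fun X g₁ g₂ t => ?_, key⟩
  let X' : Over U := Over.mk t.left
  let e : X ≅ (Over.map f).obj X' := Over.isoMk (Iso.refl _) (by
    show 𝟙 _ ≫ t.left ≫ f = X.hom
    rw [Category.id_comp]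
    exact (congrArg (t.left ≫ ·) (Category.id_comp f)).symm.trans (Over.w t))
  have ht : e.hom ≫ (Over.map f).map (toUnit X') = t := Over.OverMorphism.ext (by
    show 𝟙 _ ≫ (toUnit X').left = t.left
    rw [Category.id_comp]
    exact (Category.comp_id _).symm.trans (Over.w (toUnit X')))
  obtain ⟨z₁, hz₁⟩ := (theta_bijective (g := f) (Y := X') (H := H)).2 (e.inv ≫ g₁)
  obtain ⟨z₂, hz₂⟩ := (theta_bijective (g := f) (Y := X') (H := H)).2 (e.inv ≫ g₂)
  have h := key X' (z₁ * z₂)
  rw [MonObj.mul_comp, theta_mul, theta_mul, key, key, hz₁, hz₂, ← MonObj.comp_mul] at h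
  have h' := congrArg (e.hom ≫ ·) h
  simp only [MonObj.comp_mul, comp_lift_assoc, Iso.hom_inv_id_assoc, ht] at h'
  exact h'.symm

/-- A family gives a homomorphism between base changes. -/
theorem exists_hom (f : U ⟶ S) (φ : H ⊗ (Over.map f).obj (𝟙_ (Over U)) ⟶ G) (hφ : AutFam.IsHomFamily H G φ) :
    ∃ u : Red.bc f H ⟶ Red.bc f G, IsMonHom u ∧
      ∀ (Z : Over U) (z : Z ⟶ Red.bc f H),
        theta f (z ≫ u) = lift (theta f z) ((Over.map f).map (toUnit Z)) ≫ φ := by
  have key : ∀ (Z : Over U) (z : Z ⟶ Red.bc f H),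
      theta f (z ≫ lift (𝟙 (Red.bc f H)) (toUnit _) ≫ toBc f φ) =
        lift (theta f z) ((Over.map f).map (toUnit Z)) ≫ φ := fun Z z => by
    rw [comp_lift_assoc, Category.comp_id, theta_toBc, toUnit_unique (z ≫ toUnit _) (toUnit Z)]
  refine ⟨_, AGFLib.isMonHom_of_mul _ fun X a b => (theta_bijective f).1 ?_, key⟩
  rw [theta_mul, key, key, key, theta_mul, hφ]

/-- Injectivity of the universal homomorphism at a point whose homomorphism is a monomorphism. -/
theorem inj_of_classify {A : Over S} (υ : H ⊗ A ⟶ G) (uA : Red.bc A.hom H ⟶ Red.bc A.hom G) [IsMonHom uA]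
    (huA : ∀ (Z : Over A.left) (z : Z ⟶ Red.bc A.hom H), theta A.hom (z ≫ uA) =
      lift (theta A.hom z) ((Over.map A.hom).map (toUnit Z)) ≫
        (H ◁ (Over.homMk (𝟙 A.left) : (Over.map A.hom).obj (𝟙_ (Over A.left)) ⟶ A)) ≫ υ)
    {K : Scheme.{u}} (b : K ⟶ S) (u₀ : Red.bc b H ⟶ Red.bc b G) [IsMonHom u₀] [Mono u₀]
    (a₀ : (Over.map b).obj (𝟙_ (Over K)) ⟶ A)
    (hu₀ : ∀ (Z : Over K) (z : Z ⟶ Red.bc b H), theta b (z ≫ u₀) =
      lift (theta b z) ((Over.map b).map (toUnit Z)) ≫ (H ◁ a₀) ≫ υ) :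
    HomMonoLocus.Inj uA a₀.left := by
  intro Y q x hx
  let Z : Over K := Over.mk q.left
  have hq : q.left ≫ a₀.left = Y.hom := Over.w q
  have hb : a₀.left ≫ A.hom = b := (Over.w a₀).trans (Category.id_comp b)
  let inc : (Over.map A.hom).obj Y ≅ (Over.map b).obj Z := Over.isoMk (Iso.refl _) (by
    show 𝟙 _ ≫ q.left ≫ b = Y.hom ≫ A.hom
    rw [Category.id_comp, ← hq, Category.assoc, hb])
  obtain ⟨z, hz⟩ := (theta_bijective (g := b) (Y := Z) (H := H)).2 (inc.inv ≫ theta A.hom x)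
  have e : inc.inv ≫ (Over.map A.hom).map (toUnit Y) ≫
      (Over.homMk (𝟙 A.left) : (Over.map A.hom).obj (𝟙_ (Over A.left)) ⟶ A) = (Over.map b).map (toUnit Z) ≫ a₀ := by
    refine Over.OverMorphism.ext ?_
    show 𝟙 _ ≫ (toUnit Y).left ≫ 𝟙 _ = (toUnit Z).left ≫ a₀.left
    rw [show (toUnit Z).left = q.left from (Category.comp_id _).symm.trans (Over.w (toUnit Z)), hq,
      Category.id_comp]
    exact Over.w (toUnit Y)
  have h1 : z ≫ u₀ = 1 ≫ u₀ := by
    refine (theta_bijective b).1 ?_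
    rw [hu₀, hz, MonObj.one_comp, HomUnitLocus.theta_one]
    have h := congrArg (inc.inv ≫ ·) ((huA Y x).symm.trans (by rw [hx, HomUnitLocus.theta_one]))
    simp only [lift_whiskerLeft_assoc, comp_lift_assoc, MonObj.comp_one] at h ⊢
    rw [← e]
    exact h
  rw [cancel_mono] at h1
  refine (theta_bijective A.hom).1 ?_
  rw [HomUnitLocus.theta_one, ← cancel_epi inc.inv, MonObj.comp_one, ← hz, h1, HomUnitLocus.theta_one]

end Groth.Agent.RedRank
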