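import Groth.Agent.SolvGrp.Cartan
import Groth.Agent.SolvGrp.UnipTorus
import Groth.Agent.SolvGrp.Reductive4
import Groth.Agent.AGFLib.ProperSpace
import Groth.Agent.S2966
import Groth.Agent.TorusQI.Geom
import Groth.Agent.MaxTorCent.Cartan
import Groth.Agent.RedRank.CartanNhd

/-!
# Homomorphisms of multiplicative type commuting with a maximal torus

In a smooth affine group with connected fibres a homomorphism from a group of multiplicative type commuting with a
maximal torus factors through it.
-/

universe u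

open CategoryTheory CategoryTheory.Limits MonoidalCategory CartesianMonoidalCategory MonObj AlgebraicGeometry
open TensorProduct WithConv

set_option backward.isDefEq.respectTransparency false
set_option backward.isDefEq.respectTransparency.types false
set_option linter.style.haveILetI false
set_option synthInstance.maxHeartbeats 200000
set_option maxHeartbeats 1000000
set_option autoImplicit false

namespace Groth.Agent.RedRank.CentralFactor

open GrpSchLib GrpSchLib.Kunneth GrpSchLib.LineGroups WeilCmp.Unip AGFLib SolvGrp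

section Field

variable {k : Type u} [Field k] [IsAlgClosed k]

local notation "PT" => 𝟙_ (Over (Spec (CommRingCat.of k)))

theorem isDiagonalizable_monoidAlgebra (M : Type) [AddCommGroup M] :
    HopfRep.IsDiagonalizable (AlgebraicClosure k)
      (AlgebraicClosure k ⊗[k] MonoidAlgebra k (Multiplicative M)) := by
  refine top_le_iff.mp fun x _ => ?_
  induction x using TensorProduct.induction_on with
  | zero => exact zero_mem _
  | add a b ha hb => exact add_mem (ha trivial) (hb trivial)
  | tmul r a =>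
    induction a using MonoidAlgebra.induction_linear with
    | zero => rw [TensorProduct.tmul_zero]; exact zero_mem _
    | add a b ha hb => rw [TensorProduct.tmul_add]; exact add_mem (ha trivial) (hb trivial)
    | single m c =>
      rw [show r ⊗ₜ[k] MonoidAlgebra.single m c =
          (c • r) • ((1 : AlgebraicClosure k) ⊗ₜ[k] MonoidAlgebra.single m (1 : k)) by
        rw [TensorProduct.smul_tmul', smul_eq_mul, _root_.mul_one, TensorProduct.smul_tmul,
          MonoidAlgebra.smul_single, smul_eq_mul, _root_.mul_one]]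
      refine Submodule.smul_mem _ _ (Submodule.subset_span ?_)
      have h := (MonoidAlgebra.isGroupLikeElem_of (R := AlgebraicClosure k) (A := AlgebraicClosure k) m).map
        (AffineHopf.scalarBialgEquiv k (AlgebraicClosure k) (Multiplicative M))
      simpa [AffineHopf.scalarBialgEquiv] using h

/-- Over an algebraically closed field a homomorphism of multiplicative type into a connected group with central
maximal torus factors through the torus. -/
theorem factor_of_central {C T H : Over (Spec (CommRingCat.of k))} [GrpObj C] [GrpObj T] [GrpObj H]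
    [IsAffine C.left] [Smooth C.hom] [ConnectedSpace C.left] (t : T ⟶ C) [IsMonHom t] (hT : AGF.IsMaxTorus t)
    (hc : ∀ {X : Over (Spec (CommRingCat.of k))} (g : X ⟶ C) (x : X ⟶ T), g * (x ≫ t) = (x ≫ t) * g)
    (hH : SGA3x.IsMultTypeFT H) (v : H ⟶ C) [IsMonHom v] : ∃ w : H ⟶ T, w ≫ t = v := by
  classical
  haveI := hT.2.1
  haveI : IsReduced C.left := isReduced_of_smooth_field C.hom
  haveI : LocallyOfFiniteType C.hom := inferInstance
  haveI : QuasiCompact C.hom := inferInstance
  obtain ⟨hnil, hdec⟩ := nilpotent_of_central t hT fun g s => hc g s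
  haveI := hnil
  haveI : Group.IsSolvable (PT ⟶ C) := inferInstance
  obtain ⟨n, hn⟩ := (inferInstance : Group.IsSolvable (PT ⟶ C)).solvable
  obtain ⟨U, _, i, hi, hci, hsU, hcU, haU, -, hU⟩ := exists_unipRad (AGFLib.ProperSpace.isSolvableGrp_of_pts n hn)
  haveI := hi; haveI := hci; haveI := hsU; haveI := haU
  obtain ⟨-, hlU, hqU, hmonoU, hevU⟩ := sub_props i
  haveI := hlU; haveI := hqU; haveI := hmonoU
  haveI : IsReduced U.left := isReduced_of_smooth_field U.hom
  have hu : ∀ y : PT ⟶ U, IsUnipPt y := fun y => IsUnipPt.map i hevU ((hU _).mp ⟨y, rfl⟩)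
  obtain ⟨haT, hsT, hcT, -⟩ := torus_props hT.2.2.1
  haveI := haT; haveI := hsT
  haveI : LocallyOfFiniteType T.hom := inferInstance
  haveI : QuasiCompact T.hom := inferInstance
  let m : T ⊗ U ⟶ C := (fst T U ≫ t) * (snd T U ≫ i)
  have hm : ∀ {X : Over (Spec (CommRingCat.of k))} (x : X ⟶ T ⊗ U),
      x ≫ m = ((x ≫ fst T U) ≫ t) * ((x ≫ snd T U) ≫ i) := fun x => by
    simp only [m, MonObj.comp_mul, Category.assoc]
  haveI : IsMonHom (fst T U) := inferInstance
  haveI : IsMonHom (snd T U) := inferInstance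
  haveI : IsMonHom m := AGFLib.isMonHom_of_mul m fun X a b => by
    rw [hm, hm, hm, MonObj.mul_comp, MonObj.mul_comp, MonObj.mul_comp, MonObj.mul_comp, _root_.mul_assoc, _root_.mul_assoc,
      ← _root_.mul_assoc ((b ≫ fst T U) ≫ t), ← hc ((a ≫ snd T U) ≫ i) (b ≫ fst T U), _root_.mul_assoc]
  haveI : Mono m := ⟨fun {X} a b hab => by
    rw [hm, hm] at hab
    have hab' : ((b ≫ fst T U)⁻¹ * (a ≫ fst T U)) ≫ t = ((b ≫ snd T U) * (a ≫ snd T U)⁻¹) ≫ i := by
      rw [MonObj.mul_comp, MonObj.mul_comp, GrpObj.inv_comp, GrpObj.inv_comp, eq_mul_inv_iff_mul_eq,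
        _root_.mul_assoc, hab, inv_mul_cancel_left]
    have h1 := eq_one_of_torus_unip t i hT.2.2.1 hu _ _ hab'
    have h2 := hab'.trans h1
    rw [← MonObj.one_comp t, cancel_mono, inv_mul_eq_one] at h2
    rw [← MonObj.one_comp i, cancel_mono, mul_inv_eq_one] at h1
    exact CartesianMonoidalCategory.hom_ext _ _ h2.symm h1.symm⟩
  haveI : Smooth (T ⊗ U).hom := by
    show Smooth (pullback.fst T.hom U.hom ≫ T.hom)
    infer_instance
  haveI : QuasiCompact (T ⊗ U).hom := by
    show QuasiCompact (pullback.fst T.hom U.hom ≫ T.hom)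
    infer_instance
  haveI : Surjective m.left := surjective_of_rangePts m fun g => by
    obtain ⟨_, ⟨s, rfl⟩, hug⟩ := hdec g
    obtain ⟨y, hy⟩ := (hU _).mpr hug
    refine ⟨lift s y, ?_⟩
    show lift s y ≫ m = g
    rw [hm, lift_fst, lift_snd, show y ≫ i = (s ≫ t)⁻¹ * g from hy, mul_inv_cancel_left]
  haveI : IsIso m := by
    haveI : Mono m.left := inferInstanceAs (Mono ((Over.forget _).map m))
    haveI : LocallyOfFinitePresentation m.left := by
      haveI : LocallyOfFinitePresentation (m.left ≫ C.hom) := by rw [Over.w m]; infer_instance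
      exact AlgSpPts.locallyOfFinitePresentation_of_comp m.left C.hom
    haveI : GeometricallyReduced C.hom := IsogenyFibre.geometricallyReduced_of_smooth' C.hom
    haveI : Flat m.left := (HomFlatLft.flat_hom m).1
    haveI : IsOpenImmersion m.left := IsOpenImmersion.of_flat_of_mono m.left
    haveI : IsIso m.left := (isIso_iff_isOpenImmersion_and_surjective m.left).mpr ⟨inferInstance, inferInstance⟩
    haveI : IsIso ((Over.forget _).map m) := ‹IsIso m.left›
    exact isIso_of_reflects_iso m (Over.forget _)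
  haveI : IsMonHom (inv m) := AGFLib.isMonHom_of_mul (inv m) fun X a b => by
    rw [← cancel_mono m, MonObj.mul_comp _ _ m, Category.assoc, Category.assoc, Category.assoc, IsIso.inv_hom_id,
      Category.comp_id, Category.comp_id, Category.comp_id]
  -- the component in the unipotent part is trivial
  obtain ⟨M, _, hM, ⟨eH₀⟩⟩ := TorusQI.exists_diag_geom hH (𝟙 (Spec (CommRingCat.of k)))
  haveI := hM
  obtain ⟨eD⟩ := AffineHopf.nonempty_DS_iso k M
  obtain ⟨A, _, _, ⟨eU⟩⟩ := AffineHopf.exists_hopf U
  haveI : Algebra.FiniteType k A := by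
    haveI := finiteType_fn U
    exact (inferInstance : Algebra.FiniteType k (Fn U)).equiv (coordEquiv eU).symm
  haveI : _root_.IsReduced A := isReduced_of_injective (coordEquiv eU) (coordEquiv eU).injective
  have hA : HopfRep.IsUnipotent k A := isUnipotent_of_pts eU hu
  obtain ⟨e1⟩ : Nonempty (Grp.mk (Red.bc (𝟙 (Spec (CommRingCat.of k))) H) ≅ Grp.mk H) := ⟨(Functor.mapGrpNatIso Over.pullbackId).app (Grp.mk H)⟩
  let eH : Grp.mk (AffineHopf.sp k (MonoidAlgebra k (Multiplicative M))) ≅ Grp.mk H := eD ≪≫ eH₀.symm ≪≫ e1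
  let a : AffineHopf.sp k (MonoidAlgebra k (Multiplicative M)) ⟶ H := eH.hom.hom.hom
  haveI : IsMonHom a := eH.hom.hom.isMonHom_hom
  haveI : IsIso a := ((Grp.forget _).mapIso eH).isIso_hom
  let b : U ⟶ AffineHopf.sp k A := eU.inv.hom.hom
  haveI : IsMonHom b := eU.inv.hom.isMonHom_hom
  haveI : IsIso b := ((Grp.forget _).mapIso eU).isIso_inv
  obtain ⟨f, hf⟩ := AffineHopf.exists_bialgHom ((a ≫ v ≫ inv m) ≫ snd T U ≫ b)
  haveI : Algebra.FiniteType k (MonoidAlgebra k (Multiplicative M)) := inferInstance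
  have hf1 : toConv (f : A →ₐ[k] MonoidAlgebra k (Multiplicative M)) = 1 := by
    refine WithConv.ext (AlgHom.ext fun x => ?_)
    exact ((Groth.Agent.S2966.result (isDiagonalizable_monoidAlgebra M) hA).1 f x).trans rfl
  have h0 : v ≫ inv m ≫ snd T U = 1 := by
    rw [← cancel_epi a, ← cancel_mono b, MonObj.comp_one, MonObj.one_comp b]
    simp only [Category.assoc] at hf ⊢
    rw [hf]
    refine (mul_eq_left (a := AffineHopf.spMap (f : A →ₐ[k] MonoidAlgebra k (Multiplicative M)))).mp ?_
    rw [AffineHopf.spMap_mul, hf1, _root_.one_mul, ← hf1]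
  refine ⟨v ≫ inv m ≫ fst T U, ?_⟩
  calc (v ≫ inv m ≫ fst T U) ≫ t
      = ((v ≫ inv m ≫ fst T U) ≫ t) * ((v ≫ inv m ≫ snd T U) ≫ i) := by
        rw [h0, MonObj.one_comp i, _root_.mul_one]
    _ = (v ≫ inv m) ≫ m := by simp only [hm, Category.assoc]
    _ = v := by rw [Category.assoc, IsIso.inv_hom_id, Category.comp_id]

end Field

open GrpSchLib.SubgroupEqLocus MaxTorCent

variable {S : Scheme.{u}}

/-- A homomorphism of multiplicative type into a group with a central maximal torus factors through the torus. -/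
theorem exists_factor_central {C T H : Over S} [GrpObj C] [GrpObj T] [GrpObj H] [Smooth C.hom] [IsAffineHom C.hom]
    (hconn : ∀ s : S, _root_.IsConnected (C.hom.base ⁻¹' {s})) {t : T ⟶ C} (ht : Red.IsMaximalTorus t)
    (hc : ∀ {X : Over S} (g : X ⟶ C) (x : X ⟶ T), g * (x ≫ t) = (x ≫ t) * g)
    (hH : SGA3x.IsMultTypeFT H) (v : H ⟶ C) [IsMonHom v] : ∃ w : H ⟶ T, w ≫ t = v := by
  haveI := ht.1; haveI := ht.2.1
  haveI : LocallyOfFiniteType C.hom := inferInstance
  have hle : ∀ s : S, Le t v (S.fromSpecResidueField s) := fun s => by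
    let p := Red.geomPt s
    let F := Over.pullback p
    haveI : F.IsRightAdjoint := (Over.mapPullbackAdj p).isRightAdjoint
    haveI : Smooth (F.obj C).hom := inferInstanceAs (Smooth (pullback.snd C.hom p))
    haveI : IsAffineHom (F.obj C).hom := inferInstanceAs (IsAffineHom (pullback.snd C.hom p))
    haveI : IsAffine (F.obj C).left := isAffine_of_isAffineHom (F.obj C).hom
    haveI : ConnectedSpace (F.obj C).left := FixTorus.connectedSpace_geomFibre s (hconn s)
    obtain ⟨w, hw⟩ := factor_of_central (F.map t)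
      (SolvGrp.isMaxTorus_of_isMaximalTorus (isMaximalTorus_geomFibre ht s))
      (fun {X} g x => by
        apply (DSPtsLib.theta_bijective (g := p) (Y := X) (H := C)).1
        rw [DSPtsLib.theta_mul, DSPtsLib.theta_mul, SubgroupNbhd.theta_map]
        exact hc _ _)
      (MultTypeBC.isMultTypeFT_bc p hH) (F.map v)
    have hgeom : Le t v p := fun Y q b => by
      let Y' : Over (Spec (CommRingCat.of (AlgebraicClosure (S.residueField s)))) := Over.mk q.left
      let eY : (Over.map p).obj Y' ≅ Y := Over.isoMk (Iso.refl _) (by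
        show 𝟙 _ ≫ Y.hom = q.left ≫ p
        rw [Category.id_comp]; exact (Over.w q).symm)
      obtain ⟨b', hb'⟩ := (DSPtsLib.theta_bijective (g := p) (Y := Y') (H := H)).2 (eY.hom ≫ b)
      refine ⟨eY.inv ≫ DSPtsLib.theta p (b' ≫ w), ?_⟩
      rw [Category.assoc, ← SubgroupNbhd.theta_map, Category.assoc, hw, SubgroupNbhd.theta_map, hb', Category.assoc,
        Iso.inv_hom_id_assoc]
    let l := Spec.map (CommRingCat.ofHom (algebraMap (S.residueField s) (AlgebraicClosure (S.residueField s))))
    exact Le.of_covers' l (HomUnitLocus.covers_field _) hgeom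
  have hloc : ∀ s : S, ∃ U : S.Opens, s ∈ U ∧ Le t v U.ι := fun s => by
    refine SubgroupNbhd.exists_nhd_le t v (TorusQI.isMultTypeFT_of_isTorus ht.2.2.1) hH (Or.inr inferInstance) s
      (hle s) fun Y q b g => ?_
    obtain ⟨a, ha⟩ := hle s Y q b
    rw [← ha]
    exact hc g a
  choose U hsU hU using hloc
  haveI : Mono t.left := inferInstanceAs (Mono ((Over.forget _).map t))
  let W : S → H.left.Opens := fun s => H.hom ⁻¹ᵁ (U s)
  have hW : TopologicalSpace.IsOpenCover W :=
    .mk (top_le_iff.mp fun x _ => TopologicalSpace.Opens.mem_iSup.mpr ⟨H.hom x, hsU (H.hom x)⟩)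
  let 𝒰 := H.left.openCoverOfIsOpenCover W hW
  have hfac : ∀ s, ∃ a : (W s : Scheme.{u}) ⟶ T.left, a ≫ t.left = (W s).ι ≫ v.left := fun s => by
    let Y : Over S := Over.mk ((W s).ι ≫ H.hom)
    obtain ⟨a, ha⟩ := hU s Y (Over.homMk (H.hom ∣_ U s) (by
      show (H.hom ∣_ U s) ≫ (U s).ι = (W s).ι ≫ H.hom
      exact morphismRestrict_ι _ _)) (Over.homMk (W s).ι rfl)
    exact ⟨a.left, congrArg (fun m : Y ⟶ C => m.left) ha⟩
  choose a ha using hfac
  let f := 𝒰.glueMorphisms a fun x y => by
    rw [← cancel_mono t.left, Category.assoc, Category.assoc]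
    show _ ≫ a x ≫ _ = _ ≫ a y ≫ _
    rw [ha, ha]
    exact pullback.condition_assoc _
  have hf : f ≫ t.left = v.left := 𝒰.hom_ext _ _ fun x => by
    rw [← Category.assoc, Scheme.Cover.ι_glueMorphisms]
    exact ha x
  exact ⟨Over.homMk f (by rw [← Over.w t, ← Category.assoc, hf, Over.w v]), Over.OverMorphism.ext hf⟩

/-- A homomorphism of multiplicative type commuting with a maximal torus factors through it. -/
theorem exists_factor {G T H : Over S} [GrpObj G] [GrpObj T] [GrpObj H] [Smooth G.hom] [IsAffineHom G.hom]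
    (hconn : ∀ s : S, _root_.IsConnected (G.hom.base ⁻¹' {s})) {i : T ⟶ G} (hi : Red.IsMaximalTorus i)
    (hH : SGA3x.IsMultTypeFT H) (v : H ⟶ G) [IsMonHom v]
    (hv : ∀ (X : Over S) (h : X ⟶ H) (x : X ⟶ T), (h ≫ v) * (x ≫ i) = (x ≫ i) * (h ≫ v)) :
    ∃ w : H ⟶ T, w ≫ i = v := by
  haveI := hi.1; haveI := hi.2.1
  haveI : QuasiCompact G.hom := inferInstance
  obtain ⟨C, _, c, hc, hcl, hcart, i', hi', hmax, hcen⟩ := exists_cartan G hi
  haveI := hcl; haveI := hc.1; haveI := hc.2.1; haveI := hcart.2.2.1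
  haveI : IsAffineHom C.hom := by rw [← Over.w c]; infer_instance
  obtain ⟨v', hv'⟩ := (hc.2.2 H v).mpr fun X x t => hv X x t
  haveI : IsMonHom v' := AGFLib.isMonHom_of_mul v' fun X a b => by
    rw [← cancel_mono c, Category.assoc, hv', MonObj.mul_comp _ _ c, Category.assoc, Category.assoc, hv',
      MonObj.mul_comp]
  obtain ⟨w, hw⟩ := exists_factor_central (fun s => RedRank.isConnected_centralizer hconn i hi.2.2.1 hc s) hmax
    hcen hH v'
  exact ⟨w, by rw [← hi', reassoc_of% hw, hv']⟩

end Groth.Agent.RedRank.CentralFactor
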