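import Groth.Agent.MaxTorTransp.Descend
import Groth.Agent.MaxTorCent.Normalizer
import Groth.Agent.GrpSchLib.MultTypeBC
import Groth.Agent.TorsionCent.Util

/-!
# Descent of a reductive centre
-/

universe u

open CategoryTheory CategoryTheory.Limits MonoidalCategory CartesianMonoidalCategory MonObj AlgebraicGeometry

set_option backward.isDefEq.respectTransparency false
set_option backward.isDefEq.respectTransparency.types false
set_option linter.style.haveILetI false
set_option synthInstance.maxHeartbeats 200000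
set_option maxHeartbeats 1000000
set_option autoImplicit false

namespace Groth.Agent.RedRank.CentreDescent

open GrpSchLib MaxTorTransp
open GrpLimLib (cmp)

variable {S : Scheme.{u}}

/-- Every point of `H` commutes with every point of `G`. -/
def Central {H G : Over S} [GrpObj G] (v : H ⟶ G) : Prop :=
  ∀ (X : Over S) (x : X ⟶ H) (g : X ⟶ G), (x ≫ v) * g = g * (x ≫ v)

theorem cmp_pr {S₂ S₃ S' : Scheme.{u}} {f : S₂ ⟶ S} {π : S' ⟶ S} {π₂ : S₃ ⟶ S₂} {f₃ : S₃ ⟶ S'} {k : S₃ ⟶ S}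
    (e : π₂ ≫ f = k) (e' : f₃ ≫ π = k) (G : Over S) :
    ((cmp e G ≪≫ (cmp e' G).symm).hom).left ≫ GrpLimLib.pr π f₃ G = GrpLimLib.pr f π₂ G := by
  show ((cmp e G).hom.left ≫ (cmp e' G).inv.left) ≫ _ = _
  rw [Category.assoc, GrpLimLib.cmp_inv_fst e' G, GrpLimLib.cmp_hom_fst e G]

theorem central_bc {H G : Over S} [GrpObj G] {v : H ⟶ G} (hv : Central v) {S' : Scheme.{u}} (q : S' ⟶ S) :
    Central ((Over.pullback q).map v) := by
  intro X x g
  refine (DSPtsLib.theta_bijective q).1 ?_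
  rw [DSPtsLib.theta_mul, DSPtsLib.theta_mul, TorsionCent.theta_map']
  exact hv _ _ _

theorem central_comp_iso {H G G₂ : Over S} [GrpObj G] [GrpObj G₂] {v : H ⟶ G} (hv : Central v) (e : G ≅ G₂)
    [IsMonHom e.hom] : Central (v ≫ e.hom) := by
  intro X x g
  obtain ⟨g', rfl⟩ : ∃ g', g' ≫ e.hom = g := ⟨g ≫ e.inv, by rw [Category.assoc, Iso.inv_hom_id, Category.comp_id]⟩
  rw [← Category.assoc x v, ← MonObj.mul_comp, ← MonObj.mul_comp, hv]

/-- Being of multiplicative type and finite type descends along fpqc coverings. -/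
theorem isMultTypeFT_of_bc {S' : Scheme.{u}} (π : S' ⟶ S) [Surjective π] (hπ : FpqcDescLib.IsCovering π)
    {H : Over S} [GrpObj H] {H' : Over S'} [GrpObj H'] (e : Red.bc π H ≅ H') [IsMonHom e.hom]
    (h : SGA3x.IsMultTypeFT H') : SGA3x.IsMultTypeFT H := by
  obtain ⟨S'', f, hff, hfs, hfq, hfl⟩ := h
  haveI := hff; haveI := hfs
  obtain ⟨hfl', hcov'⟩ := GrpSchLib.SubgroupEqLocus.flat_hcov_of_isCovering
    ((FpqcDescLib.isCovering_of_flat f hfq).comp hπ)
  refine ⟨S'', f ≫ π, hfl', inferInstance, hcov', fun s => ?_⟩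
  obtain ⟨U, hsU, M, iM, hM, ⟨e₀⟩⟩ := hfl s
  obtain ⟨e₁⟩ := GrpSchLib.MultTypeBC.bc_bc (U.ι ≫ f) π H
  obtain ⟨e₂⟩ := GrpSchLib.MultTypeBC.bc_congr (Category.assoc U.ι f π) H
  obtain ⟨e₃⟩ := GrpSchLib.MultTypeBC.bc_iso (U.ι ≫ f) (Grp.mkIso' e)
  exact ⟨U, hsU, M, iM, hM, ⟨e₂.symm ≪≫ e₁.symm ≪≫ e₃ ≪≫ e₀⟩⟩

/-- The universal property of a reductive centre. -/
def Univ {Z G : Over S} [GrpObj G] (z : Z ⟶ G) : Prop :=
  ∀ (S' : Scheme.{u}) (f : S' ⟶ S) (H : Over S') [GrpObj H] (v : H ⟶ Red.bc f G) [IsMonHom v],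
    SGA3x.IsMultTypeFT H → (∀ (X : Over S') (x : X ⟶ H) (g : X ⟶ Red.bc f G), (x ≫ v) * g = g * (x ≫ v)) →
      ∃ w : H ⟶ Red.bc f Z, w ≫ (Over.pullback f).map z = v

/-- A reductive centre descends along an fpqc covering. -/
theorem exists_descent {G : Over S} [GrpObj G] {S' : Scheme.{u}} (π : S' ⟶ S) [Surjective π]
    (hπ : FpqcDescLib.IsCovering π) {Z' : Over S'} [GrpObj Z'] (z' : Z' ⟶ Red.bc π G) [IsMonHom z'] [Mono z']
    (hmt : SGA3x.IsMultTypeFT Z') (hcen : Central z') (huniv : Univ z') :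
    ∃ (Z : Over S) (_ : GrpObj Z) (z : Z ⟶ G), IsMonHom z ∧ Mono z ∧ SGA3x.IsMultTypeFT Z ∧ Central z ∧ Univ z := by
  haveI : (Over.pullback π).IsRightAdjoint := (Over.mapPullbackAdj π).isRightAdjoint
  have hkey : ∀ (X : Scheme.{u}) (a b : X ⟶ pullback G.hom π),
      a ≫ pullback.fst G.hom π = b ≫ pullback.fst G.hom π →
        (∃ l, l ≫ z'.left = a) → ∃ l, l ≫ z'.left = b := by
    intro X a b hab ⟨l, hl⟩
    let σ : X ⟶ S := (a ≫ pullback.fst G.hom π) ≫ G.hom
    have ea : (a ≫ pullback.snd G.hom π) ≫ π = σ := by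
      simp only [σ, Category.assoc, pullback.condition]
    have eb : (b ≫ pullback.snd G.hom π) ≫ π = σ := by
      simp only [σ, hab]
      simp only [Category.assoc, pullback.condition]
    haveI : (Over.pullback (a ≫ pullback.snd G.hom π)).IsRightAdjoint :=
      (Over.mapPullbackAdj (a ≫ pullback.snd G.hom π)).isRightAdjoint
    haveI := isMonHom_cmp_hom ea G
    haveI := isMonHom_cmp_hom eb G
    haveI : IsMonHom (cmp eb G).symm.hom := MaxTorusBC.isMonHom_cmp_inv eb G
    haveI : IsMonHom (cmp ea G ≪≫ (cmp eb G).symm).hom :=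
      inferInstanceAs (IsMonHom ((cmp ea G).hom ≫ (cmp eb G).symm.hom))
    obtain ⟨w, hw⟩ := huniv X (b ≫ pullback.snd G.hom π) (Red.bc (a ≫ pullback.snd G.hom π) Z')
      ((Over.pullback (a ≫ pullback.snd G.hom π)).map z' ≫ (cmp ea G ≪≫ (cmp eb G).symm).hom)
      (MultTypeBC.isMultTypeFT_bc _ hmt) (central_comp_iso (central_bc hcen _) _)
    have hw' : w ≫ (Over.pullback (b ≫ pullback.snd G.hom π)).map z' ≫ (cmp eb G).hom =
        (Over.pullback (a ≫ pullback.snd G.hom π)).map z' ≫ (cmp ea G).hom := by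
      rw [reassoc_of% hw]
      show _ ≫ ((cmp ea G).hom ≫ (cmp eb G).inv) ≫ (cmp eb G).hom = _
      rw [Category.assoc (cmp ea G).hom, Iso.inv_hom_id, Category.comp_id]
    let la : X ⟶ (Red.bc (a ≫ pullback.snd G.hom π) Z').left :=
      pullback.lift l (𝟙 X) (by rw [Category.id_comp, ← Over.w z', reassoc_of% hl]; rfl)
    refine ⟨la ≫ w.left ≫ pullback.fst Z'.hom _, pullback.hom_ext ?_ ?_⟩
    · rw [← hab, Category.assoc, Category.assoc, Category.assoc]
      have e1 := congrArg (fun m => la ≫ m.left ≫ pullback.fst G.hom σ) hw'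
      simp only [Over.comp_left, Category.assoc, GrpLimLib.cmp_hom_fst, GrpLimLib.pr] at e1
      rw [reassoc_of% GrpLimLib.map_left_fst (h := b ≫ pullback.snd G.hom π),
        reassoc_of% GrpLimLib.map_left_fst (h := a ≫ pullback.snd G.hom π)] at e1
      refine e1.trans ?_
      simp only [la, pullback.lift_fst_assoc, reassoc_of% hl]
    · rw [Category.assoc, Category.assoc, Category.assoc]
      erw [show z'.left ≫ pullback.snd G.hom π = Z'.hom from Over.w z', pullback.condition]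
      erw [← Category.assoc w.left, Over.w w]
      erw [pullback.lift_snd_assoc]
      rw [Category.id_comp]
  obtain ⟨Z, iZ, z, hz1, hz2, φ, hφ⟩ := exists_descent_mono z' hπ hmt hkey
  haveI := hz1; haveI := hz2
  haveI : IsMonHom φ.hom := AGFLib.isMonHom_of_mul φ.hom fun X a b => by
    rw [← cancel_mono z', Category.assoc, hφ, MonObj.mul_comp, MonObj.mul_comp, Category.assoc, Category.assoc, hφ]
  haveI : Mono z.left := inferInstanceAs (Mono ((Over.forget _).map z))
  refine ⟨Z, iZ, z, hz1, hz2, isMultTypeFT_of_bc π hπ φ hmt, fun X x g => ?_, ?_⟩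
  · let p : pullback X.hom π ⟶ X.left := pullback.fst _ _
    haveI : Epi p := ((FpqcDescLib.covers_of_isCovering hπ).pullback X.hom p
      (pullback.snd X.hom π) (IsPullback.of_hasPullback X.hom π)).epi
    let Y : Over S' := Over.mk (pullback.snd X.hom π)
    let k : (Over.map π).obj Y ⟶ X := Over.homMk p pullback.condition
    haveI : Epi k.left := ‹Epi p›
    haveI : Epi k := Over.epi_of_epi_left _
    obtain ⟨x', hx'⟩ := (DSPtsLib.theta_bijective (g := π) (Y := Y) (H := Z)).2 (k ≫ x)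
    obtain ⟨g', hg'⟩ := (DSPtsLib.theta_bijective (g := π) (Y := Y) (H := G)).2 (k ≫ g)
    have h := congrArg (DSPtsLib.theta π) (hcen Y (x' ≫ φ.hom) g')
    rw [Category.assoc, hφ, DSPtsLib.theta_mul, DSPtsLib.theta_mul, TorsionCent.theta_map', hx', hg',
      Category.assoc] at h
    rwa [← cancel_epi k, MonObj.comp_mul, MonObj.comp_mul]
  · intro S₂ f H _ v _ hH hv
    let π₂ : pullback f π ⟶ S₂ := pullback.fst f π
    let f₃ : pullback f π ⟶ S' := pullback.snd f π
    have e₃ : f₃ ≫ π = π₂ ≫ f := pullback.condition.symm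
    haveI : (Over.pullback π₂).IsRightAdjoint := (Over.mapPullbackAdj π₂).isRightAdjoint
    haveI := isMonHom_cmp_hom (rfl : π₂ ≫ f = π₂ ≫ f) G
    haveI := isMonHom_cmp_hom e₃ G
    haveI : IsMonHom (cmp e₃ G).symm.hom := MaxTorusBC.isMonHom_cmp_inv e₃ G
    haveI : IsMonHom (cmp (rfl : π₂ ≫ f = π₂ ≫ f) G ≪≫ (cmp e₃ G).symm).hom :=
      inferInstanceAs (IsMonHom ((cmp (rfl : π₂ ≫ f = π₂ ≫ f) G).hom ≫ (cmp e₃ G).symm.hom))
    obtain ⟨w, hw⟩ := huniv _ f₃ (Red.bc π₂ H)
      ((Over.pullback π₂).map v ≫ (cmp (rfl : π₂ ≫ f = π₂ ≫ f) G ≪≫ (cmp e₃ G).symm).hom)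
      (MultTypeBC.isMultTypeFT_bc _ hH) (central_comp_iso (central_bc hv _) _)
    let l : pullback H.hom π₂ ⟶ Z.left :=
      w.left ≫ pullback.fst Z'.hom f₃ ≫ φ.inv.left ≫ pullback.fst Z.hom π
    have hφ' : φ.inv ≫ (Over.pullback π).map z = z' := by rw [← hφ, Iso.inv_hom_id_assoc]
    have hl : l ≫ z.left = pullback.fst H.hom π₂ ≫ v.left ≫ pullback.fst G.hom f := by
      have e1 := congrArg (fun m => m.left ≫ pullback.fst (Red.bc π G).hom f₃ ≫ pullback.fst G.hom π) hw
      have e2 := congrArg (fun m => m.left ≫ pullback.fst G.hom π) hφ'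
      simp only [Over.comp_left, Category.assoc, GrpLimLib.map_left_fst] at e2
      simp only [Over.comp_left, Category.assoc] at e1
      rw [reassoc_of% GrpLimLib.map_left_fst (h := f₃)] at e1
      rw [cmp_pr] at e1
      simp only [l, Category.assoc]
      rw [e2]
      refine e1.trans ?_
      simp only [GrpLimLib.pr]
      rw [reassoc_of% GrpLimLib.map_left_fst (h := π₂)]
    have hcov := ((FpqcDescLib.covers_of_isCovering hπ).pullback f π₂ f₃ (IsPullback.of_hasPullback f π)).pullback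
      H.hom (pullback.fst H.hom π₂) (pullback.snd H.hom π₂) (IsPullback.of_hasPullback H.hom π₂)
    obtain ⟨y, hy, -⟩ := hcov.desc l fun T a b e => by
      rw [← cancel_mono z.left, Category.assoc a, Category.assoc b, hl, reassoc_of% e]
    haveI := hcov.epi
    have hyz : y ≫ z.left = v.left ≫ pullback.fst G.hom f := by
      rw [← cancel_epi (pullback.fst H.hom π₂), reassoc_of% hy, hl]
    obtain ⟨w₂, hw₂⟩ := (DSPtsLib.theta_bijective (g := f) (Y := H) (H := Z)).2 (Over.homMk y (by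
      show y ≫ Z.hom = H.hom ≫ f
      rw [← Over.w z, reassoc_of% hyz, pullback.condition, ← Category.assoc]
      exact congrArg (· ≫ f) (Over.w v)))
    refine ⟨w₂, TorsionCent.theta_left_ext f ?_⟩
    rw [TorsionCent.theta_left_map, hw₂, DSPtsLib.theta_left]
    exact hyz

end Groth.Agent.RedRank.CentreDescent
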