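import Groth.Agent.RedRank.CentreWeights
import Groth.Agent.RedRank.CentreDescent
import Groth.Agent.GrpSchLib.AffineHopf
import Groth.Agent.TorusQI.Geom
import Groth.Agent.TorusQI.MaxSubtorus
import Groth.Agent.S5295

/-!
# The central part of a split torus, near a point of an affine base
-/

universe u

open CategoryTheory CategoryTheory.Limits MonoidalCategory CartesianMonoidalCategory MonObj AlgebraicGeometry
open TensorProduct WithConv

set_option backward.isDefEq.respectTransparency false
set_option backward.isDefEq.respectTransparency.types false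
set_option linter.style.haveILetI false
set_option synthInstance.maxHeartbeats 200000
set_option maxHeartbeats 1000000
set_option autoImplicit false

namespace Groth.Agent.RedRank.CentreLocal

open GrpSchLib GrpSchLib.AffineHopf CentreDescent CentreWeights

variable {R : Type u} [CommRing R]

/-- A piece of the affine cover as a spectrum. -/
theorem exists_sp_piece {X : Over (Spec (CommRingCat.of R))} (i : X.left.affineCover.I₀) :
    ∃ (B : Type u) (_ : CommRing B) (_ : Algebra R B) (x : sp R B ⟶ X) (e : X.left.affineCover.X i ⟶ (sp R B).left),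
      e ≫ x.left = X.left.affineCover.f i := by
  let U := X.left.affineCover.X i
  haveI : IsAffine U := inferInstance
  let r : CommRingCat.of R ⟶ Γ(U, ⊤) := Spec.preimage (U.isoSpec.inv ≫ X.left.affineCover.f i ≫ X.hom)
  letI : Algebra R Γ(U, ⊤) := r.hom.toAlgebra
  refine ⟨Γ(U, ⊤), inferInstance, inferInstance,
    Over.homMk (U.isoSpec.inv ≫ X.left.affineCover.f i) ?_, U.isoSpec.hom, ?_⟩
  · show (U.isoSpec.inv ≫ _) ≫ X.hom = Spec.map r
    rw [Spec.map_preimage, Category.assoc]
  · show U.isoSpec.hom ≫ U.isoSpec.inv ≫ _ = _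
    rw [Iso.hom_inv_id_assoc]

/-- Morphisms agreeing on affine points are equal. -/
theorem eq_of_affine {X G : Over (Spec (CommRingCat.of R))} (a b : X ⟶ G)
    (h : ∀ (B : Type u) [CommRing B] [Algebra R B] (x : sp R B ⟶ X), x ≫ a = x ≫ b) : a = b := by
  refine Over.OverMorphism.ext (X.left.affineCover.hom_ext _ _ fun i => ?_)
  obtain ⟨B, _, _, x, e, he⟩ := exists_sp_piece i
  rw [← he, Category.assoc, Category.assoc, ← Over.comp_left, h B x, Over.comp_left]

/-- The factorisation of a point through a monomorphism is local on affine points. -/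
theorem exists_fac_of_affine {X K T : Over (Spec (CommRingCat.of R))} (k : K ⟶ T) [Mono k] (t : X ⟶ T)
    (h : ∀ (B : Type u) [CommRing B] [Algebra R B] (x : sp R B ⟶ X), ∃ l, l ≫ k = x ≫ t) : ∃ l, l ≫ k = t := by
  haveI : Mono k.left := inferInstanceAs (Mono ((Over.forget _).map k))
  obtain ⟨l, hl⟩ := TorusQI.exists_fac_of_openCover k.left t.left X.left.affineCover fun i => by
    obtain ⟨B, _, _, x, e, he⟩ := exists_sp_piece i
    obtain ⟨m, hm⟩ := h B x
    exact ⟨e ≫ m.left, by rw [Category.assoc, ← Over.comp_left, hm, Over.comp_left, ← he, Category.assoc]⟩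
  exact ⟨Over.homMk l (by rw [← Over.w k, reassoc_of% hl, Over.w t]), Over.OverMorphism.ext hl⟩

variable {A : Type u} [CommRing A] [HopfAlgebra R A] {M : Type} [AddCommGroup M]

/-- The inclusion of the torus. -/
noncomputable abbrev incl (f : A →ₐc[R] MonoidAlgebra R (Multiplicative M)) :
    sp R (MonoidAlgebra R (Multiplicative M)) ⟶ sp R A :=
  spMap (f : A →ₐ[R] MonoidAlgebra R (Multiplicative M))

/-- The projection of characters onto a quotient. -/
noncomputable def qMap (R : Type u) [CommRing R] (N : AddSubgroup M) :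
    MonoidAlgebra R (Multiplicative M) →ₐc[R] MonoidAlgebra R (Multiplicative (M ⧸ N)) :=
  MonoidAlgebra.mapDomainBialgHom R (QuotientAddGroup.mk' N).toMultiplicative

/-- The subgroup of a split torus cut out by some characters. -/
noncomputable abbrev sub (R : Type u) [CommRing R] (N : AddSubgroup M) :
    sp R (MonoidAlgebra R (Multiplicative (M ⧸ N))) ⟶ sp R (MonoidAlgebra R (Multiplicative M)) :=
  spMap (qMap R N : MonoidAlgebra R (Multiplicative M) →ₐ[R] MonoidAlgebra R (Multiplicative (M ⧸ N)))

theorem qMap_single (N : AddSubgroup M) (m : M) (r : R) :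
    qMap R N (MonoidAlgebra.single (Multiplicative.ofAdd m) r) =
      MonoidAlgebra.single (Multiplicative.ofAdd (QuotientAddGroup.mk' N m)) r :=
  MonoidAlgebra.mapDomain_single

theorem isClosedImmersion_sub (N : AddSubgroup M) : IsClosedImmersion (sub R N).left := by
  refine IsClosedImmersion.spec_of_surjective _ fun z => ?_
  show ∃ w, qMap R N w = z
  induction z using MonoidAlgebra.induction_linear with
  | zero => exact ⟨0, map_zero _⟩
  | add p q hp hq =>
    obtain ⟨a, rfl⟩ := hp
    obtain ⟨b, rfl⟩ := hq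
    exact ⟨a + b, map_add _ _ _⟩
  | single m r =>
    obtain ⟨m', hm⟩ := QuotientAddGroup.mk'_surjective N (Multiplicative.toAdd m)
    exact ⟨MonoidAlgebra.single (Multiplicative.ofAdd m') r, by rw [qMap_single, hm]; rfl⟩

/-- An affine point of the torus with a character trivial on `N` lies in the subgroup. -/
theorem exists_fac_sub (N : AddSubgroup M) {B : Type u} [CommRing B] [Algebra R B]
    (T : MonoidAlgebra R (Multiplicative M) →ₐ[R] B)
    (hT : ∀ m ∈ N, T (MonoidAlgebra.single (Multiplicative.ofAdd m) 1) = 1) :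
    ∃ T' : MonoidAlgebra R (Multiplicative (M ⧸ N)) →ₐ[R] B,
      T'.comp (qMap R N : MonoidAlgebra R (Multiplicative M) →ₐ[R] MonoidAlgebra R (Multiplicative (M ⧸ N))) = T := by
  let χ : Multiplicative M →* B := (MonoidAlgebra.lift R B (Multiplicative M)).symm T
  let χa : M →+ Additive B := MonoidHom.toAdditiveRight χ
  let χq : M ⧸ N →+ Additive B := QuotientAddGroup.lift N χa fun m hm => by
    show Additive.ofMul (T (MonoidAlgebra.single (Multiplicative.ofAdd m) 1)) = 0
    rw [hT m hm]
    rfl
  refine ⟨MonoidAlgebra.lift R B (Multiplicative (M ⧸ N)) (AddMonoidHom.toMultiplicativeLeft χq),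
    MonoidAlgebra.algHom_ext (fun m => ?_) (by ext)⟩
  show MonoidAlgebra.lift R B _ _ (qMap R N (MonoidAlgebra.single m 1)) = T (MonoidAlgebra.single m 1)
  rw [show m = Multiplicative.ofAdd (Multiplicative.toAdd m) from rfl, qMap_single, MonoidAlgebra.lift_single, one_smul]
  rfl

variable (f : A →ₐc[R] MonoidAlgebra R (Multiplicative M))

theorem comp_f_eq {B : Type u} [CommRing B] [Algebra R B] (T : MonoidAlgebra R (Multiplicative M) →ₐ[R] B) :
    pull f ((MonoidAlgebra.lift R B (Multiplicative M)).symm T) =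
      toConv (T.comp (f : A →ₐ[R] MonoidAlgebra R (Multiplicative M))) := by
  rw [pull, Equiv.apply_symm_apply]

/-- The central part of a split torus near a point is cut out by the weights at the point. -/
theorem exists_piece [Algebra.Smooth R A] [AddGroup.FG M] [Mono (incl f)] [IsMonHom (incl f)]
    (hconn : ∀ t : ↥(Spec (CommRingCat.of R)),
      ConnectedSpace ↥(pullback (sp R A).hom ((Spec (CommRingCat.of R)).fromSpecResidueField t)))
    (y : PrimeSpectrum R) :
    ∃ (V : (Spec (CommRingCat.of R)).Opens) (N : AddSubgroup M), y ∈ V ∧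
      ∀ (X : Over (Spec (CommRingCat.of R))), Set.range X.hom ⊆ (V : Set _) → ∀ z : X ⟶ sp R A,
        (Central z ∧ ∃ t, t ≫ incl f = z) ↔ ∃ l, l ≫ sub R N ≫ incl f = z := by
  classical
  let σ : Set M := {m | Multiplicative.ofAdd m ∈ supp f y}
  obtain ⟨s, hsσ, hspan⟩ := (Submodule.fg_span_iff_fg_span_finset_subset (R := ℤ) σ).mp (by
    haveI : Module.Finite ℤ M := Module.Finite.iff_addGroup_fg.mpr ‹_›
    exact IsNoetherian.noetherian _)
  let N : AddSubgroup M := AddSubgroup.closure σ
  have hNs : N = AddSubgroup.closure (s : Set M) := by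
    have h := congrArg Submodule.toAddSubgroup hspan
    rwa [Submodule.span_int_eq_addSubgroupClosure, Submodule.span_int_eq_addSubgroupClosure] at h
  have hchoice : ∀ m : s, ∃ a, (1 : y.asIdeal.ResidueField) ⊗ₜ[R] CentreWeights.comp f (Multiplicative.ofAdd m.1) a ≠ 0 :=
    fun m => hsσ m.2
  choose a ha using hchoice
  haveI : Module.Flat R A := inferInstance
  let V₀ : Set (PrimeSpectrum R) := ⋂ m : s,
    {p | (1 : p.asIdeal.ResidueField) ⊗ₜ[R] CentreWeights.comp f (Multiplicative.ofAdd m.1) (a m) ≠ 0}
  have hV₀ : IsOpen V₀ := isOpen_iInter_of_finite fun m => isOpen_fibre_ne_zero _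
  have hyV₀ : y ∈ V₀ := Set.mem_iInter.mpr ha
  -- central near the point
  let H := sp R (MonoidAlgebra R (Multiplicative (M ⧸ N)))
  haveI : AddGroup.FG (M ⧸ N) := QuotientAddGroup.fg _
  have hH : SGA3x.IsMultTypeFT H := by
    obtain ⟨e⟩ := nonempty_DS_iso R (M ⧸ N)
    obtain ⟨S', g, hg1, hg2, hg3, hg4⟩ := TorusQI.isMultTypeFT_DS (S := Spec (CommRingCat.of R)) (M ⧸ N)
    refine ⟨S', g, hg1, hg2, hg3, fun s' => ?_⟩
    obtain ⟨U, hU, M', iM, hM, ⟨e'⟩⟩ := hg4 s'
    obtain ⟨e''⟩ := MultTypeBC.bc_iso (U.ι ≫ g) e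
    exact ⟨U, hU, M', iM, hM, ⟨e'' ≪≫ e'⟩⟩
  haveI : IsClosedImmersion (sub R N).left := isClosedImmersion_sub N
  haveI : Mono (sub R N) := Over.mono_of_mono_left _
  haveI : IsMonHom (sub R N) := inferInstance
  haveI : Smooth (sp R A).hom := by
    show Smooth (Spec.map (CommRingCat.ofHom (algebraMap R A)))
    rw [HasRingHomProperty.Spec_iff (P := @Smooth)]
    exact RingHom.smooth_algebraMap.mpr inferInstance
  haveI : QuasiCompact (sp R A).hom := inferInstanceAs (QuasiCompact (Spec.map _))
  haveI : QuasiSeparated (sp R A).hom := inferInstanceAs (QuasiSeparated (Spec.map _))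
  let u : H ⟶ sp R A := sub R N ≫ incl f
  haveI : IsMonHom u := inferInstance
  let yS : ↥(Spec (CommRingCat.of R)) := y
  have hfib : ∀ (X : Over (Spec (CommRingCat.of R))) (q : X.left ⟶ Spec ((Spec (CommRingCat.of R)).residueField yS)),
      q ≫ (Spec (CommRingCat.of R)).fromSpecResidueField yS = X.hom → ∀ (g : X ⟶ sp R A) (h : X ⟶ H),
        g * (h ≫ u) = (h ≫ u) * g := by
    intro X q hq g h
    refine eq_of_affine _ _ fun B _ _ x => ?_
    rw [MonObj.comp_mul, MonObj.comp_mul]
    obtain ⟨g', hg'⟩ := exists_eq_spMap (x ≫ g)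
    obtain ⟨T', hT'⟩ := exists_eq_spMap (x ≫ h)
    let T := T'.comp (qMap R N : MonoidAlgebra R (Multiplicative M) →ₐ[R] MonoidAlgebra R (Multiplicative (M ⧸ N)))
    have hu : x ≫ h ≫ u = spMap (T.comp (f : A →ₐ[R] MonoidAlgebra R (Multiplicative M))) := by
      rw [← Category.assoc, hT', show u = sub R N ≫ incl f from rfl, spMap_comp, spMap_comp]
      rfl
    rw [hu, hg', spMap_mul, spMap_mul]
    refine congrArg spMap (congrArg WithConv.ofConv ?_)
    -- the residue field maps into the point
    let κ := (Spec (CommRingCat.of R)).residueField yS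
    let ρ : CommRingCat.of R ⟶ κ := Spec.preimage ((Spec (CommRingCat.of R)).fromSpecResidueField yS)
    let τ : κ ⟶ CommRingCat.of B := Spec.preimage (x.left ≫ q)
    have hρτ : ρ ≫ τ = CommRingCat.ofHom (algebraMap R B) := Spec.map_injective (by
      rw [Spec.map_comp, Spec.map_preimage, Spec.map_preimage, Category.assoc, hq]
      exact Over.w x)
    have hker : ∀ r : R, ρ.hom r = 0 ↔ r ∈ y.asIdeal := fun r => by
      have h1 : (Spec (CommRingCat.of R)).fromSpecResidueField yS (IsLocalRing.closedPoint κ) = yS :=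
        Scheme.fromSpecResidueField_apply yS _
      have h2 : PrimeSpectrum.comap ρ.hom (IsLocalRing.closedPoint κ) = y := by
        rw [← Spec.map_preimage ((Spec (CommRingCat.of R)).fromSpecResidueField yS)] at h1
        exact h1
      conv_rhs => rw [← h2]
      show _ ↔ ρ.hom r ∈ IsLocalRing.maximalIdeal κ
      rw [IsLocalRing.mem_maximalIdeal, mem_nonunits_iff, isUnit_iff_ne_zero, not_not]
    let ψ : y.asIdeal.ResidueField →ₐ[R] B := Ideal.ResidueField.liftₐ y.asIdeal (Algebra.ofId R B)
      (fun r hr => by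
        rw [RingHom.mem_ker]
        show algebraMap R B r = 0
        have := congrArg (fun m => (CommRingCat.Hom.hom m) r) hρτ
        rw [show algebraMap R B r = τ.hom (ρ.hom r) from this.symm, (hker r).2 hr, map_zero])
      (fun r hr => by
        show IsUnit (algebraMap R B r)
        have := congrArg (fun m => (CommRingCat.Hom.hom m) r) hρτ
        rw [show algebraMap R B r = τ.hom (ρ.hom r) from this.symm]
        exact (isUnit_iff_ne_zero.mpr fun h0 => hr ((hker r).1 h0)).map _)
    rw [← comp_f_eq f T]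
    refine ((commute_of_supp f y ψ _ (fun m hm => ?_) _).symm).eq
    show T (MonoidAlgebra.single m 1) = 1
    show T' (qMap R N (MonoidAlgebra.single (Multiplicative.ofAdd (Multiplicative.toAdd m)) 1)) = 1
    rw [qMap_single, show QuotientAddGroup.mk' N (Multiplicative.toAdd m) = 0 from
      (QuotientAddGroup.eq_zero_iff _).mpr (AddSubgroup.subset_closure hm)]
    exact map_one T'
  obtain ⟨U, hyU, hU⟩ := S5295.result H (sp R A) hH hconn u yS (fun X g h => by
    refine (DSPtsLib.theta_bijective _).1 ?_
    rw [DSPtsLib.theta_mul, DSPtsLib.theta_mul, GrpSchLib.HomUnitLocus.theta_comp_map]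
    exact hfib _ X.hom rfl _ _)
  refine ⟨⟨V₀, hV₀⟩ ⊓ U, N, ⟨hyV₀, hyU⟩, fun X hX z => ⟨fun ⟨hz, t, ht⟩ => ?_, ?_⟩⟩
  · obtain ⟨l, hl⟩ := exists_fac_of_affine (sub R N) t fun B _ _ x => by
      obtain ⟨T, hT⟩ := exists_eq_spMap (x ≫ t)
      let χ := (MonoidAlgebra.lift R B (Multiplicative M)).symm T
      have hc : ∀ (B' : Type u) [CommRing B'] [Algebra R B'] (Φ : B →ₐ[R] B') (g : WithConv (A →ₐ[R] B')),
          Commute (pull f ((Φ : B →* B').comp χ)) g := fun B' _ _ Φ g => by
        rw [← post_pull, comp_f_eq]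
        refine WithConv.ext (spMap_injective ?_)
        have h := hz _ (spMap Φ ≫ x) (spMap g.ofConv)
        rw [← ht, ← Category.assoc, Category.assoc (spMap Φ), hT, spMap_comp, spMap_comp, spMap_mul, spMap_mul,
          AlgHom.comp_assoc] at h
        exact h
      have hkill : ∀ m ∈ N, T (MonoidAlgebra.single (Multiplicative.ofAdd m) 1) = 1 := by
        intro m hm
        rw [hNs] at hm
        induction hm using AddSubgroup.closure_induction with
        | mem m hm =>
          refine apply_eq_one f χ hc (Multiplicative.ofAdd m) (a ⟨m, hm⟩) fun q => ?_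
          have hq : PrimeSpectrum.comap (algebraMap R B) q ∈ V₀ :=
            (hX ⟨x.left q, congrArg (fun g => g q) (Over.w x)⟩).1
          exact Set.mem_iInter.mp hq ⟨m, hm⟩
        | zero => exact map_one T
        | add m m' _ _ h h' =>
          show χ (Multiplicative.ofAdd m * Multiplicative.ofAdd m') = 1
          rw [map_mul]
          exact (congrArg₂ (· * ·) h h').trans (_root_.one_mul 1)
        | neg m _ h =>
          have e : χ (Multiplicative.ofAdd (-m)) * χ (Multiplicative.ofAdd m) = 1 := by
            rw [← map_mul, ← ofAdd_add, neg_add_cancel]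
            exact map_one χ
          rw [show χ (Multiplicative.ofAdd m) = 1 from h, _root_.mul_one] at e
          exact e
      obtain ⟨T', hT'⟩ := exists_fac_sub N T hkill
      exact ⟨spMap T', by rw [spMap_comp, hT', hT]⟩
    exact ⟨l, by rw [← Category.assoc, hl, ht]⟩
  · rintro ⟨l, rfl⟩
    refine ⟨fun X' x g => ?_, ⟨l ≫ sub R N, Category.assoc _ _ _⟩⟩
    have hr : Set.range X'.hom ⊆ Set.range U.ι := by
      rw [Scheme.Opens.range_ι]
      rintro _ ⟨w, rfl⟩
      exact (hX ⟨x.left w, congrArg (fun g => g w) (Over.w x)⟩).2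
    let q : X' ⟶ Over.mk U.ι := Over.homMk (IsOpenImmersion.lift U.ι X'.hom hr) (IsOpenImmersion.lift_fac _ _ _)
    rw [← Category.assoc x]
    exact (hU X' q g (x ≫ l)).symm

end Groth.Agent.RedRank.CentreLocal
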