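import Groth.Agent.RedRank.NilpCentral
import Groth.Agent.SolvGrp.Reductive

/-!
# Reductive groups have unipotent rank zero
-/

universe u

open CategoryTheory CategoryTheory.Limits MonoidalCategory CartesianMonoidalCategory MonObj AlgebraicGeometry

set_option backward.isDefEq.respectTransparency false
set_option backward.isDefEq.respectTransparency.types false
set_option linter.style.haveILetI false
set_option synthInstance.maxHeartbeats 200000
set_option maxHeartbeats 1000000
set_option autoImplicit false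

namespace Groth.Agent.RedRank.ReductiveRank

open GrpSchLib MaxTorCent MaxTorTransp CentreDescent CentreGlobal
open GrpLimLib (cmp)

section Field

variable {k : Type u} [Field k] [IsAlgClosed k] {G T : Over (Spec (CommRingCat.of k))} [GrpObj G] [GrpObj T]

local notation "PT" => 𝟙_ (Over (Spec (CommRingCat.of k)))

/-- In a reductive group a maximal torus is its own centraliser. -/
theorem selfCent_over (hG : Red.IsReductiveOver k G) {i : T ⟶ G} (hi : Red.IsMaximalTorus i) :
    Red.IsCentralizerOf i i := by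
  haveI := hG.1; haveI := hG.2.1; haveI := hG.2.2.1; haveI := hi.1; haveI := hi.2.1
  have hT := hi.2.2.1
  obtain ⟨C, _, c, hc, hcl, hCs⟩ := MaxTorCent.exists_centralizer i (TorusQI.isMultTypeFT_of_isTorus hT)
  haveI := hcl; haveI := hCs; haveI := hc.1; haveI := hc.2.1
  obtain ⟨haT, hsT, hcT, -⟩ := SolvGrp.torus_props hT
  haveI := haT; haveI := hsT; haveI := hcT
  haveI : IsClosedImmersion i.left := DomHom.isClosedImmersion_of_mono i
  haveI : IsReduced C.left := isReduced_of_smooth_field C.hom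
  obtain ⟨j, hj⟩ := AGFLib.BorelExist.exists_lift_pts i c fun y => by
    refine SolvGrp.mem_torus_of_commute hG i (SolvGrp.isMaxTorus_of_isMaximalTorus hi) (y ≫ c) ?_
    rintro _ ⟨t, rfl⟩
    have h := (hc.2.2 PT (y ≫ c)).mp ⟨y, rfl⟩ PT (𝟙 PT) t
    rw [Category.id_comp] at h
    exact h
  refine ⟨hi.1, hi.2.1, fun X g => ⟨fun ⟨z, hz⟩ X' x y => ?_, fun h => ?_⟩⟩
  · rw [← hz, ← Category.assoc, ← MonObj.mul_comp, ← MonObj.mul_comp,
      MultTypeComm.points_comm (TorusQI.isMultTypeFT_of_isTorus hT) (x ≫ z) y]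
  · obtain ⟨z, hz⟩ := (hc.2.2 X g).mpr h
    exact ⟨z ≫ j, by rw [Category.assoc, hj, hz]⟩

end Field

variable {S : Scheme.{u}} {G : Over S} [GrpObj G]

/-- A reductive group has unipotent rank zero. -/
theorem unipotentRankZero (hG : Red.IsReductive G) : SGA3x.UnipotentRankZero G :=
  fun s _ _ _ hi => selfCent_over (hG.2.2 s) hi

/-- A reductive group has connected fibres. -/
theorem isConnected_fibre (hG : Red.IsReductive G) : ∀ s : S, _root_.IsConnected (G.hom.base ⁻¹' {s}) :=
  haveI := hG.1; haveI := hG.2.1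
  NilpCentral.fibres fun s => (hG.2.2 s).2.2.1

/-- The centre of a reductive group. -/
theorem exists_centre (hG : Red.IsReductive G) :
    ∃ (Z : Over S) (_ : GrpObj Z) (z : Z ⟶ G), Red.IsCentre z ∧ IsClosedImmersion z.left ∧ SGA3x.IsMultTypeFT Z ∧
      Univ z := by
  haveI := hG.1; haveI := hG.2.1
  obtain ⟨Z, _, z, hz, hzm, hzmono, hZ, -, hu⟩ := UnipZero.exists_centre (isConnected_fibre hG) (unipotentRankZero hG)
  haveI := hzm; haveI := hzmono
  exact ⟨Z, inferInstance, z, hz, MultTypeLib.SubgroupTransporter.isClosedImmersion_of_mono hZ z, hZ, hu⟩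

/-- A maximal torus of a base change of a reductive group is its own centraliser. -/
theorem selfCent_bc (hG : Red.IsReductive G) {S' : Scheme.{u}} (f : S' ⟶ S) {T : Over S'} [GrpObj T]
    {i : T ⟶ Red.bc f G} (hi : Red.IsMaximalTorus i) : Red.IsCentralizerOf i i :=
  haveI := hG.1; haveI := hG.2.1
  UnipZero.selfCent_of_maximal (unipotentRankZero hG) f hi

/-- A subtorus which is maximal in a reductive fibre is its own centraliser and maximal near that fibre. -/
theorem exists_nhd_maximal [Smooth G.hom] [IsAffineHom G.hom] {T Z : Over S} [GrpObj T] [GrpObj Z]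
    (hconn : ∀ s : S, _root_.IsConnected (G.hom.base ⁻¹' {s})) (i : T ⟶ G) [IsMonHom i] [Mono i]
    (hT : Red.IsTorus T) (c : Z ⟶ G) (hc : Red.IsCentralizerOf i c) (j : T ⟶ Z) (hj : j ≫ c = i) (s : S)
    (hs : Red.IsReductiveOver (AlgebraicClosure (S.residueField s)) (Red.geomFibre s G))
    (hTs : Red.IsMaximalTorus ((Over.pullback (Red.geomPt s)).map i)) :
    ∃ U : S.Opens, s ∈ U ∧ IsIso ((Over.pullback U.ι).map j) ∧ Red.IsMaximalTorus ((Over.pullback U.ι).map i) := by
  haveI : IsSeparated G.hom := inferInstance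
  haveI : QuasiCompact G.hom := inferInstance
  haveI := hc.1; haveI := hc.2.1
  obtain ⟨C₀, _, c₀, hc₀, hcl, hCs⟩ := MaxTorCent.exists_centralizer i (TorusQI.isMultTypeFT_of_isTorus hT)
  haveI := hcl; haveI := hCs; haveI := hc₀.2.1
  obtain ⟨a, ha⟩ := (hc₀.2.2 Z c).mpr ((hc.2.2 Z c).mp ⟨𝟙 _, Category.id_comp _⟩)
  obtain ⟨b, hb⟩ := (hc.2.2 C₀ c₀).mpr ((hc₀.2.2 C₀ c₀).mp ⟨𝟙 _, Category.id_comp _⟩)
  let e : Z ≅ C₀ := ⟨a, b, by rw [← cancel_mono c, Category.assoc, hb, ha, Category.id_comp],
    by rw [← cancel_mono c₀, Category.assoc, ha, hb, Category.id_comp]⟩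
  haveI : IsIso a := e.isIso_hom
  haveI : IsIso a.left := Functor.map_isIso (Over.forget _) a
  haveI : IsClosedImmersion c.left := by rw [← ha, Over.comp_left]; infer_instance
  haveI : Smooth Z.hom := by rw [← Over.w a]; infer_instance
  haveI : IsMonHom j := MaxTorusBC.isMonHom_of_mono j c (by rw [hj]; infer_instance)
  haveI : Mono (j ≫ c) := hj.symm ▸ ‹Mono i›
  haveI : Mono j := mono_of_mono j c
  haveI : Smooth T.hom := FixTorus.smooth_of_isTorus hT
  haveI : IsAffineHom Z.hom := by rw [← Over.w c]; infer_instance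
  haveI : IsClosedImmersion j.left :=
    MultTypeLib.SubgroupTransporter.isClosedImmersion_of_mono (TorusQI.isMultTypeFT_of_isTorus hT) j
  let b' := Red.geomPt s
  let F := Over.pullback b'
  haveI : F.IsRightAdjoint := (Over.mapPullbackAdj b').isRightAdjoint
  have hscT := selfCent_over hs hTs
  obtain ⟨l, hl⟩ := (hscT.2.2 _ (F.map c)).mpr
    (((SolvGrp.isCentralizerOf_bc b' i c hc).2.2 _ (F.map c)).mp ⟨𝟙 _, Category.id_comp _⟩)
  have hiso : IsIso (F.map j) := ⟨l, by
    rw [← cancel_mono (F.map i), Category.assoc, hl, ← F.map_comp, hj, Category.id_comp], by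
    rw [← cancel_mono (F.map c), Category.assoc, ← F.map_comp, hj, hl, Category.id_comp]⟩
  obtain ⟨V, hxV, hVj, -⟩ := exists_nhd_isIso j
    (fun t => RedRank.isConnected_centralizer hconn i hT hc t) b' hiso
  haveI := hVj
  haveI : (Over.pullback V.ι).IsRightAdjoint := (Over.mapPullbackAdj V.ι).isRightAdjoint
  have hcV := SolvGrp.isCentralizerOf_bc V.ι i c hc
  have hjV : (Over.pullback V.ι).map j ≫ (Over.pullback V.ι).map c = (Over.pullback V.ι).map i := by
    rw [← Functor.map_comp, hj]
  have hsV : Red.IsCentralizerOf ((Over.pullback V.ι).map i) ((Over.pullback V.ι).map i) :=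
    ⟨inferInstance, inferInstance, fun X p => by
      rw [← hcV.2.2 X p]
      refine ⟨fun ⟨z, hz⟩ => ⟨z ≫ (Over.pullback V.ι).map j, by rw [Category.assoc, hjV, hz]⟩,
        fun ⟨z, hz⟩ => ⟨z ≫ inv ((Over.pullback V.ι).map j), ?_⟩⟩
      rw [Category.assoc, ← hjV, IsIso.inv_hom_id_assoc, hz]⟩
  refine ⟨V, ?_, hVj, UnipZero.isMaximalTorus_of_selfCent (SolvGrp.isTorus_bc V.ι hT) hsV⟩
  have h := Scheme.fromSpecResidueField_apply s
    (Spec.map (CommRingCat.ofHom (algebraMap (S.residueField s) (AlgebraicClosure (S.residueField s))))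
      (IsLocalRing.closedPoint (AlgebraicClosure (S.residueField s))))
  exact h ▸ hxV

end Groth.Agent.RedRank.ReductiveRank
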