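import Groth.Agent.RedRank.ImageBij
import Groth.Agent.RedRank.CartanNhd
import Groth.Agent.GrpSchLib.HomUnitLocus
import Groth.Agent.MaxTorTransp.Descend

/-!
# Cartan subgroups under a surjection with central kernel
-/

universe u

open CategoryTheory CategoryTheory.Limits MonoidalCategory CartesianMonoidalCategory MonObj AlgebraicGeometry

set_option backward.isDefEq.respectTransparency false
set_option backward.isDefEq.respectTransparency.types false
set_option linter.style.haveILetI false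
set_option synthInstance.maxHeartbeats 200000
set_option maxHeartbeats 1000000
set_option autoImplicit false

namespace Groth.Agent.RedRank.CartanBij

open GrpSchLib MaxTorCent MaxTorTransp ImageBij

variable {S : Scheme.{u}}

/-- A point commuting with a torus maps to one commuting with its image. -/
theorem comm_image {G G' T T' : Over S} [GrpObj G] [GrpObj G'] [GrpObj T] [GrpObj T'] (u : G ⟶ G') [IsMonHom u]
    {i : T ⟶ G} {i' : T' ⟶ G'} (v₀ : T ⟶ T') [Surjective v₀.left] [Flat v₀.left] [QuasiCompact v₀.left]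
    (e₀ : v₀ ≫ i' = i ≫ u) {X : Over S} (g : X ⟶ G)
    (hg : ∀ (X' : Over S) (x : X' ⟶ X) (t : X' ⟶ T), (x ≫ g) * (t ≫ i) = (t ≫ i) * (x ≫ g))
    (X' : Over S) (x : X' ⟶ X) (t' : X' ⟶ T') :
    (x ≫ g ≫ u) * (t' ≫ i') = (t' ≫ i') * (x ≫ g ≫ u) := by
  let p : pullback t'.left v₀.left ⟶ X'.left := pullback.fst _ _
  haveI : Epi p := (FpqcDescLib.covers_of_isCovering (FpqcDescLib.isCovering_of_quasiCompact p)).epi
  let X₁ : Over S := Over.mk (p ≫ X'.hom)
  let p' : X₁ ⟶ X' := Over.homMk p rfl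
  haveI : Epi p'.left := ‹Epi p›
  haveI : Epi p' := Over.epi_of_epi_left _
  let y : X₁ ⟶ T := Over.homMk (pullback.snd t'.left v₀.left) (by
    show _ = p ≫ X'.hom
    rw [← Over.w v₀, ← pullback.condition_assoc, Over.w t'])
  have hy : y ≫ v₀ = p' ≫ t' := Over.OverMorphism.ext pullback.condition.symm
  have h := congrArg (· ≫ u) (hg X₁ (p' ≫ x) y)
  simp only [MonObj.mul_comp, Category.assoc, ← e₀] at h
  rw [reassoc_of% hy] at h
  rw [← cancel_epi p', MonObj.comp_mul, MonObj.comp_mul]
  exact h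

/-- The Cartan subgroup is the preimage of the Cartan subgroup of the image. -/
theorem exists_cartesian {G G' T T' C C' : Over S} [GrpObj G] [GrpObj G'] [GrpObj T] [GrpObj T'] [GrpObj C]
    [GrpObj C'] [Smooth G.hom] [IsSeparated G.hom] [QuasiCompact G.hom] [Smooth G'.hom] [IsSeparated G'.hom]
    [QuasiCompact G'.hom] (u : G ⟶ G') [IsMonHom u] [Surjective u.left] (hker : CentralKer u)
    {i : T ⟶ G} (hi : Red.IsMaximalTorus i) {i' : T' ⟶ G'} (hi' : Red.IsMaximalTorus i') (v₀ : T ⟶ T')
    [Surjective v₀.left] (e₀ : v₀ ≫ i' = i ≫ u) {c : C ⟶ G} (hc : Red.IsCentralizerOf i c)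
    {c' : C' ⟶ G'} (hc' : Red.IsCentralizerOf i' c')
    (hconn : ∀ s : S, _root_.IsConnected (C'.hom.base ⁻¹' {s})) :
    ∃ v : C ⟶ C', IsMonHom v ∧ Surjective v.left ∧ Flat v.left ∧ IsPullback c v u c' := by
  haveI := hi.1; haveI := hi.2.1; haveI := hi'.1; haveI := hi'.2.1
  haveI := hc.1; haveI := hc.2.1; haveI := hc'.1; haveI := hc'.2.1
  haveI : IsMonHom v₀ := AGFLib.isMonHom_of_mul v₀ fun X a b => by
    rw [← cancel_mono i', Category.assoc, e₀, MonObj.mul_comp _ _ i', Category.assoc, Category.assoc, e₀,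
      MonObj.mul_comp]
  obtain ⟨hfl, hqc⟩ := flat_onto_torus v₀ hi.2.2.1 hi'.2.2.1
  haveI := hfl; haveI := hqc
  haveI : GeometricallyReduced G'.hom := IsogenyFibre.geometricallyReduced_of_smooth' G'.hom
  haveI : Flat u.left := (HomFlatLft.flat_hom u).1
  haveI : LocallyOfFinitePresentation (u.left ≫ G'.hom) := by rw [Over.w u]; infer_instance
  haveI : LocallyOfFinitePresentation u.left := S12442.locallyOfFinitePresentation_of_comp u.left G'.hom
  -- the map to the centraliser of the image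
  obtain ⟨v, hv⟩ := (hc'.2.2 C (c ≫ u)).mpr fun X' x t' =>
    comm_image u v₀ e₀ c (fun X'' y t => by
      simpa using (hc.2.2 _ (y ≫ c)).mp ⟨y, rfl⟩ _ (𝟙 _) t) X' x t'
  have hv' : c ≫ u = v ≫ c' := hv.symm
  haveI : IsMonHom v := AGFLib.isMonHom_of_mul v fun X a b => by
    rw [← cancel_mono c', Category.assoc, hv, MonObj.mul_comp _ _ c', Category.assoc, Category.assoc, hv,
      MonObj.mul_comp]
  -- the preimage
  let H : Over S := Over.mk (pullback.fst u.left c'.left ≫ G.hom)
  let g : H ⟶ G := Over.homMk (pullback.fst u.left c'.left) rfl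
  let p : H ⟶ C' := Over.homMk (pullback.snd u.left c'.left) (by
    show _ = pullback.fst u.left c'.left ≫ G.hom
    rw [← Over.w u, pullback.condition_assoc, Over.w c'])
  have hgp : g ≫ u = p ≫ c' := Over.OverMorphism.ext pullback.condition
  haveI : Surjective p.left := inferInstanceAs (Surjective (pullback.snd u.left c'.left))
  haveI : Flat p.left := inferInstanceAs (Flat (pullback.snd u.left c'.left))
  haveI : UniversallyOpen p.left := inferInstanceAs (UniversallyOpen (pullback.snd u.left c'.left))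
  have hlift : ∀ {Y : Over S} (a : Y ⟶ G) (b : Y ⟶ C'), a ≫ u = b ≫ c' → ∃ l : Y ⟶ H, l ≫ g = a ∧ l ≫ p = b := by
    intro Y a b e
    refine ⟨Over.homMk (pullback.lift a.left b.left (congrArg (fun m : Y ⟶ G' => m.left) e)) ?_, ?_, ?_⟩
    · show pullback.lift _ _ _ ≫ pullback.fst u.left c'.left ≫ G.hom = Y.hom
      rw [pullback.lift_fst_assoc, Over.w a]
    · exact Over.OverMorphism.ext (pullback.lift_fst _ _ _)
    · exact Over.OverMorphism.ext (pullback.lift_snd _ _ _)
  -- the universal point over the preimage, and its action on the torus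
  let σ : H.left ⟶ S := H.hom
  haveI : (Over.pullback σ).IsRightAdjoint := (Over.mapPullbackAdj σ).isRightAdjoint
  haveI : Smooth (Red.bc σ G).hom := inferInstanceAs (Smooth (pullback.snd G.hom σ))
  haveI : IsSeparated (Red.bc σ G).hom := inferInstanceAs (IsSeparated (pullback.snd G.hom σ))
  haveI : QuasiCompact (Red.bc σ G).hom := inferInstanceAs (QuasiCompact (pullback.snd G.hom σ))
  obtain ⟨sec, hsec⟩ := TorsionCent.exists_pt σ (X := G) g.left (Over.w g)
  haveI : Smooth T.hom := FixTorus.smooth_of_isTorus hi.2.2.1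
  haveI : Surjective ((Over.pullback σ).map v₀).left := surjective_map v₀ σ
  -- reading points over the preimage
  let toH : ∀ Y : Over H.left, (Over.map σ).obj Y ⟶ H := fun Y => Over.homMk Y.hom rfl
  have hsecY : ∀ Y : Over H.left, DSPtsLib.theta σ (toUnit Y ≫ sec) = toH Y ≫ g := fun Y => by
    refine Over.OverMorphism.ext ?_
    rw [DSPtsLib.theta_left] at hsec
    simp only [DSPtsLib.theta_left, Over.comp_left, Category.assoc, hsec, toH, Over.homMk_left]
    rfl
  have hconjY : ∀ {Y : Over H.left} (y : Y ⟶ Red.bc σ T),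
      DSPtsLib.theta σ (y ≫ (Over.pullback σ).map i ≫ conjEnd sec) =
        (toH Y ≫ g) * (DSPtsLib.theta σ y ≫ i) * (toH Y ≫ g)⁻¹ := fun {Y} y => by
    rw [← Category.assoc, comp_conjEnd, DSPtsLib.theta_mul, DSPtsLib.theta_mul, theta_inv, TorsionCent.theta_map',
      hsecY]
  obtain ⟨φ, hφ⟩ := exists_iso_of_image ((Over.pullback σ).map u) (centralKer_bc hker σ) (isMaximalTorus_bc hi σ)
    (isMaximalTorus_comp_iso (isMaximalTorus_bc hi σ) (conjEnd sec)) ((Over.pullback σ).map i')
    (SolvGrp.isTorus_bc σ hi'.2.2.1) ((Over.pullback σ).map v₀) ((Over.pullback σ).map v₀)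
    (by rw [← Functor.map_comp, e₀, Functor.map_comp]) (by
      refine (DSPtsLib.theta_bijective σ).1 ?_
      have h0 := hconjY (𝟙 (Red.bc σ T))
      rw [Category.id_comp] at h0
      rw [TorsionCent.theta_map' σ ((Over.pullback σ).map v₀) i',
        TorsionCent.theta_map' σ ((Over.pullback σ).map i ≫ conjEnd sec) u, h0]
      have hk : ∀ {K : Over S} (h : T ⟶ K),
          DSPtsLib.theta σ ((Over.pullback σ).map h) = DSPtsLib.theta σ (𝟙 (Red.bc σ T)) ≫ h := fun h => by
        rw [← TorsionCent.theta_map', Category.id_comp]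
      rw [hk, MonObj.mul_comp, MonObj.mul_comp, GrpObj.inv_comp]
      simp only [Category.assoc, hgp, ← e₀]
      have hcomm := (hc'.2.2 _ ((toH (Red.bc σ T) ≫ p) ≫ c')).mp ⟨_, rfl⟩ _ (𝟙 _)
        (DSPtsLib.theta σ (𝟙 (Red.bc σ T)) ≫ v₀)
      rw [Category.id_comp] at hcomm
      simp only [Category.assoc] at hcomm
      rw [hcomm, mul_inv_cancel_right])
  haveI : Mono ((Over.pullback σ).map i) := inferInstance
  haveI : IsMonHom ((Over.pullback σ).map i ≫ conjEnd sec) := inferInstance
  haveI : IsMonHom φ.hom := AGFLib.isMonHom_of_mul φ.hom fun X a b => by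
    haveI : Mono ((Over.pullback σ).map i ≫ conjEnd sec) := mono_comp _ _
    rw [← cancel_mono ((Over.pullback σ).map i ≫ conjEnd sec), Category.assoc, hφ,
      MonObj.mul_comp _ _ ((Over.pullback σ).map i), MonObj.mul_comp _ _ ((Over.pullback σ).map i ≫ conjEnd sec),
      Category.assoc, Category.assoc, hφ]
  have hTσ : SGA3x.IsMultTypeFT (Red.bc σ T) := TorusQI.isMultTypeFT_of_isTorus (SolvGrp.isTorus_bc σ hi.2.2.1)
  let ψ : Red.bc σ T ⟶ Red.bc σ T := φ.hom * (𝟙 (Red.bc σ T))⁻¹
  have hψy : ∀ {Y : Over H.left} (y : Y ⟶ Red.bc σ T), y ≫ ψ = (y ≫ φ.hom) * y⁻¹ := fun y => by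
    simp only [ψ, MonObj.comp_mul, GrpObj.comp_inv, Category.comp_id]
  haveI : IsMonHom ψ := AGFLib.isMonHom_of_mul ψ fun X a b => by
    rw [hψy, hψy, hψy, MonObj.mul_comp, mul_inv_rev, _root_.mul_assoc, _root_.mul_assoc]
    congr 1
    rw [← _root_.mul_assoc, MultTypeComm.points_comm hTσ ((b ≫ φ.hom) * b⁻¹) a⁻¹]
  haveI : IsSeparated (Red.bc σ T).hom := by
    haveI := (TransLib.multTypeFT_essFree hTσ).1
    infer_instance
  haveI : LocallyOfFiniteType (Red.bc σ T).hom := inferInstanceAs (LocallyOfFiniteType (pullback.snd T.hom σ))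
  obtain ⟨U, hUcl, hUmem, hUtriv⟩ := HomUnitLocus.main (u := ψ) hTσ (Or.inr ‹_›)
  -- `Triv` is commutation with the torus
  have hfix : ∀ {Y : Over H.left} (y : Y ⟶ Red.bc σ T),
      (y ≫ ψ = 1 ↔ (toH Y ≫ g) * (DSPtsLib.theta σ y ≫ i) = (DSPtsLib.theta σ y ≫ i) * (toH Y ≫ g)) := by
    intro Y y
    haveI : Mono ((Over.pullback σ).map i ≫ conjEnd sec) := mono_comp _ _
    rw [hψy, mul_inv_eq_one, ← cancel_mono ((Over.pullback σ).map i ≫ conjEnd sec), Category.assoc, hφ,
      ← (DSPtsLib.theta_bijective σ).1.eq_iff, hconjY, TorsionCent.theta_map', eq_mul_inv_iff_mul_eq]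
    exact eq_comm
  -- points in the locus
  have hcomm_of : ∀ {Y : Over S} (a : Y ⟶ H), Set.range a.left ⊆ (U : Set H.left) →
      ∀ t : Y ⟶ T, (a ≫ g) * (t ≫ i) = (t ≫ i) * (a ≫ g) := by
    intro Y a ha t
    let Y' : Over H.left := Over.mk a.left
    let e : (Over.map σ).obj Y' ≅ Y := Over.isoMk (Iso.refl _) (by
      show 𝟙 _ ≫ Y.hom = a.left ≫ H.hom
      rw [Category.id_comp, Over.w a])
    obtain ⟨y, hy⟩ := (DSPtsLib.theta_bijective (g := σ) (Y := Y') (H := T)).2 (e.hom ≫ t)
    let q : Y' ⟶ Over.mk U.ι := Over.homMk (IsOpenImmersion.lift U.ι a.left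
      (ha.trans (Scheme.Opens.range_ι U).ge))
      (IsOpenImmersion.lift_fac _ _ _)
    have h := (hfix y).mp (hUtriv Y' q y)
    have he : toH Y' = e.hom ≫ a := Over.OverMorphism.ext (Category.id_comp _).symm
    rw [← cancel_epi e.hom, MonObj.comp_mul, MonObj.comp_mul]
    rw [hy, he] at h
    simpa only [Category.assoc] using h
  have hmem_of : ∀ {Y : Over S} (a : Y ⟶ H),
      (∀ (X' : Over S) (x : X' ⟶ Y) (t : X' ⟶ T), (x ≫ a ≫ g) * (t ≫ i) = (t ≫ i) * (x ≫ a ≫ g)) →
        Set.range a.left ⊆ (U : Set H.left) := by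
    rintro Y a ha _ ⟨z, rfl⟩
    refine (hUmem _).mpr ?_
    refine HomUnitLocus.Triv.of_covers _ (HomUnitLocus.covers_field (a.left.residueFieldMap z)) ?_
    rw [Scheme.Hom.SpecMap_residueFieldMap_fromSpecResidueField]
    intro Z q y
    refine (hfix y).mpr ?_
    let x : (Over.map σ).obj Z ⟶ Y := Over.homMk (q.left ≫ Y.left.fromSpecResidueField z) (by
      show (q.left ≫ Y.left.fromSpecResidueField z) ≫ Y.hom = Z.hom ≫ σ
      rw [← Over.w a, ← Over.w q]
      simp only [σ, Over.mk_hom, Category.assoc])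
    have hx : toH Z = x ≫ a := by
      refine Over.OverMorphism.ext ?_
      show Z.hom = (q.left ≫ Y.left.fromSpecResidueField z) ≫ a.left
      rw [← Over.w q]
      simp only [Over.mk_hom, Category.assoc]
    rw [hx, Category.assoc]
    exact ha _ x _
  -- the locus is saturated
  have hsat : ∀ h h' : H.left, p.left h = p.left h' → h ∈ U → h' ∈ U := by
    intro h h' hhh hU
    obtain ⟨w, hw₁, hw₂⟩ := Scheme.Pullback.exists_preimage_pullback (f := p.left) (g := p.left) h h' hhh
    let W : (pullback p.left p.left).Opens := pullback.fst p.left p.left ⁻¹ᵁ U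
    let Y : Over S := Over.mk ((W.ι ≫ pullback.fst p.left p.left) ≫ H.hom)
    let a : Y ⟶ H := Over.homMk (W.ι ≫ pullback.fst p.left p.left) rfl
    let b : Y ⟶ H := Over.homMk (W.ι ≫ pullback.snd p.left p.left) (by
      show (W.ι ≫ pullback.snd p.left p.left) ≫ H.hom = (W.ι ≫ pullback.fst p.left p.left) ≫ H.hom
      rw [← Over.w p]
      simp only [Category.assoc, pullback.condition_assoc])
    have hab : a ≫ p = b ≫ p := Over.OverMorphism.ext (by
      show (W.ι ≫ pullback.fst p.left p.left) ≫ p.left = (W.ι ≫ pullback.snd p.left p.left) ≫ p.left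
      rw [Category.assoc, Category.assoc, pullback.condition])
    have hz : ((a ≫ g)⁻¹ * (b ≫ g)) ≫ u = 1 := by
      rw [MonObj.mul_comp, GrpObj.inv_comp, Category.assoc, Category.assoc, hgp, reassoc_of% hab, inv_mul_cancel]
    have hb : Set.range b.left ⊆ (U : Set H.left) := hmem_of b fun X' x t => by
      have h1 := hcomm_of (x ≫ a) (by
        rintro _ ⟨r, rfl⟩
        exact (x.left r : (W : Scheme.{u})).2) t
      have h2 := hker Y _ hz X' x (t ≫ i)
      rw [show x ≫ b ≫ g = (x ≫ a ≫ g) * (x ≫ ((a ≫ g)⁻¹ * (b ≫ g))) by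
        rw [← MonObj.comp_mul, mul_inv_cancel_left]]
      rw [_root_.mul_assoc, h2, ← _root_.mul_assoc, ← Category.assoc x a, h1, _root_.mul_assoc]
    refine hb ⟨⟨w, show pullback.fst p.left p.left w ∈ U by rw [hw₁]; exact hU⟩, ?_⟩
    show pullback.snd p.left p.left w = h'
    exact hw₂
  -- it is everything
  have hall : ∀ h : H.left, h ∈ U := by
    intro h
    by_contra hh
    let s := C'.hom (p.left h)
    obtain ⟨e, heg, hep⟩ := hlift (Y := 𝟙_ (Over S)) 1 1 (by rw [MonObj.one_comp, MonObj.one_comp])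
    have he : e.left s ∈ (U : Set H.left) := hmem_of e (fun X' x t => by
      rw [heg, MonObj.comp_one, _root_.one_mul, _root_.mul_one]) ⟨s, rfl⟩
    have hes : C'.hom (p.left (e.left s)) = s := by
      have := Over.w (e ≫ p)
      exact congrArg (fun f : S ⟶ S => f s) this
    let V : Set C'.left := p.left.base '' (U : Set H.left)
    let V' : Set C'.left := p.left.base '' (U : Set H.left)ᶜ
    have hV : IsOpen V := p.left.isOpenMap _ U.isOpen
    have hV' : IsOpen V' := p.left.isOpenMap _ hUcl.isOpen_compl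
    obtain ⟨z, -, ⟨a₁, ha₁, e₁⟩, a₂, ha₂, e₂⟩ := (hconn s).isPreconnected V V' hV hV' (fun z _ => by
        obtain ⟨a, rfl⟩ := p.left.surjective z
        exact (em (a ∈ U)).imp (fun ha => ⟨a, ha, rfl⟩) (fun ha => ⟨a, ha, rfl⟩))
      ⟨_, hes, e.left s, he, rfl⟩ ⟨p.left h, rfl, h, hh, rfl⟩
    exact ha₂ (hsat a₁ a₂ (e₁.trans e₂.symm) ha₁)
  -- hence the preimage is the Cartan subgroup
  obtain ⟨r, hr⟩ := (hc.2.2 H g).mpr fun X' x t => hcomm_of x (fun z _ => hall z) t
  obtain ⟨d, hdg, hdp⟩ := hlift c v hv'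
  have hrd : r ≫ d = 𝟙 H := by
    refine Over.OverMorphism.ext (pullback.hom_ext ?_ ?_)
    · have h1 : (r ≫ d) ≫ g = g := by rw [Category.assoc, hdg, hr]
      exact (congrArg (fun m : H ⟶ G => m.left) h1).trans (Category.id_comp _).symm
    · have h1 : (r ≫ d) ≫ p = p := by
        rw [← cancel_mono c', Category.assoc, Category.assoc, reassoc_of% hdp, hv, reassoc_of% hr, hgp]
      exact (congrArg (fun m : H ⟶ C' => m.left) h1).trans (Category.id_comp _).symm
  have hdr : d ≫ r = 𝟙 C := by rw [← cancel_mono c, Category.assoc, hr, hdg, Category.id_comp]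
  haveI : IsIso d := ⟨r, hdr, hrd⟩
  haveI : IsIso d.left := inferInstanceAs (IsIso ((Over.forget _).map d))
  have hvl : v.left = d.left ≫ p.left := by rw [← hdp]; rfl
  refine ⟨v, inferInstance, by rw [hvl]; infer_instance, by rw [hvl]; infer_instance, ?_⟩
  refine IsPullback.of_isLimit' ⟨hv'⟩ (PullbackCone.IsLimit.mk _
    (fun s => (hlift s.fst s.snd s.condition).choose ≫ r) (fun s => ?_) (fun s => ?_) fun s m hm _ => ?_)
  · rw [Category.assoc, hr]
    exact (hlift s.fst s.snd s.condition).choose_spec.1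
  · rw [← cancel_mono c', Category.assoc, Category.assoc, hv, reassoc_of% hr,
      reassoc_of% (hlift s.fst s.snd s.condition).choose_spec.1, s.condition]
  · rw [← cancel_mono c, Category.assoc, hr, (hlift s.fst s.snd s.condition).choose_spec.1]
    exact hm


/-- The target of a surjection has maximal tori fpqc locally. -/
theorem hasMaxTorus_image {G G' : Over S} [GrpObj G] [GrpObj G'] [Smooth G.hom] [IsSeparated G.hom]
    [QuasiCompact G.hom] [Smooth G'.hom] [IsSeparated G'.hom] [QuasiCompact G'.hom] (u : G ⟶ G') [IsMonHom u]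
    [Surjective u.left] (hG : SGA3x.HasMaxTorusFpqcLocally G) : SGA3x.HasMaxTorusFpqcLocally G' := by
  obtain ⟨S₁, f, hff, hfs, hcov, T₀, _, i₀, hi₀⟩ := hG
  haveI := hff; haveI := hfs
  haveI : (Over.pullback f).IsRightAdjoint := (Over.mapPullbackAdj f).isRightAdjoint
  haveI : Smooth (Red.bc f G).hom := inferInstanceAs (Smooth (pullback.snd G.hom f))
  haveI : IsSeparated (Red.bc f G).hom := inferInstanceAs (IsSeparated (pullback.snd G.hom f))
  haveI : QuasiCompact (Red.bc f G).hom := inferInstanceAs (QuasiCompact (pullback.snd G.hom f))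
  haveI : Smooth (Red.bc f G').hom := inferInstanceAs (Smooth (pullback.snd G'.hom f))
  haveI : IsSeparated (Red.bc f G').hom := inferInstanceAs (IsSeparated (pullback.snd G'.hom f))
  haveI : QuasiCompact (Red.bc f G').hom := inferInstanceAs (QuasiCompact (pullback.snd G'.hom f))
  let u₁ := (Over.pullback f).map u
  haveI : Surjective u₁.left := surjective_map u f
  obtain ⟨T'₀, hgrp, i'₀, v₀, h'₀, -⟩ :=
    MultTypeImage.exists_maximalTorus_image u₁ (fun s => surjective_map u₁ (Red.geomPt s)) hi₀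
  exact ⟨S₁, f, hff, hfs, hcov, T'₀, hgrp, i'₀, h'₀⟩

end Groth.Agent.RedRank.CartanBij
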