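import Groth.Agent.RedRank.UnipZero
import Groth.Agent.SolvGrp.Reductive2
import Groth.Agent.SolvGrp.Cent
import Groth.Agent.FibDim.BaseField

/-!
# The nilpotent rank is bounded by the centralisers of tori
-/

universe u

open CategoryTheory CategoryTheory.Limits MonoidalCategory CartesianMonoidalCategory MonObj AlgebraicGeometry

set_option backward.isDefEq.respectTransparency false
set_option backward.isDefEq.respectTransparency.types false
set_option linter.style.haveILetI false
set_option synthInstance.maxHeartbeats 200000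
set_option maxHeartbeats 1000000
set_option autoImplicit false

namespace Groth.Agent.RedRank.CentDim

open GrpSchLib MaxTorCent MaxTorTransp

variable {k : Type u} [Field k] {G T C : Over (Spec (CommRingCat.of k))} [GrpObj G] [GrpObj T] [GrpObj C]

/-- A centraliser of a torus is a closed subscheme. -/
theorem isClosedImmersion_centralizer [Smooth G.hom] [IsSeparated G.hom] {i : T ⟶ G} [IsMonHom i]
    (hT : SGA3x.IsMultTypeFT T) {c : C ⟶ G} (hc : Red.IsCentralizerOf i c) : IsClosedImmersion c.left := by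
  haveI := hc.1; haveI := hc.2.1
  obtain ⟨C₀, _, c₀, hc₀, hcl, -⟩ := MaxTorCent.exists_centralizer i hT
  haveI := hcl; haveI := hc₀.2.1
  obtain ⟨a, ha⟩ := (hc₀.2.2 C c).mpr ((hc.2.2 C c).mp ⟨𝟙 _, Category.id_comp _⟩)
  obtain ⟨b, hb⟩ := (hc.2.2 C₀ c₀).mpr ((hc₀.2.2 C₀ c₀).mp ⟨𝟙 _, Category.id_comp _⟩)
  let e : C ≅ C₀ := ⟨a, b, by rw [← cancel_mono c, Category.assoc, hb, ha, Category.id_comp],
    by rw [← cancel_mono c₀, Category.assoc, ha, hb, Category.id_comp]⟩
  rw [← ha, Over.comp_left]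
  haveI : IsIso a := e.isIso_hom
  haveI : IsIso a.left := Functor.map_isIso (Over.forget _) a
  infer_instance

/-- Over an algebraically closed field a Cartan subgroup embeds in the centraliser of a torus. -/
theorem dim_cartan_le [IsAlgClosed k] [Smooth G.hom] [IsAffine G.left] (j : T ⟶ G) [IsMonHom j] [Mono j]
    (hT : Red.IsTorus T) {c : C ⟶ G} (hC : Red.IsCentralizerOf j c) {C' : Over (Spec (CommRingCat.of k))} [GrpObj C']
    {c' : C' ⟶ G} (hC' : SGA3x.IsCartanOver k c') : topologicalKrullDim C'.left ≤ topologicalKrullDim C.left := by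
  obtain ⟨h1, h2, U, _, u, hU, hcen⟩ := hC'
  haveI := h1; haveI := h2; haveI := hC.1; haveI := hC.2.1; haveI := hU.1; haveI := hU.2.1
  haveI : QuasiCompact G.hom := inferInstance
  haveI : IsAffineHom G.hom := isAffineHom_of_isAffine G.hom
  -- a maximal torus containing the torus
  obtain ⟨D, _, r, hr, hrc, hDs, hDc, hDq, -, huniv⟩ := NonAffine.exists_idSub G
  haveI := hr; haveI := hrc; haveI := hDs; haveI := hDc; haveI := hDq
  haveI : IsAffine D.left := isAffine_of_isAffineHom r.left
  haveI : Mono r := haveI : Mono r.left := inferInstance; Over.mono_of_mono_left _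
  obtain ⟨ha, hs, hc, -⟩ := SolvGrp.torus_props hT
  haveI := ha; haveI := hs; haveI := hc
  haveI : IsReduced T.left := isReduced_of_smooth_field T.hom
  obtain ⟨j₀, hj₀, hjr⟩ := huniv T j
  haveI := hj₀
  obtain ⟨T₁, _, i₁, hm₁, hT₁, hle⟩ := SolvGrp.exists_maxTorus_containing j₀ hT
  haveI := hm₁; haveI := hT₁.2.1
  obtain ⟨ha₁, hs₁, hc₁, -⟩ := SolvGrp.torus_props hT₁.2.2.1
  haveI := ha₁; haveI := hs₁; haveI := hc₁
  haveI : IsClosedImmersion i₁.left := DomHom.isClosedImmersion_of_mono i₁
  obtain ⟨a, hja⟩ := AGFLib.BorelExist.exists_lift_pts i₁ j₀ fun t => hle ⟨t, rfl⟩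
  have hmax : AGF.IsMaxTorus (i₁ ≫ r) := ⟨inferInstance, inferInstance, hT₁.2.2.1, fun T' _ j' _ _ f hT' hf => by
    obtain ⟨ha', hs', hc', -⟩ := SolvGrp.torus_props hT'
    haveI := ha'; haveI := hs'; haveI := hc'
    obtain ⟨j₁, hj₁, hjr₁⟩ := huniv T' j'
    haveI := hj₁
    haveI : Mono j₁ := haveI : Mono (j₁ ≫ r) := hjr₁.symm ▸ ‹Mono j'›; mono_of_mono j₁ r
    exact hT₁.2.2.2 T' j₁ f hT' (by rw [← cancel_mono r, Category.assoc, hjr₁, hf])⟩
  obtain ⟨g, φ, hφ⟩ := MaxTorTransp.exists_conj_maxTorus (SolvGrp.isMaxTorus_of_isMaximalTorus hU) hmax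
  -- the conjugate of the Cartan subgroup commutes with the torus
  let c₂ : C' ⟶ G := c' ≫ AGFLib.Borel.conjM g
  have hcc : ∀ (X : Over (Spec (CommRingCat.of k))) (x : X ⟶ C') (y : X ⟶ T),
      (x ≫ c₂) * (y ≫ j) = (y ≫ j) * (x ≫ c₂) := fun X x y => by
    have hy : y ≫ j = ((y ≫ a ≫ φ.inv) ≫ u) ≫ AGFLib.Borel.conjM g := by
      have hu : φ.hom ≫ i₁ ≫ r = u ≫ AGFLib.Borel.conjM g := by
        rw [hφ]
        refine Eq.trans ?_ (AGFLib.Borel.comp_conjM g u).symm
        rfl
      simp only [Category.assoc]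
      rw [← hu, Iso.inv_hom_id_assoc, reassoc_of% hja, hjr]
    have h := (hcen.2.2 X (x ≫ c')).mp ⟨x, rfl⟩ X (𝟙 X) (y ≫ a ≫ φ.inv)
    rw [Category.id_comp] at h
    rw [hy, show x ≫ c₂ = (x ≫ c') ≫ AGFLib.Borel.conjM g from (Category.assoc _ _ _).symm, ← MonObj.mul_comp,
      ← MonObj.mul_comp, h]
  obtain ⟨b, hb⟩ := (hC.2.2 C' c₂).mpr fun X x y => hcc X x y
  haveI : IsClosedImmersion c'.left := isClosedImmersion_centralizer (TorusQI.isMultTypeFT_of_isTorus hU.2.2.1) hcen
  haveI : IsClosedImmersion c.left := isClosedImmersion_centralizer (TorusQI.isMultTypeFT_of_isTorus hT) hC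
  haveI : IsIso (AGFLib.Borel.conjM g) := ⟨AGFLib.Borel.conjM g⁻¹,
    by rw [AGFLib.Borel.conjM_comp, inv_mul_cancel, AGFLib.Borel.conjM_one],
    by rw [AGFLib.Borel.conjM_comp, mul_inv_cancel, AGFLib.Borel.conjM_one]⟩
  haveI : IsIso (AGFLib.Borel.conjM g).left := Functor.map_isIso (Over.forget _) (AGFLib.Borel.conjM g)
  haveI : IsClosedImmersion (b.left ≫ c.left) := by
    rw [← Over.comp_left, hb]
    show IsClosedImmersion (c'.left ≫ (AGFLib.Borel.conjM g).left)
    infer_instance
  haveI : IsClosedImmersion b.left := IsClosedImmersion.of_comp b.left c.left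
  exact b.left.isClosedEmbedding.isInducing.topologicalKrullDim_le

/-- The nilpotent rank is at most the dimension of the centraliser of a torus. -/
theorem dim_cartanOver_le [Smooth G.hom] [IsAffine G.left] (j : T ⟶ G) [IsMonHom j] [Mono j] (hT : Red.IsTorus T)
    {c : C ⟶ G} (hC : Red.IsCentralizerOf j c) (s : ↥(Spec (CommRingCat.of k)))
    {C' : Over (Spec (CommRingCat.of (AlgebraicClosure ((Spec (CommRingCat.of k)).residueField s))))} [GrpObj C']
    {c' : C' ⟶ Red.geomFibre s G}
    (hC' : SGA3x.IsCartanOver (AlgebraicClosure ((Spec (CommRingCat.of k)).residueField s)) c') :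
    topologicalKrullDim ↥C'.left ≤ topologicalKrullDim ↥C.left := by
  let b := Red.geomPt s
  haveI : (Over.pullback b).IsRightAdjoint := (Over.mapPullbackAdj b).isRightAdjoint
  haveI : IsAffineHom G.hom := isAffineHom_of_isAffine G.hom
  haveI : IsAffineHom (pullback.snd G.hom b) := MorphismProperty.pullback_snd (P := @IsAffineHom) _ _ inferInstance
  haveI : IsAffine (Red.geomFibre s G).left := isAffine_of_isAffineHom (pullback.snd G.hom b)
  haveI : Smooth (Red.geomFibre s G).hom := inferInstanceAs (Smooth (pullback.snd G.hom b))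
  haveI : IsClosedImmersion c.left := isClosedImmersion_centralizer (TorusQI.isMultTypeFT_of_isTorus hT) hC
  haveI : LocallyOfFiniteType C.hom := by rw [← Over.w c]; infer_instance
  have h := dim_cartan_le ((Over.pullback b).map j) (SolvGrp.isTorus_bc b hT)
    (SolvGrp.isCentralizerOf_bc b j c hC) hC'
  refine h.trans (le_of_eq ?_)
  haveI : Subsingleton ↥(Spec (CommRingCat.of k)) := inferInstanceAs (Subsingleton (PrimeSpectrum k))
  haveI : Subsingleton ↥(Spec (CommRingCat.of (AlgebraicClosure ((Spec (CommRingCat.of k)).residueField s)))) :=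
    inferInstanceAs (Subsingleton (PrimeSpectrum _))
  haveI : LocallyOfFiniteType (pullback.snd C.hom b) := inferInstance
  exact FibDim.topologicalKrullDim_baseChange (IsPullback.of_hasPullback C.hom b)

end Groth.Agent.RedRank.CentDim
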