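import Groth.Agent.TorusQI.MaxSubtorus
import Groth.Agent.SolvGrp.SplitTools
import Groth.Agent.AGFLib.Semi

/-!
# Split tori under base change
-/

universe u

open CategoryTheory CategoryTheory.Limits MonoidalCategory CartesianMonoidalCategory MonObj AlgebraicGeometry

set_option backward.isDefEq.respectTransparency.types false
set_option autoImplicit false

namespace Groth.Agent.RedRank

open Groth.Agent.GrpSchLib

variable {S : Scheme.{u}}

/-- A base change of a split torus is split. -/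
theorem split_bc {S' : Scheme.{u}} (f : S' ⟶ S) {T : Over S} [GrpObj T] {n : ℕ}
    (h : Red.IsSplitTorusWith (Fin n → ℤ) T) : Red.IsSplitTorusWith (Fin n → ℤ) (Red.bc f T) := by
  obtain ⟨e⟩ := h
  obtain ⟨e'⟩ := MultTypeBC.bc_iso f e
  obtain ⟨e''⟩ := MultTypeBC.bc_DS f (Fin n → ℤ)
  exact Nonempty.intro (e'.trans e'')

/-- Two base changes of a split torus give a split torus. -/
theorem split_bc_bc {U U' : Scheme.{u}} (g : U ⟶ S) (b : U' ⟶ U) (n : ℕ) :
    Red.IsSplitTorusWith (Fin n → ℤ) (Red.bc b (Red.bc g (Red.DS S (Fin n → ℤ)))) := by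
  obtain ⟨e₁⟩ := MultTypeBC.bc_bc b g (Red.DS S (Fin n → ℤ))
  obtain ⟨e₂⟩ := MultTypeBC.bc_DS (b ≫ g) (Fin n → ℤ)
  exact Nonempty.intro (e₁.trans e₂)

/-- A split torus receives a diagonalisable group by an isomorphism. -/
theorem exists_iso_bc_DS {U : Scheme.{u}} (b : U ⟶ S) {T₀ : Over U} [GrpObj T₀] {n : ℕ}
    (h : Red.IsSplitTorusWith (Fin n → ℤ) T₀) :
    ∃ e : Red.bc b (Red.DS S (Fin n → ℤ)) ≅ T₀, IsMonHom e.hom := by
  obtain ⟨e₀⟩ := h
  obtain ⟨eb⟩ := MultTypeBC.bc_DS b (Fin n → ℤ)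
  exact ⟨(Grp.forget _).mapIso (eb.trans e₀.symm), (eb.trans e₀.symm).hom.hom.isMonHom_hom⟩

/-- The standard split torus as an abstract torus with its properties. -/
theorem exists_std (S : Scheme.{u}) (n : ℕ) :
    ∃ (H : Over S) (_ : GrpObj H), Red.IsTorus H ∧ SGA3x.IsMultTypeFT H ∧
      (∀ {U : Scheme.{u}} (g : U ⟶ S) {U' : Scheme.{u}} (b : U' ⟶ U),
        Red.IsSplitTorusWith (Fin n → ℤ) (Red.bc b (Red.bc g H))) ∧
      ∀ {U : Scheme.{u}} (b : U ⟶ S) (T₀ : Over U) [GrpObj T₀], Red.IsSplitTorusWith (Fin n → ℤ) T₀ →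
        ∃ e : Red.bc b H ≅ T₀, IsMonHom e.hom := by
  haveI : AddGroup.FG (Fin n → ℤ) := Module.Finite.iff_addGroup_fg.1 inferInstance
  exact ⟨Red.DS S (Fin n → ℤ), inferInstance, TorusQI.isTorus_DS n, TorusQI.isMultTypeFT_DS _,
    fun g _ b => split_bc_bc g b n, fun b T₀ _ h => exists_iso_bc_DS b h⟩

end Groth.Agent.RedRank
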