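import Groth.Agent.RedRank.TorusDim
import Groth.Agent.RedRank.Family
import Groth.Agent.RedRank.DS
import Groth.Agent.MaxTorTransp.Descend
import Groth.Agent.TorusQI.MaxSubtorus
import Groth.Agent.S5246
import Groth.Agent.S0412
import Groth.Agent.SolvGrp.OverClosed
import Groth.Agent.TorsionCent.Global

/-!
# Locally constant reductive rank and étale-local maximal tori
-/

universe u

open CategoryTheory CategoryTheory.Limits MonoidalCategory CartesianMonoidalCategory MonObj AlgebraicGeometry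

set_option backward.isDefEq.respectTransparency false
set_option backward.isDefEq.respectTransparency.types false
set_option linter.style.haveILetI false
set_option synthInstance.maxHeartbeats 80000
set_option autoImplicit false

namespace Groth.Agent.RedRank

open Groth.Agent.GrpSchLib GrpLimLib MaxTorCent MaxTorTransp

variable {S : Scheme.{u}}

/-- A maximal torus of split rank `n` on the geometric fibre at a point. -/
def HasRank {S : Scheme.{u}} (G : Over S) [GrpObj G] {Ω : Type u} [Field Ω]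
    (b : Spec (CommRingCat.of Ω) ⟶ S) (n : ℕ) : Prop :=
  ∃ (T : Over (Spec (CommRingCat.of Ω))) (_ : GrpObj T) (i : T ⟶ Red.bc b G),
    Red.IsMaximalTorus i ∧ Red.IsSplitTorusWith (Fin n → ℤ) T

/-- A geometric point factors through the standard one at its image. -/
theorem exists_geom_lift {Ω : Type u} [Field Ω] [IsAlgClosed Ω] (b : Spec (CommRingCat.of Ω) ⟶ S) (s : S)
    (hs : b (IsLocalRing.closedPoint Ω) = s) :
    ∃ σ : Spec (CommRingCat.of Ω) ⟶ Spec (CommRingCat.of (AlgebraicClosure (S.residueField s))),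
      σ ≫ Red.geomPt s = b := by
  subst hs
  let φ : S.residueField (b (IsLocalRing.closedPoint Ω)) →+* Ω :=
    (Scheme.descResidueField (Scheme.stalkClosedPointTo b)).hom
  letI : Algebra (S.residueField (b (IsLocalRing.closedPoint Ω))) Ω := φ.toAlgebra
  let σ : AlgebraicClosure (S.residueField (b (IsLocalRing.closedPoint Ω))) →ₐ[S.residueField (b (IsLocalRing.closedPoint Ω))] Ω :=
    IsAlgClosed.lift
  refine ⟨Spec.map (CommRingCat.ofHom σ.toRingHom), ?_⟩
  show Spec.map _ ≫ Spec.map _ ≫ _ = b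
  rw [← Category.assoc, ← Spec.map_comp, ← CommRingCat.ofHom_comp, σ.toRingHom_eq_coe]
  erw [σ.comp_algebraMap]
  exact Scheme.descResidueField_stalkClosedPointTo_fromSpecResidueField Ω S b

theorem HasRank.of_geomPt {G : Over S} [GrpObj G] [Smooth G.hom] [QuasiCompact G.hom] [QuasiSeparated G.hom]
    {Ω : Type u} [Field Ω] [IsAlgClosed Ω] (b : Spec (CommRingCat.of Ω) ⟶ S) {n : ℕ} (s : S)
    (hs : b (IsLocalRing.closedPoint Ω) = s) (h : HasRank G (Red.geomPt s) n) : HasRank G b n := by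
  obtain ⟨σ, hσ⟩ := exists_geom_lift b s hs
  obtain ⟨T, _, i, hi, hT⟩ := h
  haveI : Smooth (Red.geomFibre s G).hom := inferInstanceAs (Smooth (pullback.snd G.hom (Red.geomPt s)))
  haveI : QuasiCompact (Red.geomFibre s G).hom := inferInstanceAs (QuasiCompact (pullback.snd G.hom (Red.geomPt s)))
  haveI : QuasiSeparated (Red.geomFibre s G).hom := inferInstanceAs (QuasiSeparated (pullback.snd G.hom (Red.geomPt s)))
  have hmono := GrpLimLib.isMonHom_cmp hσ G
  exact ⟨Red.bc σ T, inferInstance, (Over.pullback σ).map i ≫ (cmp hσ G).hom,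
    isMaximalTorus_comp_iso (MaxTorCent.isMaximalTorus_bc hi σ) _, split_bc σ hT⟩

variable {G : Over S} [GrpObj G] [IsAffineHom G.hom] [Smooth G.hom]

/-- A torus whose fibres have the rank of the maximal tori of the fibres is maximal. -/
theorem isMaximalTorus_of_rank {T : Over S} [GrpObj T] (i : T ⟶ G) [IsMonHom i] [Mono i] (hT : Red.IsTorus T)
    (n : ℕ) (hG : ∀ x : S, HasRank G (Red.geomPt x) n)
    (hTs : ∀ x : S, Red.IsSplitTorusWith (Fin n → ℤ) (Red.bc (Red.geomPt x) T)) : Red.IsMaximalTorus i := by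
  refine ⟨inferInstance, inferInstance, hT, fun x T' _ j _ _ f hT' hf => ?_⟩
  let b := Red.geomPt x
  haveI : (Over.pullback b).IsRightAdjoint := (Over.mapPullbackAdj b).isRightAdjoint
  haveI : IsAffineHom (pullback.snd G.hom b) := MorphismProperty.pullback_snd (P := @IsAffineHom) _ _ inferInstance
  haveI : IsAffine (Red.geomFibre x G).left := isAffine_of_isAffineHom (pullback.snd G.hom b)
  haveI : Smooth (Red.geomFibre x G).hom := inferInstanceAs (Smooth (pullback.snd G.hom b))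
  haveI : QuasiCompact (Red.geomFibre x G).hom := inferInstanceAs (QuasiCompact (pullback.snd G.hom b))
  haveI : IsMonHom f := AGFLib.isMonHom_of_mul f fun X a c => by
    rw [← cancel_mono j, MonObj.mul_comp (a ≫ f), Category.assoc, Category.assoc, Category.assoc, hf,
      MonObj.mul_comp a c]
  haveI : Mono (f ≫ j) := hf.symm ▸ inferInstanceAs (Mono ((Over.pullback b).map i))
  haveI : Mono f := mono_of_mono f j
  have hTx : Red.IsTorus (Red.bc b T) := SolvGrp.isTorus_bc b hT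
  obtain ⟨T₁, _, i₁, h₁, hs₁⟩ := hG x
  have h2 := dim_le (SolvGrp.isMaxTorus_of_isMaximalTorus h₁) j hT'
  have h3 := dim_split (hTs x)
  refine isIso_of_dim hTx hT' f (le_antisymm ?_ ?_)
  · obtain ⟨ha, hs, hc, -⟩ := SolvGrp.torus_props hT'
    obtain ⟨ha', hs', hc', -⟩ := SolvGrp.torus_props hTx
    haveI := ha; haveI := hs; haveI := hc; haveI := ha'; haveI := hs'; haveI := hc'
    haveI : IsClosedImmersion f.left := DomHom.isClosedImmersion_of_mono f
    exact f.left.isClosedEmbedding.isInducing.topologicalKrullDim_le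
  · rw [dim_split hs₁, ← h3] at h2
    exact h2

/-- A reductive rank, read as the rank of a split maximal torus. -/
theorem exists_rank {s : S} {d : WithBot ℕ∞} (h : SGA3x.HasRedRank G s d) :
    ∃ n : ℕ, HasRank G (Red.geomPt s) n ∧ d = (n : WithBot ℕ∞) := by
  obtain ⟨T, _, i, hi, hd⟩ := h
  obtain ⟨n, hn, hdim⟩ := exists_dim hi.2.2.1
  exact ⟨n, ⟨T, inferInstance, i, hi, hn⟩, hd.symm.trans hdim⟩

theorem etale_nhd_of_rank {U₀ : S.Opens} {n : ℕ} (hU₀ : ∀ t : S, t ∈ U₀ → HasRank G (Red.geomPt t) n)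
    {s : S} (hs : s ∈ U₀) :
    ∃ (S' : Scheme.{u}) (g : S' ⟶ S), Etale g ∧ s ∈ Set.range g ∧
      ∃ (T : Over S') (_ : GrpObj T) (i : T ⟶ Red.bc g G), Red.IsMaximalTorus i := by
  obtain ⟨H, _, hHtor, hH, hHsplit, hHiso⟩ := exists_std S n
  obtain ⟨A, υ, ⟨hυ, huniv⟩, hAs, -⟩ := Groth.Agent.S5246.result H G hH inferInstance inferInstance
  haveI := hAs
  -- the universal homomorphism
  let ε : (Over.map A.hom).obj (𝟙_ (Over A.left)) ⟶ A := Over.homMk (𝟙 A.left)
  obtain ⟨uA, huAm, huA⟩ := exists_hom A.hom ((H ◁ ε) ≫ υ) (HomRepLib.isHomFamily_comp hυ ε)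
  haveI := huAm
  -- the point given by the maximal torus of the geometric fibre
  obtain ⟨T₀, _, i₀, hi₀, hs₀⟩ := hU₀ s hs
  haveI := hi₀.1; haveI := hi₀.2.1
  let b := Red.geomPt s
  obtain ⟨e, he⟩ := hHiso b T₀ hs₀
  haveI := he
  haveI : IsIso e.hom := e.isIso_hom
  let u₀ : Red.bc b H ⟶ Red.bc b G := e.hom ≫ i₀
  haveI : IsMonHom u₀ := inferInstanceAs (IsMonHom (e.hom ≫ i₀))
  haveI : Mono u₀ := inferInstanceAs (Mono (e.hom ≫ i₀))
  obtain ⟨φ₀, hφ₀, hu₀⟩ := exists_family b u₀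
  obtain ⟨a₀, ha₀, -⟩ := huniv _ φ₀ hφ₀
  beta_reduce at ha₀
  have hinj := inj_of_classify υ uA huA b u₀ a₀ (fun Z z => by rw [ha₀]; exact hu₀ Z z)
  haveI : IsSeparated (Red.bc A.hom G).hom := inferInstanceAs (IsSeparated (pullback.snd G.hom A.hom))
  obtain ⟨U, hmem, hU⟩ := HomMonoLocus.main (u := uA) (MultTypeBC.isMultTypeFT_bc A.hom hH)
  let p₀ : Spec (CommRingCat.of (AlgebraicClosure (S.residueField s))) ⟶ A.left := a₀.left
  let α : A.left := p₀ (IsLocalRing.closedPoint _)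
  have hα : α ∈ U := by
    rw [hmem]
    refine HomMonoLocus.Inj.of_covers
      (Spec.map (A.left.descResidueField (Scheme.stalkClosedPointTo p₀))) (HomUnitLocus.covers_field _) ?_
    rw [Scheme.descResidueField_stalkClosedPointTo_fromSpecResidueField]
    exact hinj
  have hαs : A.hom α = s := by
    show A.hom (a₀.left _) = s
    rw [← Scheme.Hom.comp_apply, (Over.w a₀).trans (Category.id_comp b), Scheme.Hom.comp_apply]
    exact Scheme.fromSpecResidueField_apply s _
  let O : A.left.Opens := U ⊓ A.hom ⁻¹ᵁ U₀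
  have hsO : s ∈ Set.range (O.ι ≫ A.hom) := ⟨⟨α, hα, show A.hom α ∈ U₀ by rw [hαs]; exact hs⟩, hαs⟩
  obtain ⟨S', g, s₀, hg, hgs, h, hh⟩ := Groth.Agent.S0412.result (O.ι ≫ A.hom) s hsO
  haveI := hg
  refine ⟨S', g, hg, ⟨s₀, hgs⟩, ?_⟩
  let w : S' ⟶ A.left := h ≫ O.ι
  have hw : w ≫ A.hom = g := (Category.assoc _ _ _).trans hh
  have hgU : ∀ x, g x ∈ U₀ := fun x => by
    rw [← hh, Scheme.Hom.comp_apply, Scheme.Hom.comp_apply]
    exact (h x).2.2
  haveI : Mono ((Over.pullback w).map uA).left := HomMonoLocus.mono_of_inj (by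
    have := hU.comp (h ≫ A.left.homOfLE (inf_le_left : O ≤ U))
    rwa [Category.assoc, Scheme.homOfLE_ι] at this)
  haveI : Mono ((Over.pullback w).map uA) := Over.mono_of_mono_left _
  haveI := GrpLimLib.isMonHom_cmp hw G
  haveI := GrpLimLib.isMonHom_cmp hw H
  haveI : IsMonHom (cmp hw H).inv := AGFLib.isMonHom_of_mul _ fun X x y => by
    rw [← cancel_mono (cmp hw H).hom, MonObj.mul_comp (x ≫ _), Category.assoc, Category.assoc,
      Category.assoc, Iso.inv_hom_id, Category.comp_id, Category.comp_id, Category.comp_id]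
  let i : Red.bc g H ⟶ Red.bc g G := (cmp hw H).inv ≫ (Over.pullback w).map uA ≫ (cmp hw G).hom
  haveI : IsAffineHom (Red.bc g G).hom := MorphismProperty.pullback_snd (P := @IsAffineHom) G.hom g inferInstance
  haveI : Smooth (Red.bc g G).hom := inferInstanceAs (Smooth (pullback.snd G.hom g))
  refine ⟨Red.bc g H, inferInstance, i, isMaximalTorus_of_rank i (SolvGrp.isTorus_bc g hHtor) n
    (fun x => ?_) fun x => ?_⟩
  · obtain ⟨T', _, i', hi', hs'⟩ := HasRank.of_geomPt (Red.geomPt x ≫ g) _ rfl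
      (hU₀ _ (by rw [Scheme.Hom.comp_apply]; exact hgU _))
    haveI := GrpLimLib.isMonHom_cmp (rfl : Red.geomPt x ≫ g = _) G
    haveI : IsMonHom (cmp (rfl : Red.geomPt x ≫ g = _) G).inv := TorsionCent.isMonHom_inv_of _
    exact ⟨T', inferInstance, i' ≫ (cmp (rfl : Red.geomPt x ≫ g = _) G).inv, isMaximalTorus_comp_iso hi' _, hs'⟩
  · exact hHsplit g (Red.geomPt x)

/-- A locally constant reductive rank gives étale-local maximal tori. -/
theorem etale_of_rank (h : SGA3x.RedRankLocallyConstant G) : SGA3x.HasMaxTorusEtaleLocally G := by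
  have hloc : ∀ s : S, ∃ (S' : Scheme.{u}) (g : S' ⟶ S), Etale g ∧ s ∈ Set.range g ∧
      ∃ (T : Over S') (_ : GrpObj T) (i : T ⟶ Red.bc g G), Red.IsMaximalTorus i := fun s => by
    obtain ⟨U₀, hs, d, hd⟩ := h s
    obtain ⟨n, -, hdn⟩ := exists_rank (hd s hs)
    refine etale_nhd_of_rank (U₀ := U₀) (n := n) (fun t ht => ?_) hs
    obtain ⟨m, hm, hdm⟩ := exists_rank (hd t ht)
    have e : (n : ℕ∞) = (m : ℕ∞) := WithBot.coe_injective (hdn.symm.trans hdm)
    rwa [ENat.coe_inj.mp e]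
  choose S' g hg hs T iT i hi using hloc
  haveI : ∀ s, Etale (g s) := hg
  let F : (∐ S') ⟶ S := Sigma.desc g
  haveI : Etale F := IsZariskiLocalAtSource.sigmaDesc (P := @Etale) hg
  haveI : Surjective F := ⟨fun s => by
    obtain ⟨y, hy⟩ := hs s
    exact ⟨Sigma.ι S' s y, by rw [← Scheme.Hom.comp_apply, Sigma.ι_desc]; exact hy⟩⟩
  haveI : Smooth (Red.bc F G).hom := inferInstanceAs (Smooth (pullback.snd G.hom F))
  haveI : IsSeparated (Red.bc F G).hom := inferInstanceAs (IsSeparated (pullback.snd G.hom F))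
  haveI : QuasiCompact (Red.bc F G).hom := inferInstanceAs (QuasiCompact (pullback.snd G.hom F))
  obtain ⟨T₀, _, i₀, hi₀⟩ := TorsionCent.exists_maximalTorus_sigma S' (G := Red.bc F G) fun j => by
    have e : Sigma.ι S' j ≫ F = g j := Sigma.ι_desc _ _
    haveI := GrpLimLib.isMonHom_cmp e G
    haveI : IsMonHom (cmp e G).inv := TorsionCent.isMonHom_inv_of (cmp e G)
    exact ⟨T j, iT j, i j ≫ (cmp e G).inv, isMaximalTorus_comp_iso (hi j) _⟩
  exact ⟨∐ S', F, inferInstance, inferInstance, T₀, inferInstance, i₀, hi₀⟩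

/-- Étale-local maximal tori give a locally constant reductive rank. -/
theorem rank_of_etale (h : SGA3x.HasMaxTorusEtaleLocally G) : SGA3x.RedRankLocallyConstant G := by
  obtain ⟨S', f, hf, hfs, T, _, i, hi⟩ := h
  haveI := hf; haveI := hfs
  intro s
  obtain ⟨s', hs'⟩ := f.surjective s
  obtain ⟨W, w, hw, ⟨y, hy⟩, M, iM, hM, ⟨eW⟩⟩ :=
    MultTypeQI.etale_locally_diag (TorusQI.isMultTypeFT_of_isTorus hi.2.2.1) s'
  haveI := hw; haveI := hM
  -- the character group is free
  let b₀ := Red.geomPt y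
  obtain ⟨r, ⟨er⟩⟩ := TorusQI.exists_split_geom hi.2.2.1 (b₀ ≫ w)
  obtain ⟨e₁⟩ := HomRepLib.diag_bc b₀ eW
  haveI : AddGroup.FG (Fin r → ℤ) := Module.Finite.iff_addGroup_fg.1 inferInstance
  haveI : Subsingleton ↥(Spec (CommRingCat.of (AlgebraicClosure (W.residueField y)))) :=
    inferInstanceAs (Subsingleton (PrimeSpectrum (AlgebraicClosure (W.residueField y))))
  obtain ⟨ψ⟩ := TorusQI.nonempty_addEquiv (e₁.symm ≪≫ er)
  refine ⟨⟨Set.range (w ≫ f), (w ≫ f).isOpenMap.isOpen_range⟩,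
    ⟨y, by rw [Scheme.Hom.comp_apply, hy, hs']⟩, (r : WithBot ℕ∞), fun t ht => ?_⟩
  obtain ⟨y₁, hy₁⟩ := ht
  let Ω := AlgebraicClosure (S.residueField t)
  let b := Red.geomPt t
  haveI : Subsingleton ↥(Spec (CommRingCat.of Ω)) := inferInstanceAs (Subsingleton (PrimeSpectrum Ω))
  let q := pullback.snd (w ≫ f) b
  haveI : LocallyOfFiniteType q := MorphismProperty.pullback_snd (P := @LocallyOfFiniteType) (w ≫ f) b inferInstance
  obtain ⟨z, -, -⟩ := Scheme.Pullback.exists_preimage_pullback (f := w ≫ f) (g := b) y₁ (IsLocalRing.closedPoint Ω)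
    (hy₁.trans (by rw [Scheme.Hom.comp_apply]; exact (Scheme.fromSpecResidueField_apply t _).symm))
  haveI : JacobsonSpace (Spec (CommRingCat.of Ω)) := inferInstanceAs (JacobsonSpace (PrimeSpectrum Ω))
  haveI : JacobsonSpace ↥(pullback (w ≫ f) b) := LocallyOfFiniteType.jacobsonSpace q
  obtain ⟨c, -, hc⟩ := nonempty_inter_closedPoints (Z := (Set.univ : Set ↥(pullback (w ≫ f) b))) ⟨z, trivial⟩
    isClosed_univ.isLocallyClosed
  obtain ⟨⟨σ₀, hσ₀⟩, -⟩ := (pointEquivClosedPoint q).surjective ⟨c, hc⟩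
  let σ : Spec (CommRingCat.of Ω) ⟶ W := σ₀ ≫ pullback.fst (w ≫ f) b
  have hσ : (σ ≫ w) ≫ f = b := by
    simp only [σ, Category.assoc]
    rw [pullback.condition, reassoc_of% hσ₀]
  haveI : Smooth (Red.bc f G).hom := inferInstanceAs (Smooth (pullback.snd G.hom f))
  haveI : QuasiCompact (Red.bc f G).hom := inferInstanceAs (QuasiCompact (pullback.snd G.hom f))
  haveI : QuasiSeparated (Red.bc f G).hom := inferInstanceAs (QuasiSeparated (pullback.snd G.hom f))
  haveI := GrpLimLib.isMonHom_cmp hσ G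
  refine ⟨Red.bc (σ ≫ w) T, inferInstance, (Over.pullback (σ ≫ w)).map i ≫ (cmp hσ G).hom,
    isMaximalTorus_comp_iso (MaxTorCent.isMaximalTorus_bc hi _) _, dim_split ?_⟩
  obtain ⟨e₂⟩ := HomRepLib.diag_bc σ eW
  let d : Red.DS (Spec (CommRingCat.of Ω)) M ⟶ Red.DS (Spec (CommRingCat.of Ω)) (Fin r → ℤ) :=
    Red.DSmap _ ψ.symm.toAddMonoidHom
  haveI : IsMonHom d := S5427.isMonHom_DSmap _ _
  haveI : IsIso d := TorusQI.isIso_DSmap _ ψ.symm.bijective
  exact ⟨e₂ ≪≫ Grp.mkIso (asIso d) (IsMonHom.one_hom d) (IsMonHom.mul_hom d)⟩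

end Groth.Agent.RedRank
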