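import Groth.Agent.RedRank.CentreLocal
import Groth.Agent.RedRank.CentralFactor
import Groth.Agent.MultTypeImage.Image
import Groth.Agent.RedCentre.Main
import Groth.Agent.S4115

/-!
# The reductive centre of a smooth affine group with a maximal torus
-/

universe u

open CategoryTheory CategoryTheory.Limits MonoidalCategory CartesianMonoidalCategory MonObj AlgebraicGeometry

set_option backward.isDefEq.respectTransparency false
set_option backward.isDefEq.respectTransparency.types false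
set_option linter.style.haveILetI false
set_option synthInstance.maxHeartbeats 200000
set_option maxHeartbeats 1000000
set_option autoImplicit false

namespace Groth.Agent.RedRank.CentreGlobal

open GrpSchLib CentreDescent CentreLocal
open GrpLimLib (cmp)

variable {S : Scheme.{u}}

/-- A point of a base change is central exactly when it is central over the old base. -/
theorem central_theta {G : Over S} [GrpObj G] {S' : Scheme.{u}} (f : S' ⟶ S) {Y : Over S'} (y : Y ⟶ Red.bc f G) :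
    Central (DSPtsLib.theta f y) ↔ Central y := by
  refine ⟨fun h X x g => (DSPtsLib.theta_bijective f).1 ?_, fun h X' x g => ?_⟩
  · rw [DSPtsLib.theta_mul, DSPtsLib.theta_mul, DSPtsLib.theta_comp]
    exact h _ _ _
  · let Y'' : Over S' := Over.mk (x.left ≫ Y.hom)
    let e : (Over.map f).obj Y'' ≅ X' := Over.isoMk (Iso.refl _) (by
      show 𝟙 _ ≫ X'.hom = (x.left ≫ Y.hom) ≫ f
      rw [Category.id_comp, Category.assoc]
      exact (Over.w x).symm)
    let x'' : Y'' ⟶ Y := Over.homMk x.left rfl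
    obtain ⟨g'', hg⟩ := (DSPtsLib.theta_bijective (g := f) (Y := Y'') (H := G)).2 (e.hom ≫ g)
    have hx : (Over.map f).map x'' = e.hom ≫ x := Over.OverMorphism.ext (Category.id_comp _).symm
    have h1 := congrArg (DSPtsLib.theta f) (h Y'' x'' g'')
    rw [DSPtsLib.theta_mul, DSPtsLib.theta_mul, DSPtsLib.theta_comp, hg, hx, Category.assoc] at h1
    rwa [← cancel_epi e.hom, MonObj.comp_mul, MonObj.comp_mul]

section Torus

variable {G T : Over S} [GrpObj G] [GrpObj T] (i : T ⟶ G)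

/-- The point is central and lies in the torus. -/
def Q {Y : Over S} (z : Y ⟶ G) : Prop := Central z ∧ ∃ t, t ≫ i = z

variable {i} in
theorem Q.comp {Y Y' : Over S} {z : Y ⟶ G} (h : Q i z) (l : Y' ⟶ Y) : Q i (l ≫ z) := by
  obtain ⟨hc, t, rfl⟩ := h
  exact ⟨fun X x g => by rw [← Category.assoc]; exact hc X _ g, l ≫ t, Category.assoc _ _ _⟩

/-- The predicate on scheme points. -/
def P {X : Scheme.{u}} (c : X ⟶ G.left) : Prop := Q i (Over.homMk c rfl : Over.mk (c ≫ G.hom) ⟶ G)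

theorem P_iff {Y : Over S} (z : Y ⟶ G) : P i z.left ↔ Q i z := by
  let e : Over.mk (z.left ≫ G.hom) ≅ Y := Over.isoMk (Iso.refl _) (by
    show 𝟙 _ ≫ Y.hom = z.left ≫ G.hom
    rw [Category.id_comp, Over.w z])
  have he : (Over.homMk z.left rfl : Over.mk (z.left ≫ G.hom) ⟶ G) = e.hom ≫ z :=
    Over.OverMorphism.ext (Category.id_comp _).symm
  refine ⟨fun h => ?_, fun h => ?_⟩
  · have h1 := h.comp e.inv
    rwa [he, Iso.inv_hom_id_assoc] at h1
  · unfold P
    rw [he]
    exact h.comp e.hom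

variable [IsMonHom i] [Mono i]

theorem isLocalSubgroup : TorusQI.IsLocalSubgroup (G := G) (fun c => P i c) where
  comp := fun {X X' c} l h => by
    let l' : Over.mk ((l ≫ c) ≫ G.hom) ⟶ Over.mk (c ≫ G.hom) := Over.homMk l (Category.assoc _ _ _).symm
    show Q i _
    rw [show (Over.homMk (l ≫ c) rfl : Over.mk ((l ≫ c) ≫ G.hom) ⟶ G) = l' ≫ Over.homMk c rfl from
      Over.OverMorphism.ext rfl]
    exact h.comp l'
  of_openCover := fun {X c} 𝒰 hc => by
    haveI : Mono i.left := inferInstanceAs (Mono ((Over.forget _).map i))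
    refine ⟨fun Y x g => ?_, ?_⟩
    · refine Over.OverMorphism.ext (Scheme.Cover.hom_ext (𝒰.pullback₁ x.left) _ _ fun j => ?_)
      let W : Over S := Over.mk (pullback.fst x.left (𝒰.f j) ≫ Y.hom)
      let a : W ⟶ Y := Over.homMk (pullback.fst x.left (𝒰.f j)) rfl
      let b : W ⟶ Over.mk ((𝒰.f j ≫ c) ≫ G.hom) := Over.homMk (pullback.snd x.left (𝒰.f j)) (by
        show pullback.snd x.left (𝒰.f j) ≫ (𝒰.f j ≫ c) ≫ G.hom = pullback.fst x.left (𝒰.f j) ≫ Y.hom
        rw [← Over.w x, Category.assoc, ← pullback.condition_assoc]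
        rfl)
      have hb : b ≫ (Over.homMk (𝒰.f j ≫ c) rfl : _ ⟶ G) = (a ≫ x) ≫ Over.homMk c rfl := Over.OverMorphism.ext (by
        show pullback.snd x.left (𝒰.f j) ≫ 𝒰.f j ≫ c = (pullback.fst x.left (𝒰.f j) ≫ x.left) ≫ c
        rw [pullback.condition, Category.assoc])
      have h := (hc j).1 W b (a ≫ g)
      rw [hb, Category.assoc a, ← MonObj.comp_mul, ← MonObj.comp_mul] at h
      exact congrArg (fun m : W ⟶ G => m.left) h
    · obtain ⟨l, hl⟩ := TorusQI.exists_fac_of_openCover i.left c 𝒰 fun j => by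
        obtain ⟨t, ht⟩ := (hc j).2
        exact ⟨t.left, congrArg (fun m : _ ⟶ G => m.left) ht⟩
      exact ⟨Over.homMk l (by rw [← Over.w i, reassoc_of% hl]; rfl), Over.OverMorphism.ext hl⟩
  of_covers := fun {X X' c} p h1 h2 h3 hc => by
    haveI := h1; haveI := h2; haveI := h3
    have hp := FpqcDescLib.covers_of_isCovering (FpqcDescLib.isCovering_of_lfp p)
    haveI : Mono i.left := inferInstanceAs (Mono ((Over.forget _).map i))
    refine ⟨fun Y x g => ?_, ?_⟩
    · let W : Over S := Over.mk (pullback.fst x.left p ≫ Y.hom)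
      let a : W ⟶ Y := Over.homMk (pullback.fst x.left p) rfl
      haveI : Epi a.left := (hp.pullback x.left _ _ (IsPullback.of_hasPullback x.left p)).epi
      haveI : Epi a := Over.epi_of_epi_left _
      let b : W ⟶ Over.mk ((p ≫ c) ≫ G.hom) := Over.homMk (pullback.snd x.left p) (by
        show pullback.snd x.left p ≫ (p ≫ c) ≫ G.hom = pullback.fst x.left p ≫ Y.hom
        rw [← Over.w x, Category.assoc, ← pullback.condition_assoc]
        rfl)
      have hb : b ≫ (Over.homMk (p ≫ c) rfl : _ ⟶ G) = (a ≫ x) ≫ Over.homMk c rfl := Over.OverMorphism.ext (by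
        show pullback.snd x.left p ≫ p ≫ c = (pullback.fst x.left p ≫ x.left) ≫ c
        rw [pullback.condition, Category.assoc])
      have h := hc.1 W b (a ≫ g)
      rw [hb, Category.assoc a, ← MonObj.comp_mul, ← MonObj.comp_mul] at h
      exact (cancel_epi a).mp h
    · obtain ⟨t, ht⟩ := hc.2
      obtain ⟨l, hl⟩ := TorusQI.exists_fac_of_covers i.left c hp t.left (congrArg (fun m : _ ⟶ G => m.left) ht)
      exact ⟨Over.homMk l (by rw [← Over.w i, reassoc_of% hl]; rfl), Over.OverMorphism.ext hl⟩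
  one := fun Y => (P_iff i _).mpr
    ⟨fun X x g => by rw [MonObj.comp_one, _root_.one_mul, _root_.mul_one], 1, MonObj.one_comp i⟩
  mul := fun {Y a b} ha hb => (P_iff i _).mpr (by
    obtain ⟨hac, t, ht⟩ := (P_iff i a).mp ha
    obtain ⟨hbc, t', ht'⟩ := (P_iff i b).mp hb
    refine ⟨fun X x g => ?_, t * t', by rw [MonObj.mul_comp, ht, ht']⟩
    rw [MonObj.comp_mul]
    exact Commute.mul_left (hac X x g) (hbc X x g))
  inv := fun {Y a} ha => (P_iff i _).mpr (by
    obtain ⟨hac, t, ht⟩ := (P_iff i a).mp ha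
    refine ⟨fun X x g => ?_, t⁻¹, by rw [GrpObj.inv_comp, ht]⟩
    rw [GrpObj.comp_inv]
    exact Commute.inv_left (hac X x g))

/-- An etale neighbourhood on which the central part of the torus is diagonalisable. -/
theorem exists_etale_piece [Smooth G.hom] [IsAffineHom G.hom]
    (hconn : ∀ s : S, _root_.IsConnected (G.hom.base ⁻¹' {s})) (hT : SGA3x.IsMultTypeFT T) (s : S) :
    ∃ (S' : Scheme.{u}) (f : S' ⟶ S) (K : Over S') (_ : GrpObj K) (M : Type) (_ : AddCommGroup M)
      (k : K ⟶ Red.bc f G), Etale f ∧ s ∈ Set.range f ∧ AddGroup.FG M ∧ IsAffineHom K.hom ∧ IsMonHom k ∧ Mono k ∧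
        Nonempty (Grp.mk K ≅ Grp.mk (Red.DS S' M)) ∧
        ∀ (Y : Over S') (y : Y ⟶ Red.bc f G), P i (DSPtsLib.theta f y).left ↔ ∃ l, l ≫ k = y := by
  obtain ⟨S₀, f₀, hf₀, ⟨y₀, hy₀⟩, M, _, hM, ⟨e₀⟩⟩ := MultTypeQI.etale_locally_diag hT s
  haveI := hf₀; haveI := hM
  obtain ⟨U, hU, hyU, -⟩ := exists_isAffineOpen_mem_and_subset (show y₀ ∈ (⊤ : S₀.Opens) from trivial)
  obtain ⟨y, hy⟩ : y₀ ∈ Set.range hU.fromSpec := by rw [hU.range_fromSpec]; exact hyU
  let f : Spec Γ(S₀, U) ⟶ S := hU.fromSpec ≫ f₀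
  haveI : Etale f := inferInstanceAs (Etale (hU.fromSpec ≫ f₀))
  haveI : (Over.pullback f).IsRightAdjoint := (Over.mapPullbackAdj f).isRightAdjoint
  haveI : Smooth (Red.bc f G).hom := inferInstanceAs (Smooth (pullback.snd G.hom f))
  haveI : IsAffineHom (Red.bc f G).hom := inferInstanceAs (IsAffineHom (pullback.snd G.hom f))
  haveI : IsAffine (Red.bc f G).left := isAffine_of_isAffineHom (Red.bc f G).hom
  obtain ⟨A, _, _, ⟨eG⟩⟩ := AffineHopf.exists_hopf (R := ↑Γ(S₀, U)) (Red.bc f G)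
  obtain ⟨eT₀⟩ := HomRepLib.diag_bc hU.fromSpec e₀
  obtain ⟨eD⟩ := AffineHopf.nonempty_DS_iso (↑Γ(S₀, U)) M
  let eT := eD ≪≫ eT₀.symm
  let gG : AffineHopf.sp (↑Γ(S₀, U)) A ≅ Red.bc f G := (Grp.forget _).mapIso eG
  let tT : AffineHopf.sp (↑Γ(S₀, U)) (MonoidAlgebra (↑Γ(S₀, U)) (Multiplicative M)) ≅ Red.bc f T :=
    (Grp.forget _).mapIso eT
  haveI : IsMonHom gG.hom := eG.hom.hom.isMonHom_hom
  haveI : IsMonHom gG.inv := eG.inv.hom.isMonHom_hom
  haveI : IsMonHom tT.hom := eT.hom.hom.isMonHom_hom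
  obtain ⟨fA, hfA⟩ := AffineHopf.exists_bialgHom (tT.hom ≫ (Over.pullback f).map i ≫ gG.inv)
  haveI : Mono (incl fA) := by rw [incl, ← hfA]; infer_instance
  haveI : IsMonHom (incl fA) := inferInstance
  haveI : Algebra.Smooth (↑Γ(S₀, U)) A := by
    haveI : Smooth (AffineHopf.sp (↑Γ(S₀, U)) A).hom := by
      rw [← Over.w gG.hom]
      infer_instance
    have h : Smooth (Spec.map (CommRingCat.ofHom (algebraMap (↑Γ(S₀, U)) A))) :=
      ‹Smooth (AffineHopf.sp (↑Γ(S₀, U)) A).hom›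
    rw [HasRingHomProperty.Spec_iff (P := @Smooth)] at h
    exact RingHom.smooth_algebraMap.mp h
  have hconnA : ∀ t : ↥(Spec (CommRingCat.of Γ(S₀, U))),
      ConnectedSpace ↥(pullback (AffineHopf.sp (↑Γ(S₀, U)) A).hom
        ((Spec (CommRingCat.of Γ(S₀, U))).fromSpecResidueField t)) := fun t => by
    have h1 := isConnected_iff_connectedSpace.mp (RedCentre.isConnected_fibre_bc f G hconn t)
    let e : pullback (AffineHopf.sp (↑Γ(S₀, U)) A).hom ((Spec (CommRingCat.of Γ(S₀, U))).fromSpecResidueField t) ≅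
        (Red.bc f G).hom.fiber t := (Over.forget _).mapIso
          ((Over.pullback ((Spec (CommRingCat.of Γ(S₀, U))).fromSpecResidueField t)).mapIso gG)
    haveI : ConnectedSpace ↥((Red.bc f G).hom.fiber t) :=
      ((Red.bc f G).hom.fiberHomeo t).symm.surjective.connectedSpace ((Red.bc f G).hom.fiberHomeo t).symm.continuous
    exact e.inv.homeomorph.surjective.connectedSpace e.inv.homeomorph.continuous
  obtain ⟨V, N, hyV, hV⟩ := exists_piece fA hconnA y
  haveI : IsClosedImmersion (sub (↑Γ(S₀, U)) N).left := isClosedImmersion_sub N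
  haveI : Mono (sub (↑Γ(S₀, U)) N) := Over.mono_of_mono_left _
  haveI : IsMonHom (sub (↑Γ(S₀, U)) N) := inferInstance
  haveI : (Over.pullback V.ι).IsRightAdjoint := (Over.mapPullbackAdj V.ι).isRightAdjoint
  let f' : (V : Scheme.{u}) ⟶ S := V.ι ≫ f
  let u₀ := sub (↑Γ(S₀, U)) N ≫ incl fA ≫ gG.hom
  haveI : IsMonHom u₀ := inferInstance
  haveI : Mono u₀ := inferInstance
  let K := Red.bc V.ι (AffineHopf.sp (↑Γ(S₀, U)) (MonoidAlgebra (↑Γ(S₀, U)) (Multiplicative (M ⧸ N))))
  haveI := MaxTorTransp.isMonHom_cmp_hom (rfl : V.ι ≫ f = f') G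
  let k : K ⟶ Red.bc f' G := (Over.pullback V.ι).map u₀ ≫ (cmp (rfl : V.ι ≫ f = f') G).hom
  haveI : IsAffineHom K.hom := MorphismProperty.pullback_snd (P := @IsAffineHom) _ _
    (inferInstanceAs (IsAffineHom (Spec.map (CommRingCat.ofHom (algebraMap (↑Γ(S₀, U))
      (MonoidAlgebra (↑Γ(S₀, U)) (Multiplicative (M ⧸ N))))))))
  haveI : IsMonHom k := inferInstance
  haveI : Mono k := mono_comp _ _
  haveI : AddGroup.FG (M ⧸ N) := QuotientAddGroup.fg _
  refine ⟨V, f', K, inferInstance, M ⧸ N, inferInstance, k, inferInstanceAs (Etale (V.ι ≫ f)),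
    ⟨⟨y, hyV⟩, ?_⟩, inferInstance, inferInstance, inferInstance, inferInstance, ?_, fun Y y' => ?_⟩
  · show (V.ι ≫ hU.fromSpec ≫ f₀) ⟨y, hyV⟩ = s
    rw [← hy₀, ← hy]
    simp only [Scheme.Hom.comp_apply]
    rfl
  · obtain ⟨e1⟩ := AffineHopf.nonempty_DS_iso (↑Γ(S₀, U)) (M ⧸ N)
    obtain ⟨e2⟩ := MultTypeBC.bc_iso V.ι e1
    obtain ⟨e3⟩ := MultTypeBC.bc_DS V.ι (M ⧸ N)
    exact ⟨e2 ≪≫ e3⟩
  · let w := y' ≫ (cmp (rfl : V.ι ≫ f = f') G).inv
    let z₁ := DSPtsLib.theta V.ι w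
    have hz : (DSPtsLib.theta f' y').left = (DSPtsLib.theta f z₁).left := by
      rw [show y' = w ≫ (cmp (rfl : V.ι ≫ f = f') G).hom by
        rw [Category.assoc, Iso.inv_hom_id, Category.comp_id], TorsionCent.theta_left_cmp, DSPtsLib.theta_left f]
    rw [hz, P_iff]
    have hrange : Set.range ((Over.map V.ι).obj Y).hom ⊆ (V : Set _) := by
      rintro _ ⟨p, rfl⟩
      exact (Y.hom p : (V : Scheme.{u})).2
    have h2 := hV _ hrange (z₁ ≫ gG.inv)
    have hk : (∃ l, l ≫ k = y') ↔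
        ∃ l, l ≫ sub (↑Γ(S₀, U)) N ≫ incl fA = z₁ ≫ gG.inv := by
      refine ⟨fun ⟨l, hl⟩ => ⟨DSPtsLib.theta V.ι l, ?_⟩, fun ⟨l, hl⟩ => ?_⟩
      · rw [← cancel_mono gG.hom, Category.assoc z₁, Iso.inv_hom_id, Category.comp_id]
        simp only [Category.assoc]
        show DSPtsLib.theta V.ι l ≫ u₀ = z₁
        rw [← TorsionCent.theta_map']
        congr 1
        simp only [w]
        rw [← hl]
        simp only [k, Category.assoc, Iso.hom_inv_id, Category.comp_id]
      · obtain ⟨l', rfl⟩ := (DSPtsLib.theta_bijective (g := V.ι)).2 l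
        refine ⟨l', ?_⟩
        rw [← cancel_mono (cmp (rfl : V.ι ≫ f = f') G).inv]
        simp only [k, Category.assoc, Iso.hom_inv_id, Category.comp_id]
        refine (DSPtsLib.theta_bijective V.ι).1 ?_
        rw [TorsionCent.theta_map']
        show DSPtsLib.theta V.ι l' ≫ u₀ = z₁
        rw [← cancel_mono gG.inv]
        simp only [u₀, Category.assoc, Iso.hom_inv_id, Category.comp_id]
        exact hl
    rw [hk, ← h2]
    refine and_congr ?_ ?_
    · rw [central_theta]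
      haveI : IsMonHom gG.symm.hom := ‹IsMonHom gG.inv›
      refine ⟨fun h => central_comp_iso h gG.symm, fun h => ?_⟩
      have h' := central_comp_iso h gG
      rwa [Category.assoc, Iso.inv_hom_id, Category.comp_id] at h'
    · refine ⟨fun ⟨t, ht⟩ => ?_, fun ⟨t, ht⟩ => ?_⟩
      · obtain ⟨t', rfl⟩ := (DSPtsLib.theta_bijective (g := f)).2 t
        refine ⟨t' ≫ tT.inv, ?_⟩
        rw [incl, ← hfA, Category.assoc, Iso.inv_hom_id_assoc, ← Category.assoc]
        congr 1
        exact (DSPtsLib.theta_bijective f).1 (by rw [TorsionCent.theta_map', ht])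
      · refine ⟨DSPtsLib.theta f (t ≫ tT.hom), ?_⟩
        rw [← TorsionCent.theta_map']
        congr 1
        rw [← cancel_mono gG.inv, ← ht, incl, ← hfA]
        simp only [Category.assoc]

/-- A smooth affine group with connected fibres and a maximal torus has a reductive centre. -/
theorem exists_centre_of_torus [Smooth G.hom] [IsAffineHom G.hom]
    (hconn : ∀ s : S, _root_.IsConnected (G.hom.base ⁻¹' {s})) (hi : Red.IsMaximalTorus i) :
    ∃ (Z : Over S) (_ : GrpObj Z) (z : Z ⟶ G), IsMonHom z ∧ Mono z ∧ SGA3x.IsMultTypeFT Z ∧ Central z ∧ Univ z ∧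
      ∀ (Y : Over S) (y : Y ⟶ G), Q i y → ∃ l, l ≫ z = y := by
  classical
  choose S' f K iK M iM k hf hs hfg hKa hkm hk hiso hchar using
    exists_etale_piece i hconn (TorusQI.isMultTypeFT_of_isTorus hi.2.2.1)
  haveI : ∀ s, Etale (f s) := hf
  haveI : ∀ s, Mono (k s) := hk
  haveI : ∀ s, IsMonHom (k s) := hkm
  obtain ⟨Z, iZ, z, hzm, hzmono, hall⟩ := MultTypeImage.exists_subgroup_of_local_mono (fun c => P i c)
    (isLocalSubgroup i) S' f hf (fun x => ⟨x, hs x⟩) K hKa k hk hchar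
  haveI := hzm; haveI := hzmono
  have hzQ : Q i z := (P_iff i z).mp ((hall Z z).mpr ⟨𝟙 _, Category.id_comp _⟩)
  have hφ : ∀ s, ∃ φ : Red.bc (f s) Z ≅ K s, IsMonHom φ.hom := by
    intro s
    haveI : (Over.pullback (f s)).IsRightAdjoint := (Over.mapPullbackAdj (f s)).isRightAdjoint
    obtain ⟨a, ha⟩ := (hchar s _ ((Over.pullback (f s)).map z)).mp ((hall _ _).mpr
      ⟨DSPtsLib.theta (f s) (𝟙 _), by rw [← TorsionCent.theta_map', Category.id_comp]⟩)
    obtain ⟨l, hl⟩ := (hall _ _).mp ((hchar s (K s) (k s)).mpr ⟨𝟙 _, Category.id_comp _⟩)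
    obtain ⟨b, hb⟩ := (DSPtsLib.theta_bijective (f s)).2 l
    have hb' : b ≫ (Over.pullback (f s)).map z = k s := (DSPtsLib.theta_bijective (f s)).1 (by
      rw [TorsionCent.theta_map', hb, hl])
    refine ⟨⟨a, b, ?_, ?_⟩, ?_⟩
    · rw [← cancel_mono ((Over.pullback (f s)).map z), Category.assoc, hb', ha, Category.id_comp]
    · rw [← cancel_mono (k s), Category.assoc, ha, hb', Category.id_comp]
    · show IsMonHom a
      exact AGFLib.isMonHom_of_mul a fun X p q => by
        rw [← cancel_mono (k s), Category.assoc, ha, MonObj.mul_comp, MonObj.mul_comp, Category.assoc, Category.assoc,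
          ha]
  choose φ hφm using hφ
  haveI := hφm
  let F : (∐ S') ⟶ S := Sigma.desc f
  haveI : Etale F := IsZariskiLocalAtSource.sigmaDesc (P := @Etale) hf
  haveI : Surjective F := ⟨fun x => by
    obtain ⟨w, hw⟩ := hs x
    exact ⟨Sigma.ι S' x w, by rw [← Scheme.Hom.comp_apply, Sigma.ι_desc]; exact hw⟩⟩
  obtain ⟨hFfl, hFc⟩ := SubgroupEqLocus.flat_hcov_of_isCovering (FpqcDescLib.isCovering_of_lfp F)
  have hZ : SGA3x.IsMultTypeFT Z := by
    refine ⟨∐ S', F, hFfl, inferInstance, hFc, fun x => ?_⟩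
    obtain ⟨j, w, rfl⟩ := (sigmaOpenCover S').exists_eq x
    let o := Sigma.ι S' j
    refine ⟨o.opensRange, ⟨w, rfl⟩, M j, iM j, hfg j, ?_⟩
    obtain ⟨e⟩ := hiso j
    obtain ⟨e₁⟩ := MultTypeBC.bc_bc o.isoOpensRange.inv (f j) Z
    obtain ⟨e₂⟩ := MultTypeBC.bc_congr (show o.opensRange.ι ≫ F = o.isoOpensRange.inv ≫ f j by
      rw [← Scheme.Hom.isoOpensRange_inv_comp, Category.assoc, Sigma.ι_desc]) Z
    obtain ⟨e₃⟩ := MultTypeBC.bc_iso o.isoOpensRange.inv (Grp.mkIso' (φ j) ≪≫ e)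
    obtain ⟨e₄⟩ := MultTypeBC.bc_DS o.isoOpensRange.inv (M j)
    exact ⟨e₂ ≪≫ e₁.symm ≪≫ e₃ ≪≫ e₄⟩
  refine ⟨Z, iZ, z, hzm, hzmono, hZ, hzQ.1, fun S₂ g H _ v _ hH hv => ?_,
    fun Y y hy => (hall Y y).mp ((P_iff i y).mpr hy)⟩
  haveI : (Over.pullback g).IsRightAdjoint := (Over.mapPullbackAdj g).isRightAdjoint
  haveI : Smooth (Red.bc g G).hom := inferInstanceAs (Smooth (pullback.snd G.hom g))
  haveI : IsAffineHom (Red.bc g G).hom := MorphismProperty.pullback_snd (P := @IsAffineHom) _ _ ‹_›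
  obtain ⟨w, hw⟩ := CentralFactor.exists_factor (RedCentre.isConnected_fibre_bc g G hconn)
    (MaxTorCent.isMaximalTorus_bc hi g) hH v fun X h x => hv X h _
  obtain ⟨l, hl⟩ := (hall _ (DSPtsLib.theta g v)).mp ((P_iff i _).mpr
    ⟨(central_theta g v).mpr hv, DSPtsLib.theta g w, by rw [← TorsionCent.theta_map', hw]⟩)
  obtain ⟨l', rfl⟩ := (DSPtsLib.theta_bijective (g := g)).2 l
  exact ⟨l', (DSPtsLib.theta_bijective g).1 (by rw [TorsionCent.theta_map', hl])⟩

end Torus

end Groth.Agent.RedRank.CentreGlobal
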