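import Groth.Agent.RedRank.CentreGlobal
import Groth.Agent.RedRank.Semi
import Groth.Agent.SolvGrp.MaxToriSep
import Groth.Agent.SolvGrp.TorusDense
import Groth.Agent.SolvGrp.TorusSepBase
import Groth.Agent.AGFLib.Rosen.Reduce
import Groth.Agent.MaxTorCent.Basic
import Groth.Agent.S3938

/-!
# The reductive centre over an algebraically closed field is the intersection of the maximal tori
-/

universe u

open CategoryTheory CategoryTheory.Limits MonoidalCategory CartesianMonoidalCategory MonObj AlgebraicGeometry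

set_option backward.isDefEq.respectTransparency false
set_option backward.isDefEq.respectTransparency.types false
set_option linter.style.haveILetI false
set_option synthInstance.maxHeartbeats 200000
set_option maxHeartbeats 1000000
set_option autoImplicit false

namespace Groth.Agent.RedRank.CentreInter

open GrpSchLib GrpSchLib.Kunneth GrpSchLib.LineGroups WeilCmp.Unip AGFLib SolvGrp CentreDescent CentreGlobal

variable {k : Type u} [Field k]

local notation "PT" => 𝟙_ (Over (Spec (CommRingCat.of k)))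

/-- Maps out of a product with a reduced affine factor are equal when they agree at a dense set of rational
points. -/
theorem ext_of_pts {Z X G : Over (Spec (CommRingCat.of k))} [IsAffine Z.left] [IsReduced Z.left] [IsAffine X.left]
    [IsAffine G.left] (S : Set (PT ⟶ Z))
    (hS : ∀ O : Z.left.Opens, (∃ x, x ∈ O) → ∃ s ∈ S, s.left (IsLocalRing.closedPoint k) ∈ O) (a b : Z ⊗ X ⟶ G)
    (h : ∀ s ∈ S, lift (toUnit X ≫ s) (𝟙 X) ≫ a = lift (toUnit X ≫ s) (𝟙 X) ≫ b) : a = b := by
  classical
  haveI : IsAffineHom X.hom := isAffineHom_of_isAffine X.hom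
  haveI : IsAffineHom Z.hom := isAffineHom_of_isAffine Z.hom
  refine ext_ev (AlgHom.ext fun f => sub_eq_zero.mp ?_)
  let β := Module.Free.chooseBasis k (Fn X)
  obtain ⟨t, c, hF⟩ := exists_expand (X := Z) (Y := X) β (ev a f - ev b f)
  have hc : ∀ i ∈ t, c i = 0 := by
    intro i hi
    refine eq_zero_of_dense S hS _ fun s hs => ?_
    let w : X ⟶ Z ⊗ X := lift (toUnit X ≫ s) (𝟙 X)
    have h0 : ev w (ev a f - ev b f) = 0 := by
      rw [map_sub, ev_ev, ev_ev, h s hs, sub_self]
    rw [hF, map_sum] at h0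
    have h2 : ∑ l ∈ t, vl s (c l) • β l = 0 := by
      rw [← h0]
      refine Finset.sum_congr rfl fun l _ => ?_
      rw [map_mul, ev_ev, ev_ev, lift_fst, lift_snd, ev_id, ← ev_ev, ← AGFLib.ProjAct.algebraMap_toK (k := k) (ev s (c l)),
        AlgHom.commutes, Algebra.smul_def]
      rfl
    exact Fintype.linearIndependent_iff.mp (β.linearIndependent.comp (fun x : t => (x : _)) Subtype.val_injective)
      (fun x => vl s (c x)) (by rw [← h2, ← Finset.sum_coe_sort t]; rfl) ⟨i, hi⟩
  rw [hF]
  exact Finset.sum_eq_zero fun l hl => by rw [hc l hl, map_zero, zero_mul]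

variable [IsAlgClosed k] {G : Over (Spec (CommRingCat.of k))} [GrpObj G] [Smooth G.hom] [IsAffine G.left]
  [ConnectedSpace G.left]

/-- A point in every maximal torus is central. -/
theorem central_of_forall {X : Over (Spec (CommRingCat.of k))} (g : X ⟶ G)
    (h : ∀ (T : Over (Spec (CommRingCat.of k))) [GrpObj T] (i : T ⟶ G), Red.IsMaximalTorus i → ∃ t : X ⟶ T, t ≫ i = g) :
    Central g := by
  haveI : IsAffineHom G.hom := isAffineHom_of_isAffine G.hom
  haveI : QuasiCompact G.hom := inferInstance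
  haveI : LocallyOfFiniteType G.hom := inferInstance
  haveI : IsReduced G.left := isReduced_of_smooth_field G.hom
  haveI : IrreducibleSpace G.left := Rosen.irreducibleSpace_of_connected
  obtain ⟨T, _, i, hi⟩ := RedRank.exists_maximal G
  haveI := hi.1; haveI := hi.2.1
  obtain ⟨C, _, c, hc, -, -⟩ := MaxTorCent.exists_centralizer i (TorusQI.isMultTypeFT_of_isTorus hi.2.2.1)
  obtain ⟨U, hU, hconj⟩ := Groth.Agent.S3938.result k G T i (SolvGrp.isMaxTorus_of_isMaximalTorus hi) C c hc
  intro Y y p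
  refine CentreLocal.eq_of_affine _ _ fun B _ _ x => ?_
  let X' := AffineHopf.sp k B
  haveI : IsAffine X'.left := inferInstanceAs (IsAffine (Spec _))
  let g' : X' ⟶ G := (x ≫ y) ≫ g
  have key : (snd G X' ≫ g') * fst G X' = fst G X' * (snd G X' ≫ g') := by
    refine ext_of_pts {r | r.left (IsLocalRing.closedPoint k) ∈ U} (fun O hO => ?_) _ _ fun r hr => ?_
    · obtain ⟨z, hz⟩ := nonempty_preirreducible_inter O.isOpen U.isOpen hO hU
      obtain ⟨r, hr⟩ := SolvGrp.exists_pt_mem (O ⊓ U) ⟨z, hz⟩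
      exact ⟨r, hr.2, hr.1⟩
    · obtain ⟨d, e, he⟩ := hconj r hr
      obtain ⟨t, ht⟩ := h T (i ≫ Borel.conjM d) (isMaximalTorus_conj hi d)
      have hg' : g' = (toUnit X' ≫ d) * (((x ≫ y) ≫ t) ≫ i) * (toUnit X' ≫ d)⁻¹ := by
        simp only [g', ← ht]
        rw [← Category.assoc (x ≫ y) t, ← Category.assoc, Borel.comp_conjM]
      have hcomm := (hc.2.2 X' ((toUnit X' ≫ e) ≫ c)).mp ⟨_, rfl⟩ X' (𝟙 X') ((x ≫ y) ≫ t)
      rw [Category.id_comp] at hcomm
      simp only [MonObj.comp_mul, lift_fst, lift_snd, lift_snd_assoc, Category.id_comp]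
      rw [hg', ← he, MonObj.comp_mul, MonObj.comp_mul, GrpObj.comp_inv, ← Category.assoc (toUnit X') e]
      calc _ = (toUnit X' ≫ d) * ((((x ≫ y) ≫ t) ≫ i) * ((toUnit X' ≫ e) ≫ c)) * (toUnit X' ≫ d)⁻¹ := by group
        _ = (toUnit X' ≫ d) * (((toUnit X' ≫ e) ≫ c) * (((x ≫ y) ≫ t) ≫ i)) * (toUnit X' ≫ d)⁻¹ := by rw [hcomm]
        _ = _ := by group
  have h1 := congrArg (lift (x ≫ p) (𝟙 X') ≫ ·) key
  simp only [MonObj.comp_mul, lift_fst, lift_snd, lift_snd_assoc, Category.id_comp] at h1
  rw [MonObj.comp_mul, MonObj.comp_mul, ← Category.assoc]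
  exact h1

omit [IsAlgClosed k] [GrpObj G] [Smooth G.hom] [IsAffine G.left] in
/-- Over a field the only fibre of a connected scheme is connected. -/
theorem isConnected_fibre (G : Over (Spec (CommRingCat.of k))) [ConnectedSpace G.left]
    (s : Spec (CommRingCat.of k)) : _root_.IsConnected (G.hom.base ⁻¹' {s}) := by
  haveI : Subsingleton ↥(Spec (CommRingCat.of k)) := inferInstanceAs (Subsingleton (PrimeSpectrum k))
  rw [show G.hom.base ⁻¹' {s} = Set.univ from Set.eq_univ_of_forall fun a => Subsingleton.elim _ _]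
  exact isConnected_univ

variable {Z : Over (Spec (CommRingCat.of k))} [GrpObj Z] (z : Z ⟶ G)

/-- A point in every maximal torus lies in the reductive centre. -/
theorem exists_fac_of_forall (hu : Univ z) {X : Over (Spec (CommRingCat.of k))} (g : X ⟶ G)
    (h : ∀ (T : Over (Spec (CommRingCat.of k))) [GrpObj T] (i : T ⟶ G), Red.IsMaximalTorus i → ∃ t : X ⟶ T, t ≫ i = g) :
    ∃ x : X ⟶ Z, x ≫ z = g := by
  haveI : IsAffineHom G.hom := isAffineHom_of_isAffine G.hom
  haveI : QuasiCompact G.hom := inferInstance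
  obtain ⟨T, _, i, hi⟩ := RedRank.exists_maximal G
  haveI := hi.1; haveI := hi.2.1
  obtain ⟨Z', _, z', hz'm, -, hZ', hz'c, -, hex⟩ := exists_centre_of_torus i (isConnected_fibre G) hi
  haveI := hz'm
  obtain ⟨l, hl⟩ := hex X g ⟨central_of_forall g h, h T i hi⟩
  let f := 𝟙 (Spec (CommRingCat.of k))
  haveI : (Over.pullback f).IsRightAdjoint := (Over.mapPullbackAdj f).isRightAdjoint
  let v : Red.bc f Z' ⟶ Red.bc f G := (Over.pullback f).map z'
  have hv : Central v := (central_theta f v).mp (by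
    rw [show v = 𝟙 _ ≫ v from (Category.id_comp _).symm, TorsionCent.theta_map']
    intro W a b
    rw [← Category.assoc]
    exact hz'c W _ b)
  obtain ⟨w, hw⟩ := hu _ f (Red.bc f Z') v (MultTypeBC.isMultTypeFT_bc f hZ') hv
  let e : (Over.map f).obj X ≅ X := Over.isoMk (Iso.refl _) (by
    show 𝟙 _ ≫ X.hom = X.hom ≫ 𝟙 _
    rw [Category.id_comp, Category.comp_id])
  obtain ⟨l', hl'⟩ := (DSPtsLib.theta_bijective (g := f) (Y := X) (H := Z')).2 (e.hom ≫ l)
  refine ⟨e.inv ≫ DSPtsLib.theta f (l' ≫ w), ?_⟩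
  rw [Category.assoc, ← TorsionCent.theta_map', Category.assoc, hw, TorsionCent.theta_map', hl', Category.assoc, hl,
    Iso.inv_hom_id_assoc]

end Groth.Agent.RedRank.CentreInter
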