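import Groth.Agent.RedRank.ConjDense
import Groth.Agent.RedRank.ReductiveRank
import Groth.Agent.TorsionCent.Util
import Groth.Agent.MaxTorCent.Normalizer
import Groth.Agent.S4115

/-!
# The centre of a reductive group is the intersection of the maximal tori
-/

universe u

open CategoryTheory CategoryTheory.Limits MonoidalCategory CartesianMonoidalCategory MonObj AlgebraicGeometry

set_option backward.isDefEq.respectTransparency false
set_option backward.isDefEq.respectTransparency.types false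
set_option linter.style.haveILetI false
set_option synthInstance.maxHeartbeats 200000
set_option maxHeartbeats 1000000
set_option autoImplicit false

namespace Groth.Agent.RedRank.CentreTori

open GrpSchLib MaxTorCent MaxTorTransp CentreDescent CentreGlobal
open GrpLimLib (cmp)

variable {S : Scheme.{u}} {G : Over S} [GrpObj G] [IsAffineHom G.hom] [Smooth G.hom]

/-- The point lies in every maximal torus of every base change over its source. -/
def InTori {X : Over S} (g : X ⟶ G) : Prop :=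
  ∀ (Y : Scheme.{u}) (y : Y ⟶ X.left) (T : Over Y) [GrpObj T] (i : T ⟶ Red.bc (y ≫ X.hom) G),
    Red.IsMaximalTorus i →
      ∃ p : Y ⟶ T.left, p ≫ T.hom = 𝟙 Y ∧ p ≫ i.left ≫ pullback.fst G.hom (y ≫ X.hom) = y ≫ g.left

/-- A point in all maximal tori lies in every conjugate of a given one. -/
theorem exists_conj_point {X : Over S} {g : X ⟶ G} (h : InTori g) {S' : Scheme.{u}} (f : S' ⟶ S) {T : Over S'}
    [GrpObj T] {i : T ⟶ Red.bc f G} (hi : Red.IsMaximalTorus i) {W : Over S'} (p : W ⟶ Red.bc f X)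
    (u : W ⟶ Red.bc f G) : ∃ t : W ⟶ T, p ≫ (Over.pullback f).map g = u * (t ≫ i) * u⁻¹ := by
  haveI := hi.1; haveI := hi.2.1
  let σ := W.hom
  haveI : (Over.pullback σ).IsRightAdjoint := (Over.mapPullbackAdj σ).isRightAdjoint
  haveI : Smooth (Red.bc f G).hom := inferInstanceAs (Smooth (pullback.snd G.hom f))
  haveI : IsAffineHom (Red.bc f G).hom := MorphismProperty.pullback_snd (P := @IsAffineHom) _ _ inferInstance
  haveI : IsSeparated (Red.bc f G).hom := inferInstance
  haveI : Smooth (Red.bc σ (Red.bc f G)).hom := inferInstanceAs (Smooth (pullback.snd (Red.bc f G).hom σ))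
  haveI : IsSeparated (Red.bc σ (Red.bc f G)).hom := inferInstanceAs (IsSeparated (pullback.snd (Red.bc f G).hom σ))
  haveI : QuasiCompact (Red.bc σ (Red.bc f G)).hom := inferInstanceAs (QuasiCompact (pullback.snd (Red.bc f G).hom σ))
  let e₀ : (Over.map σ).obj (𝟙_ (Over W.left)) ≅ W := Over.isoMk (Iso.refl _) (by
    show 𝟙 _ ≫ W.hom = 𝟙 _ ≫ σ
    rfl)
  obtain ⟨sec, hsec⟩ := (DSPtsLib.theta_bijective (g := σ) (Y := 𝟙_ (Over W.left)) (H := Red.bc f G)).2 (e₀.hom ≫ u)
  let θp := DSPtsLib.theta f p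
  let y : W.left ⟶ X.left := θp.left
  have e : σ ≫ f = y ≫ X.hom := (Over.w θp).symm
  haveI := GrpLimLib.isMonHom_cmp e G
  let i₀ : Red.bc σ T ⟶ Red.bc σ (Red.bc f G) := (Over.pullback σ).map i ≫ conjEnd sec
  have hm : Red.IsMaximalTorus (i₀ ≫ (cmp e G).hom) :=
    isMaximalTorus_comp_iso (isMaximalTorus_comp_iso (MaxTorCent.isMaximalTorus_bc hi σ) (conjEnd sec)) _
  obtain ⟨P, hP, hPg⟩ := h W.left y (Red.bc σ T) (i₀ ≫ (cmp e G).hom) hm
  let P₀ : 𝟙_ (Over W.left) ⟶ Red.bc σ T := Over.homMk P hP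
  have hA : DSPtsLib.theta σ (P₀ ≫ i₀) = e₀.hom ≫ p ≫ (Over.pullback f).map g := by
    refine Over.OverMorphism.ext (pullback.hom_ext ?_ ?_)
    · rw [← TorsionCent.theta_left_cmp e]
      refine Eq.trans ?_ ((hPg.trans ?_))
      · rw [DSPtsLib.theta_left, ← Category.assoc P₀, Over.comp_left, Category.assoc]
        rfl
      · rw [show y ≫ g.left = (θp ≫ g).left from rfl, ← TorsionCent.theta_map', DSPtsLib.theta_left]
        show _ = (𝟙 _ ≫ (p ≫ (Over.pullback f).map g).left) ≫ _
        rw [Category.id_comp]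
    · exact (Over.w (DSPtsLib.theta σ (P₀ ≫ i₀))).trans (Over.w (e₀.hom ≫ p ≫ (Over.pullback f).map g)).symm
  refine ⟨e₀.inv ≫ DSPtsLib.theta σ P₀, (cancel_epi e₀.hom).mp ?_⟩
  rw [← hA]
  rw [MonObj.comp_mul, MonObj.comp_mul, GrpObj.comp_inv, Category.assoc, Iso.hom_inv_id_assoc]
  show DSPtsLib.theta σ (P₀ ≫ (Over.pullback σ).map i ≫ conjEnd sec) = _
  rw [← Category.assoc, comp_conjEnd, toUnit_unique (toUnit (𝟙_ (Over W.left))) (𝟙 _), Category.id_comp,
    DSPtsLib.theta_mul, DSPtsLib.theta_mul, theta_inv, SubgroupNbhd.theta_map, hsec]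

variable (hconn : ∀ s : S, _root_.IsConnected (G.hom.base ⁻¹' {s})) (h0 : SGA3x.UnipotentRankZero G)
include hconn h0

/-- A point in all maximal tori is central after an etale covering. -/
theorem central_of_inTori {X : Over S} {g : X ⟶ G} (h : InTori g) :
    ∃ (S' : Scheme.{u}) (f : S' ⟶ S), Etale f ∧ Surjective f ∧ Central ((Over.pullback f).map g) := by
  obtain ⟨S', f, hf, hfs, T, _, i, hi⟩ := UnipZero.hasMaxTorusEtaleLocally hconn h0
  haveI := hf; haveI := hfs; haveI := hi.1; haveI := hi.2.1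
  refine ⟨S', f, hf, hfs, ?_⟩
  haveI : Smooth (Red.bc f G).hom := inferInstanceAs (Smooth (pullback.snd G.hom f))
  haveI : IsAffineHom (Red.bc f G).hom := MorphismProperty.pullback_snd (P := @IsAffineHom) _ _ inferInstance
  haveI : IsSeparated (Red.bc f G).hom := inferInstance
  haveI : Smooth T.hom := FixTorus.smooth_of_isTorus hi.2.2.1
  let v := (Over.pullback f).map g
  have key : (snd (Red.bc f G) (Red.bc f X) ≫ v) * fst (Red.bc f G) (Red.bc f X) =
      fst (Red.bc f G) (Red.bc f X) * (snd (Red.bc f G) (Red.bc f X) ≫ v) :=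
    ConjDense.ext_of_conj (RedCentre.isConnected_fibre_bc f G hconn) hi (UnipZero.selfCent_of_maximal h0 f hi) _ _
      fun {W} p u c => by
        obtain ⟨t, ht⟩ := exists_conj_point h f hi p u
        simp only [MonObj.comp_mul, lift_fst, lift_snd_assoc]
        rw [show p ≫ v = u * (t ≫ i) * u⁻¹ from ht]
        have hcomm : (t ≫ i) * (c ≫ i) = (c ≫ i) * (t ≫ i) := by
          rw [← MonObj.mul_comp, ← MonObj.mul_comp,
            MultTypeComm.points_comm (TorusQI.isMultTypeFT_of_isTorus hi.2.2.1) t c]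
        calc u * (t ≫ i) * u⁻¹ * (u * (c ≫ i) * u⁻¹) = u * ((t ≫ i) * (c ≫ i)) * u⁻¹ := by group
          _ = u * ((c ≫ i) * (t ≫ i)) * u⁻¹ := by rw [hcomm]
          _ = _ := by group
  intro Y y k
  have h1 := congrArg (lift k y ≫ ·) key
  simpa only [MonObj.comp_mul, lift_fst, lift_snd_assoc] using h1

/-- The centre consists of the points in all maximal tori. -/
theorem exists_fac_iff {Z : Over S} [GrpObj Z] {z : Z ⟶ G} (hz : Red.IsCentre z) (X : Over S) (g : X ⟶ G) :
    (∃ a : X ⟶ Z, a ≫ z = g) ↔ InTori g := by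
  obtain ⟨Z₁, _, z₁, hc₁, hzm, hzmono, hmt, hzc, hu⟩ := UnipZero.exists_centre hconn h0
  haveI := hzm; haveI := hzmono; haveI := hz.1; haveI := hz.2.1
  obtain ⟨φ, hφ⟩ := SolvGrp.centralizer_unique hz hc₁
  have hiff : (∃ a : X ⟶ Z, a ≫ z = g) ↔ ∃ a : X ⟶ Z₁, a ≫ z₁ = g :=
    ⟨fun ⟨a, ha⟩ => ⟨a ≫ φ.hom, by rw [Category.assoc, hφ, ha]⟩,
      fun ⟨a, ha⟩ => ⟨a ≫ φ.inv, by rw [Category.assoc, ← hφ, Iso.inv_hom_id_assoc, ha]⟩⟩
  rw [hiff]
  refine ⟨fun ⟨a, ha⟩ Y y T _ i hi => ?_, fun h => ?_⟩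
  · let k := y ≫ X.hom
    haveI := hi.1; haveI := hi.2.1
    haveI : (Over.pullback k).IsRightAdjoint := (Over.mapPullbackAdj k).isRightAdjoint
    haveI : Smooth (Red.bc k G).hom := inferInstanceAs (Smooth (pullback.snd G.hom k))
    haveI : IsAffineHom (Red.bc k G).hom := MorphismProperty.pullback_snd (P := @IsAffineHom) _ _ inferInstance
    have hv : Central ((Over.pullback k).map z₁) := (central_theta k _).mp (by
      rw [show (Over.pullback k).map z₁ = 𝟙 _ ≫ (Over.pullback k).map z₁ from (Category.id_comp _).symm,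
        TorsionCent.theta_map']
      intro W b c
      rw [← Category.assoc]
      exact hzc W _ c)
    obtain ⟨w, hw⟩ := CentralFactor.exists_factor (RedCentre.isConnected_fibre_bc k G hconn) hi
      (MultTypeBC.isMultTypeFT_bc k hmt) ((Over.pullback k).map z₁) fun W b c => hv W b (c ≫ i)
    let P₁ : (Over.mk (𝟙 Y) : Over Y) ⟶ Red.bc k Z₁ :=
      Over.homMk (pullback.lift (y ≫ a.left) (𝟙 Y) (by rw [Category.assoc, Over.w a]; exact (Category.id_comp _).symm)) (pullback.lift_snd _ _ _)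
    refine ⟨(P₁ ≫ w).left, Over.w (P₁ ≫ w), ?_⟩
    rw [← Category.assoc (P₁ ≫ w).left, ← Over.comp_left, Category.assoc P₁ w i, hw, ← ha]
    show (P₁.left ≫ pullback.lift _ _ _) ≫ pullback.fst G.hom k = y ≫ a.left ≫ z₁.left
    rw [Category.assoc, pullback.lift_fst]
    show pullback.lift _ _ _ ≫ pullback.fst _ _ ≫ z₁.left = _
    rw [pullback.lift_fst_assoc, Category.assoc]
  · obtain ⟨S', f, hf, hfs, hv⟩ := central_of_inTori hconn h0 h
    haveI := hf; haveI := hfs
    have hcov := FpqcDescLib.isCovering_of_lfp f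
    refine (hc₁.2.2 X g).mpr fun W x k => ?_
    rw [Category.comp_id]
    refine Over.OverMorphism.ext ?_
    let q : (Over.map f).obj (Red.bc f W) ⟶ W := DSPtsLib.theta f (𝟙 _)
    have hq : q.left = pullback.fst W.hom f := by
      simp only [q, DSPtsLib.theta_left]
      exact Category.id_comp _
    haveI : Epi (pullback.fst W.hom f) := ((FpqcDescLib.covers_of_isCovering hcov).pullback W.hom _ _ (IsPullback.of_hasPullback W.hom f)).epi
    have h2 := congrArg (DSPtsLib.theta f) (hv (Red.bc f W) ((Over.pullback f).map x) ((Over.pullback f).map k))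
    rw [DSPtsLib.theta_mul, DSPtsLib.theta_mul, ← Functor.map_comp,
      show (Over.pullback f).map (x ≫ g) = 𝟙 _ ≫ (Over.pullback f).map (x ≫ g) from (Category.id_comp _).symm,
      show (Over.pullback f).map k = 𝟙 _ ≫ (Over.pullback f).map k from (Category.id_comp _).symm,
      TorsionCent.theta_map', TorsionCent.theta_map'] at h2
    rw [← cancel_epi (pullback.fst W.hom f), ← hq]
    have h3 : q ≫ ((x ≫ g) * k) = q ≫ (k * (x ≫ g)) := by rw [MonObj.comp_mul, MonObj.comp_mul]; exact h2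
    exact congrArg (fun m : _ ⟶ G => m.left) h3

end Groth.Agent.RedRank.CentreTori
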