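import Groth.Agent.GrpSchLib.SmoothReduced
import Mathlib.RingTheory.HopfAlgebra.Convolution
import Mathlib.RingTheory.Bialgebra.MonoidAlgebra
import Mathlib.RingTheory.Flat.Basic
import Mathlib.RingTheory.Spectrum.Prime.Chevalley
import Mathlib.AlgebraicGeometry.Morphisms.Smooth
import Mathlib.Tactic.Group

/-!
# The weights of a diagonalisable subgroup acting by conjugation

A point of a diagonalisable group `D(Λ) → G` with character `χ` conjugates a point `g` to
`a ↦ ∑ χ m * g (c m a)`. Hence a central point kills every character with a component which is nonzero on all fibres.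
-/

universe u

open TensorProduct WithConv AlgebraicGeometry

set_option autoImplicit false
set_option backward.isDefEq.respectTransparency false
set_option backward.isDefEq.respectTransparency.types false
set_option maxHeartbeats 1000000

namespace Groth.Agent.RedRank.CentreWeights

variable {R : Type u} [CommRing R] {A : Type u} [CommRing A] [HopfAlgebra R A] {Λ : Type} [CommGroup Λ]
  (f : A →ₐc[R] MonoidAlgebra R Λ)

section Pts

variable {B : Type u} [CommRing B] [Algebra R B]

/-- The point of the group given by a character. -/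
noncomputable def pull (χ : Λ →* B) : WithConv (A →ₐ[R] B) :=
  toConv ((MonoidAlgebra.lift R B Λ χ).comp (f : A →ₐ[R] MonoidAlgebra R Λ))

theorem lift_mul (χ χ' : Λ →* B) :
    toConv (MonoidAlgebra.lift R B Λ χ) * toConv (MonoidAlgebra.lift R B Λ χ') =
      toConv (MonoidAlgebra.lift R B Λ (χ * χ')) := by
  refine WithConv.ext (MonoidAlgebra.algHom_ext (fun m => ?_) (by ext))
  rw [AlgHom.convMul_apply, MonoidAlgebra.comul_single]
  simp [MonoidAlgebra.lift_single]

theorem pull_mul (χ χ' : Λ →* B) : pull f (χ * χ') = pull f χ * pull f χ' := by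
  refine WithConv.ext ?_
  show (MonoidAlgebra.lift R B Λ (χ * χ')).comp _ = _
  rw [show MonoidAlgebra.lift R B Λ (χ * χ') =
      (toConv (MonoidAlgebra.lift R B Λ χ) * toConv (MonoidAlgebra.lift R B Λ χ')).ofConv by rw [lift_mul]]
  exact AlgHom.convMul_comp_bialgHom_distrib _ _ f

theorem pull_one : pull f (1 : Λ →* B) = 1 := by
  refine WithConv.ext (AlgHom.ext fun a => ?_)
  have h : MonoidAlgebra.lift R B Λ (1 : Λ →* B) =
      (Algebra.ofId R B).comp (Bialgebra.counitAlgHom R (MonoidAlgebra R Λ)) :=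
    MonoidAlgebra.algHom_ext (fun m => by simp [MonoidAlgebra.lift_single, MonoidAlgebra.counit_single]) (by ext)
  show MonoidAlgebra.lift R B Λ (1 : Λ →* B) (f a) = (1 : WithConv (A →ₐ[R] B)).ofConv a
  rw [h, AlgHom.convOne_apply]
  simp

/-- The inverse character. -/
noncomputable def inv' (χ : Λ →* B) : Λ →* B := χ.comp invMonoidHom

theorem mul_inv' (χ : Λ →* B) : χ * inv' χ = 1 := by
  ext m
  simp [inv', ← map_mul]

theorem inv'_mul (χ : Λ →* B) : inv' χ * χ = 1 := by rw [_root_.mul_comm, mul_inv']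

theorem inv'_mul_distrib (χ χ' : Λ →* B) : inv' (χ * χ') = inv' χ' * inv' χ := by
  ext m
  simp [inv', _root_.mul_comm]

theorem pull_mul_inv' (χ : Λ →* B) : pull f χ * pull f (inv' χ) = 1 := by rw [← pull_mul, mul_inv', pull_one]

theorem pull_inv'_mul (χ : Λ →* B) : pull f (inv' χ) * pull f χ = 1 := by rw [← pull_mul, inv'_mul, pull_one]

/-- Conjugation by the point given by a character. -/
noncomputable def conj (χ : Λ →* B) (g : WithConv (A →ₐ[R] B)) : WithConv (A →ₐ[R] B) :=
  pull f χ * g * pull f (inv' χ)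

theorem conj_eq_iff (χ : Λ →* B) (g : WithConv (A →ₐ[R] B)) : conj f χ g = g ↔ Commute (pull f χ) g :=
  ⟨fun h => by
    have h' : pull f χ * g * pull f (inv' χ) * pull f χ = g * pull f χ := congrArg (· * pull f χ) h
    rw [_root_.mul_assoc _ (pull f (inv' χ)), pull_inv'_mul, _root_.mul_one] at h'
    exact h',
  fun h => by rw [conj, h.eq, _root_.mul_assoc, pull_mul_inv', _root_.mul_one]⟩

theorem conj_conj (χ χ' : Λ →* B) (g : WithConv (A →ₐ[R] B)) :
    conj f χ (conj f χ' g) = conj f (χ * χ') g := by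
  simp only [conj, pull_mul, inv'_mul_distrib, _root_.mul_assoc]

variable {B' : Type u} [CommRing B'] [Algebra R B']

/-- Composition with an algebra map, on points. -/
noncomputable def post (Φ : B →ₐ[R] B') : WithConv (A →ₐ[R] B) →* WithConv (A →ₐ[R] B') :=
  { toFun := fun g => toConv (Φ.comp g.ofConv)
    map_one' := WithConv.ext (AlgHom.ext fun a => by simp [AlgHom.convOne_apply])
    map_mul' := fun g g' => WithConv.ext (AlgHom.comp_convMul_distrib Φ g g') }

theorem post_pull (Φ : B →ₐ[R] B') (χ : Λ →* B) :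
    post Φ (pull f χ) = pull f ((Φ : B →* B').comp χ) := by
  refine WithConv.ext ?_
  show Φ.comp ((MonoidAlgebra.lift R B Λ χ).comp _) = (MonoidAlgebra.lift R B' Λ _).comp _
  rw [← AlgHom.comp_assoc]
  congr 1
  exact MonoidAlgebra.algHom_ext (fun m => by simp [MonoidAlgebra.lift_single]) (by ext)

theorem post_conj (Φ : B →ₐ[R] B') (χ : Λ →* B) (g : WithConv (A →ₐ[R] B)) :
    post Φ (conj f χ g) = conj f ((Φ : B →* B').comp χ) (post Φ g) := by
  rw [conj, conj, map_mul, map_mul, post_pull, post_pull]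
  rfl

end Pts

/-- Conjugation by the universal point. -/
noncomputable def coact : A →ₐ[R] MonoidAlgebra A Λ :=
  (conj f (MonoidAlgebra.of A Λ) (toConv MonoidAlgebra.singleOneAlgHom)).ofConv

/-- The components of an element. -/
noncomputable def comp (m : Λ) (a : A) : A := (coact f a).coeff m

theorem liftNC_eq_sum {B : Type u} [CommRing B] [Algebra R B] (g : A →ₐ[R] B) (χ : Λ →* B) (x : MonoidAlgebra A Λ) :
    MonoidAlgebra.liftNCAlgHom g χ (fun _ _ => Commute.all _ _) x = x.coeff.sum fun m r => g r * χ m := by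
  induction x using MonoidAlgebra.induction_linear with
  | zero => simp
  | add p q hp hq =>
    rw [map_add, hp, hq, MonoidAlgebra.coeff_add, Finsupp.sum_add_index' (fun m => by simp)
      (fun m b₁ b₂ => by rw [map_add, add_mul])]
  | single m r =>
    rw [MonoidAlgebra.coeff_single, Finsupp.sum_single_index (by simp)]
    exact MonoidAlgebra.liftNC_single _ _ m r

/-- Conjugation in terms of the components. -/
theorem conj_apply {B : Type u} [CommRing B] [Algebra R B] (χ : Λ →* B) (g : A →ₐ[R] B) (a : A) :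
    (conj f χ (toConv g)).ofConv a = (coact f a).coeff.sum fun m r => g r * χ m := by
  let Φ := MonoidAlgebra.liftNCAlgHom g χ (fun _ _ => Commute.all _ _)
  have hg : post Φ (toConv (MonoidAlgebra.singleOneAlgHom : A →ₐ[R] MonoidAlgebra A Λ)) = toConv g := by
    refine WithConv.ext (AlgHom.ext fun r => ?_)
    show Φ (MonoidAlgebra.single 1 r) = g r
    simp [Φ, liftNC_eq_sum, MonoidAlgebra.coeff_single]
  have hχ : ((Φ : MonoidAlgebra A Λ →* B)).comp (MonoidAlgebra.of A Λ) = χ := by
    ext m
    show Φ (MonoidAlgebra.single m 1) = χ m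
    simp [Φ, liftNC_eq_sum, MonoidAlgebra.coeff_single]
  have h := post_conj f Φ (MonoidAlgebra.of A Λ) (toConv MonoidAlgebra.singleOneAlgHom)
  rw [hg, hχ] at h
  rw [← h]
  exact liftNC_eq_sum g χ _

/-- A point commuting with every point over every algebra fixes the components. -/
theorem tmul_comp_eq {B : Type u} [CommRing B] [Algebra R B] (χ : Λ →* B)
    (hc : ∀ (B' : Type u) [CommRing B'] [Algebra R B'] (Φ : B →ₐ[R] B') (g : WithConv (A →ₐ[R] B')),
      Commute (pull f ((Φ : B →* B').comp χ)) g) (m : Λ) (a : A) :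
    χ m ⊗ₜ[R] comp f m a = (1 : B) ⊗ₜ[R] comp f m a := by
  let Φ : B →ₐ[R] MonoidAlgebra (B ⊗[R] A) Λ :=
    (MonoidAlgebra.singleOneAlgHom : B ⊗[R] A →ₐ[R] MonoidAlgebra (B ⊗[R] A) Λ).comp Algebra.TensorProduct.includeLeft
  let g : A →ₐ[R] MonoidAlgebra (B ⊗[R] A) Λ :=
    (MonoidAlgebra.singleOneAlgHom : B ⊗[R] A →ₐ[R] MonoidAlgebra (B ⊗[R] A) Λ).comp Algebra.TensorProduct.includeRight
  let σ : Λ →* MonoidAlgebra (B ⊗[R] A) Λ := MonoidAlgebra.of (B ⊗[R] A) Λ
  let τ : Λ →* MonoidAlgebra (B ⊗[R] A) Λ := (Φ : B →* MonoidAlgebra (B ⊗[R] A) Λ).comp χ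
  have h1 : conj f (τ * σ) (toConv g) = conj f σ (toConv g) := by
    have h := (conj_eq_iff f τ (conj f σ (toConv g))).2 (hc _ Φ _)
    rw [← h]
    exact (conj_conj f τ σ _).symm
  have h2 := congrArg (fun x : MonoidAlgebra (B ⊗[R] A) Λ => x.coeff m) (congrArg (fun x => x.ofConv a) h1)
  simp only [conj_apply] at h2
  have key : ∀ (ξ : Λ → B ⊗[R] A),
      ((coact f a).coeff.sum fun l r => g r * MonoidAlgebra.single l (ξ l)).coeff m =
        ((1 : B) ⊗ₜ[R] comp f m a) * ξ m := by
    intro ξ
    classical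
    rw [Finsupp.sum, MonoidAlgebra.coeff_sum, Finsupp.finset_sum_apply]
    rw [Finset.sum_eq_single m]
    · simp [g, MonoidAlgebra.single_mul_single, MonoidAlgebra.coeff_single, comp]
    · intro l _ hl
      simp [g, MonoidAlgebra.single_mul_single, MonoidAlgebra.coeff_single, hl]
    · intro hm
      simp [g, Finsupp.notMem_support_iff.mp hm]
  have hτσ : ∀ l, (τ * σ) l = MonoidAlgebra.single l (χ l ⊗ₜ[R] (1 : A)) := fun l => by
    simp [τ, σ, Φ, MonoidAlgebra.single_mul_single]
  have hσ : ∀ l, σ l = MonoidAlgebra.single l (1 : B ⊗[R] A) := fun l => rfl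
  simp only [hτσ, hσ, key] at h2
  simpa using h2

/-- Over a flat algebra an element nonzero on all fibres has no annihilator. -/
theorem eq_zero_of_tmul [Module.Flat R A] {B : Type u} [CommRing B] [Algebra R B] {β : B} {b : A}
    (hb : ∀ q : PrimeSpectrum B,
      (1 : (PrimeSpectrum.comap (algebraMap R B) q).asIdeal.ResidueField) ⊗ₜ[R] b ≠ 0)
    (h : β ⊗ₜ[R] b = 0) : β = 0 := by
  by_contra hβ
  let μ : B →ₗ[R] B := LinearMap.mulLeft R β
  have hex := Module.Flat.rTensor_exact (M := A) (LinearMap.exact_subtype_ker_map μ)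
  obtain ⟨z, hz⟩ := (hex ((1 : B) ⊗ₜ[R] b)).1 (by simpa [μ] using h)
  let I : Ideal B := (⊥ : Submodule B B).colon {β}
  have hI : I ≠ ⊤ := fun hI => hβ (by
    have : (1 : B) ∈ I := hI ▸ Submodule.mem_top
    simpa [I, Submodule.mem_colon_singleton] using this)
  obtain ⟨q, hq, hIq⟩ := Ideal.exists_le_maximal I hI
  haveI := hq.isPrime
  let p := (PrimeSpectrum.comap (algebraMap R B) ⟨q, hq.isPrime⟩).asIdeal
  let ρ : B →ₐ[R] q.ResidueField := IsScalarTower.toAlgHom R B _
  let j : p.ResidueField →ₐ[R] q.ResidueField := Ideal.ResidueField.liftₐ p (Algebra.ofId R _)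
    (fun x hx => by
      rw [RingHom.mem_ker]
      show algebraMap R q.ResidueField x = 0
      rw [IsScalarTower.algebraMap_apply R B q.ResidueField, Ideal.algebraMap_residueField_eq_zero]
      exact hx)
    (fun x hx => by
      show IsUnit (algebraMap R q.ResidueField x)
      rw [isUnit_iff_ne_zero, IsScalarTower.algebraMap_apply R B q.ResidueField, ne_eq,
        Ideal.algebraMap_residueField_eq_zero]
      exact hx)
  have hzero : ∀ w, (ρ.toLinearMap.rTensor A) ((LinearMap.ker μ).subtype.rTensor A w) = 0 := by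
    intro w
    rw [← LinearMap.comp_apply, ← LinearMap.rTensor_comp]
    have : ρ.toLinearMap ∘ₗ (LinearMap.ker μ).subtype = 0 := by
      ext x
      show algebraMap B q.ResidueField x.1 = 0
      rw [Ideal.algebraMap_residueField_eq_zero]
      refine hIq ?_
      have hx : β * x.1 = 0 := x.2
      simp [I, Submodule.mem_colon_singleton, mul_comm x.1, hx]
    rw [this, LinearMap.rTensor_zero, LinearMap.zero_apply]
  have h1 := hzero z
  rw [hz, LinearMap.rTensor_tmul] at h1
  refine hb ⟨q, hq.isPrime⟩ (Module.Flat.rTensor_preserves_injective_linearMap (M := A) j.toLinearMap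
    j.toRingHom.injective ?_)
  rw [map_zero, LinearMap.rTensor_tmul]
  simpa using h1

/-- A central point kills a character with a component nonzero on all fibres. -/
theorem apply_eq_one [Module.Flat R A] {B : Type u} [CommRing B] [Algebra R B] (χ : Λ →* B)
    (hc : ∀ (B' : Type u) [CommRing B'] [Algebra R B'] (Φ : B →ₐ[R] B') (g : WithConv (A →ₐ[R] B')),
      Commute (pull f ((Φ : B →* B').comp χ)) g) (m : Λ) (a : A)
    (hb : ∀ q : PrimeSpectrum B,
      (1 : (PrimeSpectrum.comap (algebraMap R B) q).asIdeal.ResidueField) ⊗ₜ[R] comp f m a ≠ 0) :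
    χ m = 1 :=
  sub_eq_zero.mp (eq_zero_of_tmul hb (by rw [TensorProduct.sub_tmul, tmul_comp_eq f χ hc, sub_self]))

/-- The characters with a component on the fibre at `p`. -/
def supp (p : PrimeSpectrum R) : Set Λ := {m | ∃ a, (1 : p.asIdeal.ResidueField) ⊗ₜ[R] comp f m a ≠ 0}

/-- Over the fibre at `p` a character trivial on the weights gives a central point. -/
theorem commute_of_supp (p : PrimeSpectrum R) {B : Type u} [CommRing B] [Algebra R B]
    (ψ : p.asIdeal.ResidueField →ₐ[R] B) (χ : Λ →* B) (hχ : ∀ m ∈ supp f p, χ m = 1)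
    (g : WithConv (A →ₐ[R] B)) : Commute (pull f χ) g := by
  rw [← conj_eq_iff]
  have h1 : conj f (1 : Λ →* B) g = g := by simp [conj, pull_one, inv']
  conv_rhs => rw [← h1]
  obtain ⟨g, rfl⟩ : ∃ g', g = toConv g' := ⟨g.ofConv, rfl⟩
  refine WithConv.ext (AlgHom.ext fun a => ?_)
  rw [conj_apply, conj_apply]
  refine Finsupp.sum_congr fun m _ => ?_
  by_cases hm : m ∈ supp f p
  · rw [hχ m hm, MonoidHom.one_apply]
  · have h0 : (1 : p.asIdeal.ResidueField) ⊗ₜ[R] comp f m a = 0 := by
      by_contra hne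
      exact hm ⟨a, hne⟩
    have h2 := congrArg (Algebra.TensorProduct.lift ψ g fun _ _ => Commute.all _ _) h0
    rw [Algebra.TensorProduct.lift_tmul, map_one, _root_.one_mul, map_zero] at h2
    show g (comp f m a) * χ m = g (comp f m a) * (1 : Λ →* B) m
    rw [h2, zero_mul, zero_mul]

/-- The locus where an element of a smooth algebra is nonzero on the fibre is open. -/
theorem isOpen_fibre_ne_zero [Algebra.Smooth R A] [Module.Flat R A] (b : A) :
    IsOpen {p : PrimeSpectrum R | (1 : p.asIdeal.ResidueField) ⊗ₜ[R] b ≠ 0} := by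
  have heq : {p : PrimeSpectrum R | (1 : p.asIdeal.ResidueField) ⊗ₜ[R] b ≠ 0} =
      PrimeSpectrum.comap (algebraMap R A) '' (PrimeSpectrum.basicOpen b : Set (PrimeSpectrum A)) := by
    ext p
    constructor
    · intro hp
      let F := p.asIdeal.ResidueField ⊗[R] A
      haveI : Smooth (Spec.map (CommRingCat.ofHom (algebraMap p.asIdeal.ResidueField F))) := by
        rw [HasRingHomProperty.Spec_iff (P := @Smooth)]
        exact RingHom.smooth_algebraMap.mpr inferInstance
      haveI := GrpSchLib.isReduced_of_smooth_field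
        (Spec.map (CommRingCat.ofHom (algebraMap p.asIdeal.ResidueField F)))
      haveI : _root_.IsReduced F := (affine_isReduced_iff (CommRingCat.of F)).mp inferInstance
      obtain ⟨Q, hQ, hbQ⟩ : ∃ Q : Ideal F, Q.IsPrime ∧ (1 : p.asIdeal.ResidueField) ⊗ₜ[R] b ∉ Q := by
        by_contra! hall
        exact hp (IsReduced.eq_zero _ ((nilpotent_iff_mem_prime (R := F)).mpr hall))
      haveI := hQ
      let ι : A →ₐ[R] F := Algebra.TensorProduct.includeRight
      refine ⟨PrimeSpectrum.comap ι.toRingHom ⟨Q, hQ⟩, hbQ, PrimeSpectrum.ext ?_⟩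
      ext x
      show ι (algebraMap R A x) ∈ Q ↔ x ∈ p.asIdeal
      rw [AlgHom.commutes, IsScalarTower.algebraMap_apply R p.asIdeal.ResidueField F]
      refine ⟨fun h => ?_, fun h => ?_⟩
      · by_contra hx
        have hu : IsUnit (algebraMap R p.asIdeal.ResidueField x) :=
          isUnit_iff_ne_zero.mpr (by rwa [ne_eq, Ideal.algebraMap_residueField_eq_zero])
        exact hQ.ne_top (Ideal.eq_top_of_isUnit_mem Q h (hu.map _))
      · rw [Ideal.algebraMap_residueField_eq_zero.mpr h, map_zero]
        exact zero_mem _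
    · rintro ⟨P, hbP, rfl⟩ h0
      let j : (PrimeSpectrum.comap (algebraMap R A) P).asIdeal.ResidueField →ₐ[R] P.asIdeal.ResidueField :=
        Ideal.ResidueField.mapₐ _ _ (Algebra.ofId R A) rfl
      have h2 := congrArg (Algebra.TensorProduct.lift j (IsScalarTower.toAlgHom R A P.asIdeal.ResidueField)
        fun _ _ => Commute.all _ _) h0
      rw [Algebra.TensorProduct.lift_tmul, map_one, _root_.one_mul, map_zero] at h2
      exact hbP (Ideal.algebraMap_residueField_eq_zero.mp h2)
  rw [heq]
  exact PrimeSpectrum.isOpenMap_comap_of_hasGoingDown_of_finitePresentation _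
    (PrimeSpectrum.basicOpen b).isOpen

end Groth.Agent.RedRank.CentreWeights
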