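import Groth.Agent.RedRank.Main
import Groth.Agent.RedRank.IsoNhd
import Groth.Agent.RedRank.CartanNhd
import Groth.Agent.SchDenseLib.Hom
import Groth.Agent.FlatMisc.GenFlat
import Groth.Agent.SolvGrp.TorusSepBase
import Groth.Agent.S4871
import Groth.Agent.S3938

/-!
# The conjugates of a Cartan subgroup are relatively schematically dense
-/

universe u

open CategoryTheory CategoryTheory.Limits MonoidalCategory CartesianMonoidalCategory MonObj AlgebraicGeometry

set_option backward.isDefEq.respectTransparency false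
set_option backward.isDefEq.respectTransparency.types false
set_option linter.style.haveILetI false
set_option synthInstance.maxHeartbeats 200000
set_option maxHeartbeats 1000000
set_option autoImplicit false

namespace Groth.Agent.RedRank.ConjDense

open GrpSchLib MaxTorCent MaxTorTransp

/-- A dense open of a reduced scheme is schematically dense. -/
theorem isSchematicallyDense_of_dense {X : Scheme.{u}} [IsReduced X] {U : X.Opens} (hU : Dense (U : Set X)) :
    CInt.IsSchematicallyDense U := by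
  intro V
  refine (injective_iff_map_eq_zero _).mpr fun f hf => ?_
  refine (AlgebraicGeometry.basicOpen_eq_bot_iff f).mp (TopologicalSpace.Opens.ext ?_)
  refine Set.eq_empty_of_forall_notMem fun x hx => ?_
  obtain ⟨y, hy, hyU⟩ := hU.inter_open_nonempty _ (X.basicOpen f).isOpen ⟨x, hx⟩
  have h : y ∈ X.basicOpen (X.presheaf.map (homOfLE (inf_le_left : V ⊓ U ≤ V)).op f) := by
    rw [Scheme.basicOpen_res]
    exact ⟨⟨X.basicOpen_le f hy, hyU⟩, hy⟩
  rw [hf, Scheme.basicOpen_zero] at h
  exact h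

/-- A morphism is flat at a point when its fibre is flat near the image of the point. -/
theorem flat_of_fibre_open {X Y S : Scheme.{u}} (f : X ⟶ Y) (g : Y ⟶ S) [LocallyOfFinitePresentation (f ≫ g)]
    [LocallyOfFiniteType g] [Flat (f ≫ g)] (s : S) (W : (g.fiber s).Opens)
    (hW : Flat (MoreMor.fiberMap f g s ∣_ W)) (x : X) (y : g.fiber s) (hy : g.fiberι s y = f x) (hyW : y ∈ W) :
    (g.stalkMap (f x)).hom.Flat ∧ (f.stalkMap x).hom.Flat := by
  have hs : g (f x) = s := by
    rw [← hy]
    have h : g.fiberι s y ∈ g ⁻¹' {s} := g.range_fiberι s ▸ Set.mem_range_self y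
    exact h
  subst hs
  refine ((Groth.Agent.S1386.result f g).1 x).mp ⟨Flat.stalkMap (f ≫ g) x, ?_⟩
  let z := (f ≫ g).asFiber x
  have hz : MoreMor.fiberMap f g (g (f x)) z = y := by
    refine (g.fiberι (g (f x))).isEmbedding.injective ?_
    rw [hy, ← Scheme.Hom.comp_apply]
    show ((MoreMor.fiberMap f g (g (f x))) ≫ pullback.fst g _) z = f x
    rw [MoreMor.fiberMap, pullback.lift_fst, Scheme.Hom.comp_apply]
    exact congrArg f ((f ≫ g).fiberι_asFiber x)
  have hzW : z ∈ MoreMor.fiberMap f g (g (f x)) ⁻¹ᵁ W := show MoreMor.fiberMap f g (g (f x)) z ∈ W by rw [hz]; exact hyW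
  exact ((RingHom.toMorphismProperty RingHom.Flat).arrow_mk_iso_iff
    (morphismRestrictStalkMap (MoreMor.fiberMap f g (g (f x))) W ⟨z, hzW⟩)).1 (Flat.stalkMap _ _)

variable {S : Scheme.{u}} {G T C : Over S} [GrpObj G] [GrpObj T] [GrpObj C] [Smooth G.hom] [IsAffineHom G.hom]

/-- The conjugation map. -/
noncomputable def conjMap (c : C ⟶ G) : G ⊗ C ⟶ G := fst G C * (snd G C ≫ c) * (fst G C)⁻¹

theorem comp_conjMap (c : C ⟶ G) {X : Over S} (w : X ⟶ G ⊗ C) :
    w ≫ conjMap c = (w ≫ fst G C) * ((w ≫ snd G C) ≫ c) * (w ≫ fst G C)⁻¹ := by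
  rw [conjMap, MonObj.comp_mul, MonObj.comp_mul, GrpObj.comp_inv, Category.assoc]

variable (hconn : ∀ s : S, _root_.IsConnected (G.hom.base ⁻¹' {s})) {i : T ⟶ G} (hi : Red.IsMaximalTorus i)
  {c : C ⟶ G} (hc : Red.IsCentralizerOf i c) [Smooth C.hom]
include hconn hi hc

/-- The conjugation map is flat somewhere on every fibre, and the fibres are irreducible. -/
theorem exists_flat_point (s : S) :
    IrreducibleSpace ↥(G.hom.fiber s) ∧ IsReduced (G.hom.fiber s) ∧
      ∃ x : (G ⊗ C).left, G.hom ((conjMap c).left x) = s ∧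
        (G.hom.stalkMap ((conjMap c).left x)).hom.Flat ∧ ((conjMap c).left.stalkMap x).hom.Flat := by
  let b := Red.geomPt s
  let K := AlgebraicClosure (S.residueField s)
  let F := Over.pullback b
  haveI : F.IsRightAdjoint := (Over.mapPullbackAdj b).isRightAdjoint
  haveI : IsAffineHom (pullback.snd G.hom b) := MorphismProperty.pullback_snd (P := @IsAffineHom) _ _ inferInstance
  haveI : IsAffine (Red.geomFibre s G).left := isAffine_of_isAffineHom (pullback.snd G.hom b)
  haveI : Smooth (Red.geomFibre s G).hom := inferInstanceAs (Smooth (pullback.snd G.hom b))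
  haveI : LocallyOfFiniteType (Red.geomFibre s G).hom := inferInstance
  haveI : ConnectedSpace ↥(Red.geomFibre s G).left := FixTorus.connectedSpace_geomFibre s (hconn s)
  haveI : IrreducibleSpace ↥(Red.geomFibre s G).left := AGFLib.Rosen.irreducibleSpace_of_connected
  haveI : Smooth (G.hom.fiberToSpecResidueField s) := inferInstanceAs (Smooth (pullback.snd _ _))
  have hred : IsReduced (G.hom.fiber s) := isReduced_of_smooth_field (G.hom.fiberToSpecResidueField s)
  haveI := hred
  let τ : Spec (CommRingCat.of K) ⟶ Spec (S.residueField s) :=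
    Spec.map (CommRingCat.ofHom (algebraMap (S.residueField s) K))
  haveI : Surjective τ := ⟨Function.surjective_to_subsingleton (α := Spec (CommRingCat.of K))
    (β := Spec (S.residueField s)) _⟩
  let e := pullbackLeftPullbackSndIso G.hom (S.fromSpecResidueField s) τ
  let q : (Red.geomFibre s G).left ⟶ G.hom.fiber s := e.inv ≫ pullback.fst _ τ
  have hqι : q ≫ G.hom.fiberι s = pullback.fst G.hom b := by
    simp only [q, Category.assoc]
    exact (pullbackLeftPullbackSndIso_inv_fst G.hom (S.fromSpecResidueField s) τ)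
  haveI : Surjective (pullback.fst (pullback.snd G.hom (S.fromSpecResidueField s)) τ) := inferInstance
  have hqs : Function.Surjective q := fun y => by
    obtain ⟨w, hw⟩ := (pullback.fst (pullback.snd G.hom (S.fromSpecResidueField s)) τ).surjective y
    refine ⟨e.hom w, ?_⟩
    show (e.inv ≫ _) (e.hom w) = y
    rw [← Scheme.Hom.comp_apply, Iso.hom_inv_id_assoc]
    exact hw
  have hirr : IrreducibleSpace ↥(G.hom.fiber s) := hqs.irreducibleSpace q.continuous
  refine ⟨hirr, hred, ?_⟩
  haveI : Smooth (G ⊗ C).hom := by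
    show Smooth (pullback.fst G.hom C.hom ≫ G.hom)
    infer_instance
  let Φ := conjMap c
  haveI : LocallyOfFinitePresentation (Φ.left ≫ G.hom) := by rw [Over.w Φ]; infer_instance
  haveI : Flat (Φ.left ≫ G.hom) := by rw [Over.w Φ]; infer_instance
  haveI : QuasiCompact C.hom := by
    haveI := hc.2.1
    haveI : IsClosedImmersion c.left := by
      haveI := hi.1
      obtain ⟨C₀, _, c₀, hc₀, hcl, -⟩ := MaxTorCent.exists_centralizer i (TorusQI.isMultTypeFT_of_isTorus hi.2.2.1)
      haveI := hcl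
      obtain ⟨φ, hφ⟩ := SolvGrp.centralizer_unique hc hc₀
      haveI : IsIso φ.hom := φ.isIso_hom
      haveI : IsIso φ.hom.left := Functor.map_isIso (Over.forget _) φ.hom
      rw [← hφ, Over.comp_left]
      infer_instance
    rw [← Over.w c]
    infer_instance
  haveI : QuasiCompact (G ⊗ C).hom := by
    show QuasiCompact (pullback.fst G.hom C.hom ≫ G.hom)
    infer_instance
  let f₀ := MoreMor.fiberMap Φ.left G.hom s
  haveI : LocallyOfFiniteType f₀ := by
    haveI : LocallyOfFiniteType (f₀ ≫ G.hom.fiberToSpecResidueField s) := by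
      show LocallyOfFiniteType (pullback.lift _ _ _ ≫ pullback.snd G.hom (S.fromSpecResidueField s))
      rw [pullback.lift_snd]
      exact inferInstanceAs (LocallyOfFiniteType (pullback.snd _ _))
    exact locallyOfFiniteType_of_comp f₀ (G.hom.fiberToSpecResidueField s)
  haveI : QuasiCompact f₀ := by
    haveI : QuasiCompact (f₀ ≫ G.hom.fiberToSpecResidueField s) := by
      show QuasiCompact (pullback.lift _ _ _ ≫ pullback.snd G.hom (S.fromSpecResidueField s))
      rw [pullback.lift_snd]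
      haveI : QuasiCompact (Φ.left ≫ G.hom) := by rw [Over.w Φ]; infer_instance
      exact inferInstanceAs (QuasiCompact (pullback.snd _ _))
    haveI : QuasiSeparated (G.hom.fiberToSpecResidueField s) := inferInstanceAs (QuasiSeparated (pullback.snd _ _))
    exact QuasiCompact.of_comp f₀ (G.hom.fiberToSpecResidueField s)
  obtain ⟨W, ⟨w₀, hw₀⟩, -, hWflat, -⟩ := FlatMisc.exists_flat_open f₀ ⊤ ⟨Classical.arbitrary _, trivial⟩
  -- a rational point of the geometric fibre over the flat open and in the conjugates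
  obtain ⟨U, hU, hconj⟩ := Groth.Agent.S3938.result K (Red.geomFibre s G) (Red.bc b T) (F.map i)
    (SolvGrp.isMaxTorus_of_isMaximalTorus (isMaximalTorus_geomFibre hi s)) (Red.bc b C) (F.map c)
    (SolvGrp.isCentralizerOf_bc b i c hc)
  obtain ⟨p₀, hp₀⟩ := hqs w₀
  obtain ⟨p₁, hp₁⟩ := nonempty_preirreducible_inter (q ⁻¹ᵁ W).isOpen U.isOpen ⟨p₀, show q p₀ ∈ W by rw [hp₀]; exact hw₀⟩ hU
  obtain ⟨r, hr⟩ := SolvGrp.exists_pt_mem ((q ⁻¹ᵁ W) ⊓ U) ⟨p₁, hp₁⟩
  obtain ⟨d, y, hdy⟩ := hconj r hr.2
  obtain ⟨v, hv⟩ := (DSPtsLib.theta_bijective (g := b) (Y := 𝟙_ (Over (Spec (CommRingCat.of K)))) (H := G ⊗ C)).2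
    (lift (DSPtsLib.theta b d) (DSPtsLib.theta b y))
  have hΦ : DSPtsLib.theta b v ≫ Φ = DSPtsLib.theta b r := by
    rw [hv, comp_conjMap, lift_fst, lift_snd, ← hdy, DSPtsLib.theta_mul, DSPtsLib.theta_mul, SubgroupNbhd.theta_map]
    congr 1
    exact (MaxTorCent.theta_inv b d).symm
  let x : (G ⊗ C).left := (DSPtsLib.theta b v).left (IsLocalRing.closedPoint K)
  let y₁ : G.hom.fiber s := q (r.left (IsLocalRing.closedPoint K))
  have hy₁ : G.hom.fiberι s y₁ = Φ.left x := by
    show G.hom.fiberι s (q _) = Φ.left ((DSPtsLib.theta b v).left _)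
    rw [← Scheme.Hom.comp_apply, ← Scheme.Hom.comp_apply, ← Scheme.Hom.comp_apply, hqι, ← Over.comp_left, hΦ,
      DSPtsLib.theta_left]
    rfl
  refine ⟨x, ?_, flat_of_fibre_open Φ.left G.hom s W hWflat x y₁ hy₁ hr.1⟩
  rw [← hy₁]
  have h : G.hom.fiberι s y₁ ∈ G.hom ⁻¹' {s} := G.hom.range_fiberι s ▸ Set.mem_range_self y₁
  exact h

/-- Morphisms agreeing on the conjugates of a Cartan subgroup are equal. -/
theorem ext_of_conj {X Y : Over S} [IsSeparated Y.hom] (a b : G ⊗ X ⟶ Y)
    (h : ∀ {W : Over S} (p : W ⟶ X) (u : W ⟶ G) (v : W ⟶ C),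
      lift (u * (v ≫ c) * u⁻¹) p ≫ a = lift (u * (v ≫ c) * u⁻¹) p ≫ b) : a = b := by
  haveI : Smooth (G ⊗ C).hom := by
    show Smooth (pullback.fst G.hom C.hom ≫ G.hom)
    infer_instance
  let Φ := conjMap c
  haveI : LocallyOfFinitePresentation (Φ.left ≫ G.hom) := by rw [Over.w Φ]; infer_instance
  haveI : LocallyOfFinitePresentation Φ.left := AlgSpPts.locallyOfFinitePresentation_of_comp Φ.left G.hom
  let U : (G ⊗ C).left.Opens := ⟨_, (Groth.Agent.S1386.result Φ.left G.hom).2⟩
  let π := U.ι ≫ Φ.left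
  haveI : Flat π := by
    refine Flat.of_stalkMap _ fun w => ?_
    rw [Scheme.Hom.stalkMap_comp]
    exact RingHom.Flat.comp w.2.2 (Flat.stalkMap U.ι w)
  haveI : LocallyOfFinitePresentation π := inferInstance
  let W : G.left.Opens := ⟨Set.range π, π.isOpenMap.isOpen_range⟩
  have hW : ∀ s : S, CInt.IsSchematicallyDense ((G.hom.fiberι s) ⁻¹ᵁ W) := fun s => by
    obtain ⟨hirr, hred, x, hxs, hx⟩ := exists_flat_point hconn hi hc s
    haveI := hirr; haveI := hred
    refine isSchematicallyDense_of_dense (((G.hom.fiberι s) ⁻¹ᵁ W).isOpen.dense ?_)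
    have h1 : Φ.left x ∈ Set.range (G.hom.fiberι s) := by
      rw [G.hom.range_fiberι]
      exact hxs
    obtain ⟨y, hy⟩ := h1
    exact ⟨y, show G.hom.fiberι s y ∈ W by rw [hy]; exact ⟨⟨x, hx⟩, rfl⟩⟩
  have hWX := (Groth.Agent.S4871.result G.hom W).mpr hW X.left X.hom
  let pr := (fst G X).left
  let V : (G ⊗ X).left.Opens := pr ⁻¹ᵁ W
  refine Over.OverMorphism.ext (SchDenseLib.hom_ext hWX Y.hom a.left b.left (by rw [Over.w a, Over.w b]) ?_)
  let p₂ := pullback.snd π pr
  haveI : Flat p₂ := MorphismProperty.pullback_snd (P := @Flat) _ _ inferInstance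
  haveI : LocallyOfFinitePresentation p₂ := MorphismProperty.pullback_snd (P := @LocallyOfFinitePresentation) _ _ inferInstance
  have key : p₂ ≫ a.left = p₂ ≫ b.left := by
    let P : Over S := Over.mk (p₂ ≫ (G ⊗ X).hom)
    let l : P ⟶ G ⊗ X := Over.homMk p₂ rfl
    let m : P ⟶ G ⊗ C := Over.homMk (pullback.fst π pr ≫ U.ι) (by
      show (pullback.fst π pr ≫ U.ι) ≫ (G ⊗ C).hom = pullback.snd π pr ≫ (G ⊗ X).hom
      rw [← Over.w Φ, ← Over.w (fst G X), Category.assoc, ← Category.assoc U.ι]
      exact pullback.condition_assoc _)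
    have hl : l = lift (m ≫ Φ) (l ≫ snd G X) := CartesianMonoidalCategory.hom_ext _ _ (by
      rw [lift_fst]
      exact Over.OverMorphism.ext ((pullback.condition (f := π) (g := pr)).symm.trans (Category.assoc _ _ _).symm)) (by
      rw [lift_snd])
    have h2 := h (l ≫ snd G X) (m ≫ fst G C) (m ≫ snd G C)
    rw [← comp_conjMap c m] at h2
    rw [← hl] at h2
    exact congrArg (fun t : P ⟶ Y => t.left) h2
  haveI : Surjective (p₂ ∣_ V) := ⟨fun v => by
    obtain ⟨w, hw⟩ := v.2
    obtain ⟨z, -, hz⟩ := Scheme.Pullback.exists_preimage_pullback (f := π) (g := pr) w v.1 hw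
    refine ⟨⟨z, show p₂ z ∈ V by rw [hz]; exact v.2⟩, V.ι.isOpenEmbedding.injective ?_⟩
    rw [← Scheme.Hom.comp_apply, morphismRestrict_ι, Scheme.Hom.comp_apply]
    exact hz⟩
  haveI : Epi (p₂ ∣_ V) := (FpqcDescLib.covers_of_isCovering (FpqcDescLib.isCovering_of_lfp (p₂ ∣_ V))).epi
  show V.ι ≫ a.left = V.ι ≫ b.left
  rw [← cancel_epi (p₂ ∣_ V), morphismRestrict_ι_assoc, morphismRestrict_ι_assoc, key]

end Groth.Agent.RedRank.ConjDense
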