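import Groth.Agent.TorsionCent.Central
import Groth.Agent.TorsionCent.Global
import Groth.Agent.MultTypeImage.MaxTorus
import Groth.Agent.MaxTorTransp.Conj

/-!
# Maximal tori under a surjection with central kernel

Two maximal tori with the same image are equal, and every maximal torus of the target is an image.
-/

universe u

open CategoryTheory CategoryTheory.Limits MonoidalCategory CartesianMonoidalCategory MonObj AlgebraicGeometry

set_option backward.isDefEq.respectTransparency false
set_option backward.isDefEq.respectTransparency.types false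
set_option linter.style.haveILetI false
set_option synthInstance.maxHeartbeats 200000
set_option maxHeartbeats 1000000
set_option autoImplicit false

namespace Groth.Agent.RedRank.ImageBij

open GrpSchLib MaxTorCent MaxTorTransp
open GrpLimLib (cmp)

variable {S : Scheme.{u}}

/-- The kernel of `u` is central on points. -/
def CentralKer {G G' : Over S} [GrpObj G] [GrpObj G'] (u : G ⟶ G') : Prop :=
  ∀ (X : Over S) (z : X ⟶ G), z ≫ u = 1 → ∀ (X' : Over S) (x : X' ⟶ X) (g : X' ⟶ G),
    (x ≫ z) * g = g * (x ≫ z)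

theorem centralKer_bc {G G' : Over S} [GrpObj G] [GrpObj G'] {u : G ⟶ G'} (h : CentralKer u)
    {S' : Scheme.{u}} (π : S' ⟶ S) : CentralKer ((Over.pullback π).map u) := by
  intro X z hz X' x g
  refine (DSPtsLib.theta_bijective π).1 ?_
  rw [DSPtsLib.theta_mul, DSPtsLib.theta_mul, DSPtsLib.theta_comp]
  refine h _ _ ?_ _ _ _
  rw [← TorsionCent.theta_map', hz, HomUnitLocus.theta_one]

theorem surjective_map {X Y : Over S} (v : X ⟶ Y) [Surjective v.left] {S' : Scheme.{u}} (π : S' ⟶ S) :
    Surjective ((Over.pullback π).map v).left :=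
  MorphismProperty.of_isPullback (P := @Surjective) (HomSplitLocal.isPullback_map v π) ‹_›

/-- A surjective homomorphism onto a torus is faithfully flat and quasi-compact. -/
theorem flat_onto_torus {T T' : Over S} [GrpObj T] [GrpObj T'] (v : T ⟶ T') [IsMonHom v] [Surjective v.left]
    (hT : Red.IsTorus T) (hT' : Red.IsTorus T') : Flat v.left ∧ QuasiCompact v.left := by
  haveI : Smooth T.hom := FixTorus.smooth_of_isTorus hT
  haveI : Smooth T'.hom := FixTorus.smooth_of_isTorus hT'
  haveI : GeometricallyReduced T'.hom := IsogenyFibre.geometricallyReduced_of_smooth' T'.hom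
  haveI : IsAffineHom T.hom := (TransLib.multTypeFT_essFree (TorusQI.isMultTypeFT_of_isTorus hT)).1
  haveI : IsAffineHom T'.hom := (TransLib.multTypeFT_essFree (TorusQI.isMultTypeFT_of_isTorus hT')).1
  haveI : QuasiCompact (v.left ≫ T'.hom) := by rw [Over.w]; infer_instance
  exact ⟨(HomFlatLft.flat_hom v).1, QuasiCompact.of_comp v.left T'.hom⟩

/-- Two maximal tori with the same image are equal. -/
theorem exists_iso_of_image {G G' T₁ T₂ T' : Over S} [GrpObj G] [GrpObj G'] [GrpObj T₁] [GrpObj T₂] [GrpObj T']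
    [Smooth G.hom] [IsSeparated G.hom] [QuasiCompact G.hom] (u : G ⟶ G') [IsMonHom u] (hker : CentralKer u)
    {i₁ : T₁ ⟶ G} {i₂ : T₂ ⟶ G} (h₁ : Red.IsMaximalTorus i₁) (h₂ : Red.IsMaximalTorus i₂) (i' : T' ⟶ G')
    [IsMonHom i'] [Mono i'] (hT' : Red.IsTorus T') (v₁ : T₁ ⟶ T') (v₂ : T₂ ⟶ T') (e₁ : v₁ ≫ i' = i₁ ≫ u)
    (e₂ : v₂ ≫ i' = i₂ ≫ u) [Surjective v₁.left] : ∃ φ : T₁ ≅ T₂, φ.hom ≫ i₂ = i₁ := by
  haveI := h₁.1; haveI := h₁.2.1; haveI := h₂.1; haveI := h₂.2.1
  haveI : IsMonHom v₁ := AGFLib.isMonHom_of_mul v₁ fun X a b => by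
    rw [← cancel_mono i', Category.assoc, e₁, MonObj.mul_comp _ _ i', Category.assoc, Category.assoc, e₁,
      MonObj.mul_comp]
  obtain ⟨hfl, hqc⟩ := flat_onto_torus v₁ h₁.2.2.1 hT'
  haveI := hfl; haveI := hqc
  have hcomm : ∀ (X : Over S) (x : X ⟶ T₂) (t : X ⟶ T₁), (x ≫ i₂) * (t ≫ i₁) = (t ≫ i₁) * (x ≫ i₂) := by
    intro X x t
    let p : pullback (x ≫ v₂).left v₁.left ⟶ X.left := pullback.fst _ _
    haveI : Epi p := (FpqcDescLib.covers_of_isCovering (FpqcDescLib.isCovering_of_quasiCompact p)).epi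
    let X₁ : Over S := Over.mk (p ≫ X.hom)
    let p' : X₁ ⟶ X := Over.homMk p rfl
    haveI : Epi p'.left := ‹Epi p›
    haveI : Epi p' := Over.epi_of_epi_left _
    let y : X₁ ⟶ T₁ := Over.homMk (pullback.snd (x ≫ v₂).left v₁.left) (by
      show _ = p ≫ X.hom
      rw [← Over.w v₁, ← pullback.condition_assoc]
      erw [Over.w (x ≫ v₂)])
    have hy : y ≫ v₁ = p' ≫ x ≫ v₂ := Over.OverMorphism.ext pullback.condition.symm
    have hz : ((p' ≫ x ≫ i₂) * (y ≫ i₁)⁻¹) ≫ u = 1 := by
      rw [MonObj.mul_comp, GrpObj.inv_comp]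
      simp only [Category.assoc, ← e₁, ← e₂]
      rw [reassoc_of% hy]
      exact mul_inv_cancel _
    have hc := hker X₁ _ hz X₁ (𝟙 _) (p' ≫ t ≫ i₁)
    rw [Category.id_comp] at hc
    have hct : (y ≫ i₁) * (p' ≫ t ≫ i₁) = (p' ≫ t ≫ i₁) * (y ≫ i₁) := by
      rw [← Category.assoc p' t i₁, ← MonObj.mul_comp, ← MonObj.mul_comp,
        MultTypeComm.points_comm (TorusQI.isMultTypeFT_of_isTorus h₁.2.2.1)]
    have key : p' ≫ x ≫ i₂ = ((p' ≫ x ≫ i₂) * (y ≫ i₁)⁻¹) * (y ≫ i₁) := (inv_mul_cancel_right _ _).symm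
    rw [← cancel_epi p', MonObj.comp_mul, MonObj.comp_mul, key, _root_.mul_assoc, hct, ← _root_.mul_assoc, hc, _root_.mul_assoc]
  obtain ⟨C, _, c, hc, hcl, hcart, i', hi', hmax, hcen⟩ := exists_cartan G h₁
  haveI := hcl; haveI := hc.1; haveI := hc.2.1; haveI := hcart.2.2.1
  haveI : QuasiCompact C.hom := by rw [← Over.w c]; infer_instance
  haveI : IsSeparated C.hom := by rw [← Over.w c]; infer_instance
  obtain ⟨i₂', hi₂'⟩ := (hc.2.2 T₂ i₂).mpr fun X x h => hcomm X x h
  obtain ⟨φ, hφ⟩ := exists_iso hmax (TorsionCent.isMaximalTorus_of_comp i₂' c (hi₂'.symm ▸ h₂)) hcen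
  exact ⟨φ.symm, by rw [← hi₂', ← hφ, Iso.symm_hom, Category.assoc, Iso.inv_hom_id_assoc, hi']⟩

/-- A maximal torus over a given one of the target descends along coverings. -/
theorem exists_descent {G G' T' : Over S} [GrpObj G] [GrpObj G'] [GrpObj T'] [Smooth G.hom] [IsSeparated G.hom]
    [QuasiCompact G.hom] (u : G ⟶ G') [IsMonHom u] (hker : CentralKer u) (i' : T' ⟶ G')
    (hT' : Red.IsMaximalTorus i') {S' : Scheme.{u}} (π : S' ⟶ S) [Surjective π] (hπ : FpqcDescLib.IsCovering π)
    {T₁ : Over S'} [GrpObj T₁] {i : T₁ ⟶ Red.bc π G} (hi : Red.IsMaximalTorus i) (v : T₁ ⟶ Red.bc π T')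
    [Surjective v.left] (hv : v ≫ (Over.pullback π).map i' = i ≫ (Over.pullback π).map u) :
    ∃ (T : Over S) (_ : GrpObj T) (t : T ⟶ G) (w : T ⟶ T'), Red.IsMaximalTorus t ∧ w ≫ i' = t ≫ u ∧
      Surjective w.left := by
  haveI := hT'.1; haveI := hT'.2.1; haveI := hi.1; haveI := hi.2.1
  haveI : (Over.pullback π).IsRightAdjoint := (Over.mapPullbackAdj π).isRightAdjoint
  haveI : Smooth (Red.bc π G).hom := inferInstanceAs (Smooth (pullback.snd G.hom π))
  haveI : IsSeparated (Red.bc π G).hom := inferInstanceAs (IsSeparated (pullback.snd G.hom π))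
  haveI : QuasiCompact (Red.bc π G).hom := inferInstanceAs (QuasiCompact (pullback.snd G.hom π))
  have hkey : ∀ (X : Scheme.{u}) (a b : X ⟶ pullback G.hom π),
      a ≫ pullback.fst G.hom π = b ≫ pullback.fst G.hom π →
        (∃ l, l ≫ i.left = a) → ∃ l, l ≫ i.left = b := by
    intro X a b hab ⟨l, hl⟩
    let σ : X ⟶ S := (a ≫ pullback.fst G.hom π) ≫ G.hom
    have ea : (a ≫ pullback.snd G.hom π) ≫ π = σ := by
      simp only [σ, Category.assoc, pullback.condition]
    have eb : (b ≫ pullback.snd G.hom π) ≫ π = σ := by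
      simp only [σ, hab]
      simp only [Category.assoc, pullback.condition]
    haveI : (Over.pullback σ).IsRightAdjoint := (Over.mapPullbackAdj σ).isRightAdjoint
    haveI : Smooth (Red.bc σ G).hom := inferInstanceAs (Smooth (pullback.snd G.hom σ))
    haveI : IsSeparated (Red.bc σ G).hom := inferInstanceAs (IsSeparated (pullback.snd G.hom σ))
    haveI : QuasiCompact (Red.bc σ G).hom := inferInstanceAs (QuasiCompact (pullback.snd G.hom σ))
    haveI := isMonHom_cmp_hom ea G
    haveI := isMonHom_cmp_hom eb G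
    let ia := (Over.pullback (a ≫ pullback.snd G.hom π)).map i ≫ (cmp ea G).hom
    let ib := (Over.pullback (b ≫ pullback.snd G.hom π)).map i ≫ (cmp eb G).hom
    let va := (Over.pullback (a ≫ pullback.snd G.hom π)).map v ≫ (cmp ea T').hom
    let vb := (Over.pullback (b ≫ pullback.snd G.hom π)).map v ≫ (cmp eb T').hom
    have hia : Red.IsMaximalTorus ia := isMaximalTorus_comp_iso (isMaximalTorus_bc hi _) (cmp ea G).hom
    have hib : Red.IsMaximalTorus ib := isMaximalTorus_comp_iso (isMaximalTorus_bc hi _) (cmp eb G).hom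
    have nat : ∀ {q : X ⟶ S'} (e : q ≫ π = σ),
        ((Over.pullback q).map v ≫ (cmp e T').hom) ≫ (Over.pullback σ).map i' =
          ((Over.pullback q).map i ≫ (cmp e G).hom) ≫ (Over.pullback σ).map u := fun {q} e => by
      rw [Category.assoc, ← MaxTorusBC.cmp_naturality e i', ← Category.assoc, ← Functor.map_comp, hv,
        Functor.map_comp, Category.assoc, MaxTorusBC.cmp_naturality e u, Category.assoc]
    haveI : Surjective va.left := by
      haveI := surjective_map v (a ≫ pullback.snd G.hom π)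
      simp only [va, Over.comp_left]
      infer_instance
    obtain ⟨φ, hφ⟩ := exists_iso_of_image ((Over.pullback σ).map u) (centralKer_bc hker σ) hia hib
      ((Over.pullback σ).map i') (SolvGrp.isTorus_bc σ hT'.2.2.1) va vb (nat ea) (nat eb)
    let la : X ⟶ (Red.bc (a ≫ pullback.snd G.hom π) T₁).left :=
      pullback.lift l (𝟙 X) (by rw [Category.id_comp, ← Over.w i, reassoc_of% hl]; rfl)
    refine ⟨la ≫ φ.hom.left ≫ pullback.fst T₁.hom _, pullback.hom_ext ?_ ?_⟩
    · rw [← hab, Category.assoc, Category.assoc, Category.assoc]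
      have e1 := congrArg (fun m => la ≫ m.left ≫ pullback.fst G.hom σ) hφ
      simp only [ib, ia, Over.comp_left, Category.assoc, GrpLimLib.cmp_hom_fst, GrpLimLib.pr] at e1
      rw [reassoc_of% GrpLimLib.map_left_fst (h := b ≫ pullback.snd G.hom π),
        reassoc_of% GrpLimLib.map_left_fst (h := a ≫ pullback.snd G.hom π)] at e1
      refine e1.trans ?_
      simp only [la, pullback.lift_fst_assoc, reassoc_of% hl]
    · rw [Category.assoc, Category.assoc, Category.assoc]
      erw [show i.left ≫ pullback.snd G.hom π = T₁.hom from Over.w i, pullback.condition]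
      erw [← Category.assoc φ.hom.left, Over.w φ.hom]
      erw [pullback.lift_snd_assoc]
      rw [Category.id_comp]
  obtain ⟨T, _, t, ht1, ht2, φ, hφ⟩ :=
    exists_descent_mono i hπ (TorusQI.isMultTypeFT_of_isTorus hi.2.2.1) hkey
  haveI := ht1; haveI := ht2
  haveI : IsMonHom φ.hom := AGFLib.isMonHom_of_mul φ.hom fun X a b => by
    rw [← cancel_mono i, Category.assoc, hφ, MonObj.mul_comp, MonObj.mul_comp, Category.assoc, Category.assoc, hφ]
  have hT : Red.IsTorus T := isTorus_of_bc π hπ φ hi.2.2.1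
  have hmax : Red.IsMaximalTorus t := by
    refine (MaxTorusBC.isMaximalTorus_bc_iff t hT π ‹_›).mpr ?_
    obtain ⟨h1, h2, h3, h4⟩ := hi
    refine ⟨inferInstance, inferInstance, SolvGrp.isTorus_bc π hT, fun s U _ j _ _ f hU hf => ?_⟩
    haveI : (Over.pullback (Red.geomPt s)).IsRightAdjoint := (Over.mapPullbackAdj (Red.geomPt s)).isRightAdjoint
    let e := (Over.pullback (Red.geomPt s)).mapIso φ
    haveI : IsIso (e.inv ≫ f) := h4 s U j (e.inv ≫ f) hU (by
      rw [Category.assoc, hf, Iso.inv_comp_eq]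
      simp only [e, Functor.mapIso_hom, ← Functor.map_comp]
      rw [hφ])
    haveI : IsIso e.inv := Iso.isIso_inv e
    exact IsIso.of_isIso_comp_left e.inv f
  -- the map to the given torus
  haveI : Mono i'.left := inferInstanceAs (Mono ((Over.forget _).map i'))
  let l : pullback T.hom π ⟶ T'.left := φ.hom.left ≫ v.left ≫ pullback.fst T'.hom π
  have hl : l ≫ i'.left = pullback.fst T.hom π ≫ (t ≫ u).left := by
    have e1 := congrArg (fun m => m.left ≫ pullback.fst G'.hom π)
      ((congrArg (φ.hom ≫ ·) hv).trans ((Category.assoc _ _ _).symm.trans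
        ((congrArg (· ≫ (Over.pullback π).map u) hφ).trans ((Over.pullback π).map_comp t u).symm)))
    simp only [Over.comp_left, Category.assoc, GrpLimLib.map_left_fst] at e1 ⊢
    simpa only [l, Category.assoc] using e1
  have hcov := (FpqcDescLib.covers_of_isCovering hπ).pullback T.hom (pullback.fst T.hom π)
    (pullback.snd T.hom π) (IsPullback.of_hasPullback T.hom π)
  obtain ⟨w, hw, -⟩ := hcov.desc l fun Y a b e => by
    rw [← cancel_mono i'.left, Category.assoc a, Category.assoc b, hl, reassoc_of% e]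
  haveI := hcov.epi
  have hwi : w ≫ i'.left = (t ≫ u).left := by rw [← cancel_epi (pullback.fst T.hom π), reassoc_of% hw, hl]
  let w' : T ⟶ T' := Over.homMk w (by
    show w ≫ T'.hom = T.hom
    rw [← Over.w i', reassoc_of% hwi, Over.w (t ≫ u)])
  refine ⟨T, inferInstance, t, w', hmax, Over.OverMorphism.ext hwi, ?_⟩
  haveI : Surjective l := by
    haveI : IsIso φ.hom.left := inferInstanceAs (IsIso ((Over.forget _).map φ.hom))
    haveI : Surjective (pullback.fst T'.hom π) := inferInstance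
    infer_instance
  haveI : Surjective (pullback.fst T.hom π ≫ w) := by rw [hw]; infer_instance
  exact Surjective.of_comp (pullback.fst T.hom π) w

/-- Lift a conjugating point. -/
theorem exists_lift_conj {G G' : Over S} [GrpObj G] [GrpObj G'] [Smooth G.hom] [IsSeparated G.hom]
    [QuasiCompact G.hom] [IsSeparated G'.hom] (u : G ⟶ G') [IsMonHom u] [Surjective u.left] [Flat u.left]
    (hker : CentralKer u) {T₀ T'₀ T' : Over S} [GrpObj T₀] [GrpObj T'₀] [GrpObj T'] {i₀ : T₀ ⟶ G}
    (h₀ : Red.IsMaximalTorus i₀) {i'₀ : T'₀ ⟶ G'} {i' : T' ⟶ G'} (h' : Red.IsMaximalTorus i')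
    (v₀ : T₀ ⟶ T'₀) [Surjective v₀.left] (e₀ : v₀ ≫ i'₀ = i₀ ≫ u) {sec : 𝟙_ (Over S) ⟶ G'}
    (hsec : SGA3x.ConjBy i'₀ i' sec) :
    ∃ (T : Over S) (_ : GrpObj T) (t : T ⟶ G) (w : T ⟶ T'), Red.IsMaximalTorus t ∧ w ≫ i' = t ≫ u ∧
      Surjective w.left := by
  obtain ⟨ψ, hψ⟩ := hsec
  haveI : QuasiCompact (u.left ≫ G'.hom) := by rw [Over.w]; infer_instance
  haveI : QuasiCompact u.left := QuasiCompact.of_comp u.left G'.hom
  let p : pullback sec.left u.left ⟶ S := pullback.fst sec.left u.left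
  haveI : Surjective p := inferInstanceAs (Surjective (pullback.fst sec.left u.left))
  haveI : Flat p := inferInstanceAs (Flat (pullback.fst sec.left u.left))
  haveI : QuasiCompact p := inferInstanceAs (QuasiCompact (pullback.fst sec.left u.left))
  haveI : (Over.pullback p).IsRightAdjoint := (Over.mapPullbackAdj p).isRightAdjoint
  haveI : Smooth (Red.bc p G).hom := inferInstanceAs (Smooth (pullback.snd G.hom p))
  haveI : IsSeparated (Red.bc p G).hom := inferInstanceAs (IsSeparated (pullback.snd G.hom p))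
  haveI : QuasiCompact (Red.bc p G).hom := inferInstanceAs (QuasiCompact (pullback.snd G.hom p))
  obtain ⟨gm, hgm⟩ := TorsionCent.exists_pt p (X := G) (pullback.snd sec.left u.left) (by
    rw [← Over.w u, ← pullback.condition_assoc, Over.w sec]
    exact Category.comp_id _)
  let t₁ := (Over.pullback p).map i₀ ≫ conjEnd gm
  let w₁ := (Over.pullback p).map (v₀ ≫ ψ.hom)
  haveI : Surjective (v₀ ≫ ψ.hom).left := by rw [Over.comp_left]; infer_instance
  haveI : Surjective w₁.left := surjective_map _ p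
  refine exists_descent u hker i' h' p (FpqcDescLib.isCovering_of_quasiCompact p)
    (isMaximalTorus_comp_iso (isMaximalTorus_bc h₀ p) (conjEnd gm)) w₁ ?_
  refine (DSPtsLib.theta_bijective p).1 ?_
  simp only [w₁, comp_conjEnd, TorsionCent.theta_map', DSPtsLib.theta_mul, MaxTorCent.theta_inv, MonObj.mul_comp,
    GrpObj.inv_comp]
  let k : (Over.map p).obj (Red.bc p T₀) ⟶ T₀ := DSPtsLib.theta p (𝟙 _)
  have hk : ∀ {H : Over S} (h : T₀ ⟶ H), DSPtsLib.theta p ((Over.pullback p).map h) = k ≫ h := fun h => by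
    rw [← TorsionCent.theta_map', Category.id_comp]
  have hsecgm : DSPtsLib.theta p (toUnit (Red.bc p T₀) ≫ gm) ≫ u = k ≫ toUnit T₀ ≫ sec := by
    refine Over.OverMorphism.ext ?_
    simp only [Over.comp_left, DSPtsLib.theta_left, Category.assoc]
    rw [DSPtsLib.theta_left] at hgm
    rw [reassoc_of% hgm, ← pullback.condition]
    show (Red.bc p T₀).hom ≫ p ≫ sec.left = k.left ≫ T₀.hom ≫ sec.left
    simp only [k, DSPtsLib.theta_left, Over.id_left, Category.id_comp, Category.assoc]
    exact (reassoc_of% (pullback.condition (f := T₀.hom) (g := p)).symm) sec.left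
  rw [hk, hk, hsecgm]
  simp only [Category.assoc]
  rw [← hψ, MonObj.comp_mul, MonObj.comp_mul, GrpObj.comp_inv, MonObj.comp_mul, MonObj.comp_mul, GrpObj.comp_inv,
    ← Category.assoc v₀, toUnit_unique (v₀ ≫ toUnit T'₀) (toUnit T₀), e₀]

/-- Every maximal torus of the target is the image of one of the source. -/
theorem exists_preimage {G G' : Over S} [GrpObj G] [GrpObj G'] [Smooth G.hom] [IsSeparated G.hom]
    [QuasiCompact G.hom] [Smooth G'.hom] [IsSeparated G'.hom] [QuasiCompact G'.hom]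
    (hG : SGA3x.HasMaxTorusFpqcLocally G) (u : G ⟶ G') [IsMonHom u] [Surjective u.left]
    (hker : CentralKer u) {T' : Over S} [GrpObj T'] {i' : T' ⟶ G'} (hT' : Red.IsMaximalTorus i') :
    ∃ (T : Over S) (_ : GrpObj T) (t : T ⟶ G) (w : T ⟶ T'), Red.IsMaximalTorus t ∧ w ≫ i' = t ≫ u ∧
      Surjective w.left := by
  obtain ⟨S₁, f, hfe, hfs, T₀, _, i₀, hi₀⟩ := TorsionCent.etale_locally hG
  haveI := hfe; haveI := hfs
  haveI : (Over.pullback f).IsRightAdjoint := (Over.mapPullbackAdj f).isRightAdjoint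
  haveI : Smooth (Red.bc f G).hom := inferInstanceAs (Smooth (pullback.snd G.hom f))
  haveI : IsSeparated (Red.bc f G).hom := inferInstanceAs (IsSeparated (pullback.snd G.hom f))
  haveI : QuasiCompact (Red.bc f G).hom := inferInstanceAs (QuasiCompact (pullback.snd G.hom f))
  haveI : Smooth (Red.bc f G').hom := inferInstanceAs (Smooth (pullback.snd G'.hom f))
  haveI : IsSeparated (Red.bc f G').hom := inferInstanceAs (IsSeparated (pullback.snd G'.hom f))
  haveI : QuasiCompact (Red.bc f G').hom := inferInstanceAs (QuasiCompact (pullback.snd G'.hom f))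
  let u₁ := (Over.pullback f).map u
  haveI : Surjective u₁.left := surjective_map u f
  obtain ⟨T'₀, _, i'₀, v₀, h'₀, hv₀, e₀, -, hv₀s, -⟩ :=
    MultTypeImage.exists_maximalTorus_image u₁ (fun s => surjective_map u₁ (Red.geomPt s)) hi₀
  haveI := hv₀s
  have h'₁ := isMaximalTorus_bc hT' f
  obtain ⟨S₂, g, hge, hgs, sec, hsec⟩ := exists_etale_conjBy h'₀ h'₁
  haveI := hge; haveI := hgs
  haveI : (Over.pullback g).IsRightAdjoint := (Over.mapPullbackAdj g).isRightAdjoint
  haveI : Smooth (Red.bc g (Red.bc f G)).hom := inferInstanceAs (Smooth (pullback.snd (Red.bc f G).hom g))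
  haveI : IsSeparated (Red.bc g (Red.bc f G)).hom := inferInstanceAs (IsSeparated (pullback.snd (Red.bc f G).hom g))
  haveI : QuasiCompact (Red.bc g (Red.bc f G)).hom :=
    inferInstanceAs (QuasiCompact (pullback.snd (Red.bc f G).hom g))
  haveI : Smooth (Red.bc g (Red.bc f G')).hom := inferInstanceAs (Smooth (pullback.snd (Red.bc f G').hom g))
  haveI : IsSeparated (Red.bc g (Red.bc f G')).hom :=
    inferInstanceAs (IsSeparated (pullback.snd (Red.bc f G').hom g))
  let u₂ := (Over.pullback g).map u₁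
  haveI : Surjective u₂.left := surjective_map u₁ g
  haveI : GeometricallyReduced (Red.bc g (Red.bc f G')).hom := IsogenyFibre.geometricallyReduced_of_smooth' _
  haveI : Flat u₂.left := (HomFlatLft.flat_hom u₂).1
  haveI := surjective_map v₀ g
  obtain ⟨T₂, _, t₂, w₂, ht₂, hw₂, hw₂s⟩ := exists_lift_conj u₂ (centralKer_bc (centralKer_bc hker f) g)
    (isMaximalTorus_bc hi₀ g) (isMaximalTorus_bc h'₁ g) ((Over.pullback g).map v₀)
    (by rw [← Functor.map_comp, e₀, Functor.map_comp]) hsec
  haveI := hw₂s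
  obtain ⟨T₁, _, t₁, w₁, ht₁, hw₁, hw₁s⟩ :=
    exists_descent u₁ (centralKer_bc hker f) _ h'₁ g (FpqcDescLib.isCovering_of_lfp g) ht₂ w₂ hw₂
  haveI := hw₁s
  exact exists_descent u hker i' hT' f (FpqcDescLib.isCovering_of_lfp f) ht₁ w₁ hw₁

end Groth.Agent.RedRank.ImageBij
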