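import Groth.Agent.RedCentre.Main
import Groth.Agent.MultTypeExt.Torsion
import Groth.Agent.SubgroupNbhd.Contain
import Groth.Agent.S3025
import Groth.Agent.GrpSchLib.SmoothReduced
import Mathlib.AlgebraicGeometry.ValuativeCriterion
import Mathlib.AlgebraicGeometry.ZariskisMainTheorem

/-!
# A quasi-finite normal closed subgroup is finite when the centre is of multiplicative type
-/

universe u

open CategoryTheory CategoryTheory.Limits MonoidalCategory CartesianMonoidalCategory MonObj AlgebraicGeometry
open Groth.Agent.GrpSchLib (isReduced_of_smooth_field)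

set_option backward.isDefEq.respectTransparency false
set_option backward.isDefEq.respectTransparency.types false
set_option linter.style.haveILetI false
set_option synthInstance.maxHeartbeats 200000
set_option maxHeartbeats 1000000
set_option autoImplicit false

namespace Groth.Agent.RedRank.KernelFinite

/-- A map from a reduced scheme which is constant at a rational point of a separated scheme is the constant map. -/
theorem eq_of_const {X Y : Scheme.{u}} {F : Type u} [Field F] (p : X ⟶ Spec (CommRingCat.of F))
    (q : Y ⟶ Spec (CommRingCat.of F)) [IsReduced X] [IsSeparated q] (gm : X ⟶ Y) (hgm : gm ≫ q = p)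
    (σ : Spec (CommRingCat.of F) ⟶ Y) (hσ : σ ≫ q = 𝟙 _)
    (h : ∀ x, gm x = σ (IsLocalRing.closedPoint F)) : gm = p ≫ σ := by
  haveI : IsClosedImmersion (σ ≫ q) := by rw [hσ]; infer_instance
  haveI : IsClosedImmersion σ := IsClosedImmersion.of_comp σ q
  let i := pullback.snd σ gm
  haveI : Surjective i := ⟨fun x => by
    show x ∈ Set.range i
    rw [Scheme.Pullback.range_snd]
    exact ⟨_, (h x).symm⟩⟩
  haveI : IsIso i := isIso_of_isClosedImmersion_of_surjective i
  have hi : i ≫ p = pullback.fst σ gm := by
    rw [← hgm, ← Category.assoc, ← pullback.condition, Category.assoc, hσ, Category.comp_id]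
  rw [← cancel_epi i, ← Category.assoc, hi, pullback.condition]

/-- A map from a reduced connected scheme with a rational point to a quasi-finite one is constant. -/
theorem const_of_connected {X Y : Scheme.{u}} {F : Type u} [Field F] (p : X ⟶ Spec (CommRingCat.of F))
    (q : Y ⟶ Spec (CommRingCat.of F)) [IsReduced X] [ConnectedSpace X] [IsSeparated q] [LocallyQuasiFinite q]
    (gm : X ⟶ Y) (hgm : gm ≫ q = p) (e : Spec (CommRingCat.of F) ⟶ X) (he : e ≫ p = 𝟙 _) :
    gm = p ≫ e ≫ gm := by
  refine eq_of_const p q gm hgm (e ≫ gm) (by rw [Category.assoc, hgm, he]) fun x => ?_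
  have hd : _root_.IsDiscrete (q ⁻¹' {IsLocalRing.closedPoint F}) := q.isDiscrete_preimage_singleton _
  refine (isPreconnected_range gm.continuous).constant_of_mapsTo hd continuousOn_id
    (fun z _ => @Subsingleton.elim (PrimeSpectrum F) _ _ _) ⟨x, rfl⟩ ⟨_, rfl⟩

variable {S : Scheme.{u}}

/-- A field valued point of a quasi-finite separated group has finite order. -/
theorem exists_pow_eq_one {K : Over S} [GrpObj K] [IsSeparated K.hom] [LocallyQuasiFinite K.hom] [QuasiCompact K.hom]
    {F : Type u} [Field F] (b : Spec (CommRingCat.of F) ⟶ S) (x : Over.mk b ⟶ K) :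
    ∃ n : ℕ, 0 < n ∧ x ^ n = 1 := by
  let b' : Spec (CommRingCat.of F) ⟶ S := b
  let q := pullback.snd K.hom b'
  let sec : (Over.mk b ⟶ K) → (Spec (CommRingCat.of F) ⟶ pullback K.hom b') := fun y =>
    pullback.lift y.left (𝟙 _) (by rw [Over.w y]; exact (Category.id_comp _).symm)
  haveI : Finite ↥(pullback K.hom b') :=
    Set.finite_univ_iff.mp ((q.finite_preimage_singleton (IsLocalRing.closedPoint F)).subset
      fun x _ => @Subsingleton.elim (PrimeSpectrum F) _ _ _)
  haveI : Finite (Over.mk b ⟶ K) := by
    refine Finite.of_injective (fun y => sec y (IsLocalRing.closedPoint F)) fun y z hyz => ?_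
    have h := eq_of_const (𝟙 _) q (sec y) (pullback.lift_snd _ _ _) (sec z) (pullback.lift_snd _ _ _) fun t => by
      rw [show t = IsLocalRing.closedPoint F from @Subsingleton.elim (PrimeSpectrum F) _ _ _]
      exact hyz
    rw [Category.id_comp] at h
    refine Over.OverMorphism.ext ?_
    have h1 := congrArg (· ≫ pullback.fst K.hom b') h
    simpa only [sec, pullback.lift_fst] using h1
  exact ⟨Nat.card (Over.mk b ⟶ K), Nat.card_pos, pow_card_eq_one'⟩

variable {G K : Over S} [GrpObj G] [GrpObj K] [Smooth G.hom]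

/-- A field valued point of a quasi-finite normal closed subgroup commutes with the group. -/
theorem commute_of_normal (hconn : ∀ s : S, _root_.IsConnected (G.hom.base ⁻¹' {s})) (k : K ⟶ G) [IsMonHom k] [Mono k]
    (hKn : AlgGrp.IsNormalHom k) [IsSeparated K.hom] [LocallyQuasiFinite K.hom]
    {F : Type u} [Field F] (b : Spec (CommRingCat.of F) ⟶ S) (x : Over.mk b ⟶ K)
    (X : Over S) (t : X ⟶ Over.mk b) (y : X ⟶ G) :
    (t ≫ x ≫ k) * y = y * (t ≫ x ≫ k) := by
  let P : Over S := Over.mk b
  obtain ⟨n', hn'⟩ := hKn (P ⊗ G) (snd P G) (fst P G ≫ x)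
  let p : (P ⊗ G).left ⟶ Spec (CommRingCat.of F) := (fst P G).left
  let q : (P ⊗ K).left ⟶ Spec (CommRingCat.of F) := (fst P K).left
  have hp : p = pullback.fst b G.hom := rfl
  have hq : q = pullback.fst b K.hom := rfl
  haveI : Smooth p := by rw [hp]; infer_instance
  haveI : IsSeparated q := by rw [hq]; infer_instance
  haveI : LocallyQuasiFinite q := by rw [hq]; infer_instance
  haveI : IsReduced (P ⊗ G).left := isReduced_of_smooth_field p
  haveI : ConnectedSpace ↥(P ⊗ G).left := by
    have h := RedCentre.isConnected_fibre_bc b G hconn (IsLocalRing.closedPoint F)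
    rw [show (Red.bc b G).hom.base ⁻¹' {IsLocalRing.closedPoint F} = Set.univ from
      Set.eq_univ_of_forall fun z => @Subsingleton.elim (PrimeSpectrum F) _ _ _, ← connectedSpace_iff_univ] at h
    haveI : ConnectedSpace ↥(pullback G.hom b) := h
    exact (pullbackSymmetry G.hom b).hom.homeomorph.surjective.connectedSpace
      (pullbackSymmetry G.hom b).hom.homeomorph.continuous
  let gm : P ⊗ G ⟶ P ⊗ K := lift (fst P G) n'
  let e : P ⟶ P ⊗ G := lift (𝟙 P) 1
  have hgm : gm.left = p ≫ e.left ≫ gm.left :=
    const_of_connected p q gm.left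
      (by rw [← Over.comp_left, show gm ≫ fst P K = fst P G from lift_fst _ _])
      e.left (by rw [← Over.comp_left, show e ≫ fst P G = 𝟙 P from lift_fst _ _]; rfl)
  have hgm' : gm = fst P G ≫ e ≫ gm := Over.OverMorphism.ext hgm
  have hn : n' = fst P G ≫ x := by
    have h1 := congrArg (· ≫ snd P K) hgm'
    simp only [gm, Category.assoc, lift_snd] at h1
    rw [h1]
    congr 1
    rw [← cancel_mono k, Category.assoc, ← hn']
    simp [e, MonObj.comp_mul, GrpObj.comp_inv]
  rw [hn] at hn'
  have h := congrArg (lift t y ≫ ·) hn'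
  simp only [MonObj.comp_mul, GrpObj.comp_inv, Category.assoc] at h
  erw [lift_fst_assoc, lift_snd] at h
  rw [mul_inv_eq_iff_eq_mul] at h
  exact h.symm

/-- A quasi-finite closed normal subgroup of a smooth group with connected fibres and centre of multiplicative
type is finite. -/
theorem isFinite (hconn : ∀ s : S, _root_.IsConnected (G.hom.base ⁻¹' {s})) {Z : Over S} [GrpObj Z] (j : Z ⟶ G)
    (hZ : Red.IsCentre j) (hZm : SGA3x.IsMultTypeFT Z) (k : K ⟶ G) [IsMonHom k] [IsClosedImmersion k.left]
    (hKn : AlgGrp.IsNormalHom k) [LocallyQuasiFinite K.hom] [QuasiCompact K.hom] : IsFinite K.hom := by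
  haveI := hZ.1; haveI := hZ.2.1
  haveI : IsSeparated G.hom := (S3025.result S G hconn).1
  haveI : Mono k := Over.mono_of_mono_left _
  haveI : IsSeparated K.hom := by rw [← Over.w k]; infer_instance
  haveI : LocallyOfFiniteType K.hom := by rw [← Over.w k]; infer_instance
  haveI : UniversallyClosed K.hom := by
    rw [UniversallyClosed.eq_valuativeCriterion]
    refine ⟨fun sq => ?_, ‹QuasiCompact K.hom›⟩
    obtain ⟨R, F, i₁, i₂, ⟨w⟩⟩ := sq
    let gen : Spec (CommRingCat.of F) ⟶ Spec (CommRingCat.of R) := Spec.map (CommRingCat.ofHom (algebraMap R F))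
    let x : Over.mk (gen ≫ i₂) ⟶ K := Over.homMk i₁ w
    obtain ⟨n, hn0, hxn⟩ := exists_pow_eq_one (gen ≫ i₂) x
    obtain ⟨z, hz⟩ := (hZ.2.2 _ (x ≫ k)).mpr fun X t y => by
      rw [Category.comp_id]
      exact commute_of_normal hconn k hKn (gen ≫ i₂) x X t y
    have hzn : z ^ n = 1 := by
      rw [← cancel_mono j, MonObj.one_comp, TorusQI.npow_comp, hz, ← TorusQI.npow_comp, hxn, MonObj.one_comp]
    -- extend the point of the centre over the valuation ring
    let ZR := Red.bc i₂ Z
    haveI := MultTypeExt.isFinite_npow ZR (GrpSchLib.MultTypeBC.isMultTypeFT_bc i₂ hZm) n hn0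
    let φ : ZR ⟶ ZR := (𝟙 ZR) ^ n
    haveI : IsFinite φ.left := ‹_›
    let Y : Over (Spec (CommRingCat.of R)) := Over.mk gen
    let z' : Y ⟶ ZR := Over.homMk (pullback.lift z.left gen (Over.w z)) (pullback.lift_snd _ _ _)
    have hθ : DSPtsLib.theta i₂ z' = z := Over.OverMorphism.ext (pullback.lift_fst _ _ _)
    have hz'φ : z' ≫ φ = 1 := by
      rw [TorusQI.comp_npow, Category.comp_id]
      refine (DSPtsLib.theta_bijective (g := i₂) (Y := Y) (H := Z)).1 ?_
      have hp := map_pow (MonoidHom.mk' (DSPtsLib.theta i₂ (Y := Y) (H := Z)) (DSPtsLib.theta_mul i₂)) z' n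
      rw [GrpSchLib.HomUnitLocus.theta_one]
      exact (hp.trans (by rw [MonoidHom.mk'_apply, hθ])).trans hzn
    have hex : ValuativeCriterion.Existence φ.left := by
      have h : UniversallyClosed φ.left := inferInstance
      rw [UniversallyClosed.eq_valuativeCriterion] at h
      exact h.1
    obtain ⟨l, hl₁, hl₂⟩ := (hex
      { R := R, K := F, i₁ := z'.left, i₂ := η[ZR].left,
        commSq := ⟨(congrArg CommaMorphism.left hz'φ).trans (by rfl)⟩ }).exists_lift
    have hl : l ≫ ZR.hom = 𝟙 _ := by
      rw [← Over.w φ, ← Category.assoc, hl₂]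
      exact Over.w η[ZR]
    let zR : Over.mk i₂ ⟶ Z := Over.homMk (l ≫ pullback.fst Z.hom i₂) (by
      show (l ≫ pullback.fst Z.hom i₂) ≫ Z.hom = i₂
      rw [Category.assoc, pullback.condition, ← Category.assoc]
      exact (congrArg (· ≫ i₂) hl).trans (Category.id_comp _))
    let r : Over.mk (gen ≫ i₂) ⟶ Over.mk i₂ := Over.homMk gen rfl
    have hr : r ≫ zR = z := by
      refine Over.OverMorphism.ext ?_
      show gen ≫ l ≫ pullback.fst Z.hom i₂ = z.left
      rw [← Category.assoc, hl₁]
      exact pullback.lift_fst _ _ _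
    -- it lies in the closed subgroup
    let g := (zR ≫ j).left
    have hgen : gen ≫ g = i₁ ≫ k.left := by
      have h := congrArg CommaMorphism.left (show r ≫ zR ≫ j = x ≫ k by rw [reassoc_of% hr, hz])
      exact h
    let c := pullback.fst g k.left
    haveI : Surjective c := ⟨fun y => by
      show y ∈ Set.range c
      refine (IsClosedImmersion.base_closed (f := c)).isClosed_range.closure_subset_iff.mpr ?_ (?_ : y ∈ closure {gen (IsLocalRing.closedPoint F)})
      · rw [Set.singleton_subset_iff]
        refine ⟨pullback.lift gen i₁ hgen (IsLocalRing.closedPoint F), ?_⟩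
        show (pullback.lift gen i₁ hgen ≫ c) (IsLocalRing.closedPoint F) = gen (IsLocalRing.closedPoint F)
        exact congrArg (fun m : Spec (CommRingCat.of F) ⟶ Spec (CommRingCat.of R) => m (IsLocalRing.closedPoint F)) (pullback.lift_fst _ _ _)
      · rw [← specializes_iff_mem_closure]
        have hbot : (gen (IsLocalRing.closedPoint F)).asIdeal = ⊥ := by
          show Ideal.comap (algebraMap R F) (IsLocalRing.maximalIdeal F) = ⊥
          rw [IsLocalRing.maximalIdeal_eq_bot]
          exact (RingHom.injective_iff_ker_eq_bot _).mp (IsFractionRing.injective R F)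
        exact (PrimeSpectrum.le_iff_specializes _ _).mp (show (gen (IsLocalRing.closedPoint F)).asIdeal ≤ y.asIdeal by
          rw [hbot]; exact bot_le)⟩
    haveI : IsReduced (Over.mk i₂).left := inferInstanceAs (IsReduced (Spec (CommRingCat.of R)))
    haveI : IsIso c := isIso_of_isClosedImmersion_of_surjective c
    refine ⟨⟨inv c ≫ pullback.snd g k.left, ?_, ?_⟩⟩
    · rw [← cancel_mono k.left, Category.assoc, Category.assoc, ← pullback.condition, IsIso.inv_hom_id_assoc]
      exact hgen
    · refine (Category.assoc _ _ _).trans ?_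
      refine (congrArg (inv c ≫ pullback.snd g k.left ≫ ·) (Over.w k).symm).trans ?_
      show inv c ≫ pullback.snd g k.left ≫ k.left ≫ G.hom = i₂
      rw [← pullback.condition_assoc, IsIso.inv_hom_id_assoc]
      exact Over.w (zR ≫ j)
  haveI : IsProper K.hom := { }
  exact IsFinite.of_isProper_of_locallyQuasiFinite K.hom

end Groth.Agent.RedRank.KernelFinite
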