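import Groth.Agent.HomRepLib.FiniteRep
import Groth.Agent.EtFound.Descent
import Groth.Agent.MultTypeQI.EtaleLocal
import Mathlib.AlgebraicGeometry.Morphisms.QuasiFinite

/-!
# A quasi-finite group of multiplicative type is finite
-/

universe u

open CategoryTheory CategoryTheory.Limits MonoidalCategory CartesianMonoidalCategory MonObj AlgebraicGeometry

set_option backward.isDefEq.respectTransparency false
set_option backward.isDefEq.respectTransparency.types false
set_option linter.style.haveILetI false
set_option synthInstance.maxHeartbeats 200000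
set_option autoImplicit false

namespace Groth.Agent.RedRank.MultFinite

open GrpSchLib

/-- A finite character group gives a finite diagonalisable group. -/
theorem isFinite_DS (U : Scheme.{u}) (M : Type) [AddCommGroup M] [Finite M] : IsFinite (Red.DS U M).hom := by
  haveI : IsFinite (Red.diag (ULift.{u} ℤ) M).hom := by
    show IsFinite (Spec.map (CommRingCat.ofHom (algebraMap (ULift.{u} ℤ) (MonoidAlgebra (ULift.{u} ℤ) (Multiplicative M)))))
    rw [IsFinite.SpecMap_iff]
    exact RingHom.finite_algebraMap.mpr (Module.Finite.of_basis (MonoidAlgebra.basis (Multiplicative M) (ULift.{u} ℤ)))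
  exact inferInstanceAs (IsFinite (pullback.snd (Red.diag (ULift.{u} ℤ) M).hom _))

/-- A quasi-finite diagonalisable group over a non-empty base has a finite character group. -/
theorem finite_of_quasiFinite_DS {U : Scheme.{u}} (x : U) (M : Type) [AddCommGroup M]
    [LocallyQuasiFinite (Red.DS U M).hom] [QuasiCompact (Red.DS U M).hom] : Finite M := by
  let t := U.fromSpecResidueField x
  obtain ⟨e⟩ := GrpSchLib.MultTypeBC.bc_DS t M
  let ei : Red.bc t (Red.DS U M) ≅ Red.DS (Spec (U.residueField x)) M := (Grp.forget _).mapIso e
  haveI : LocallyQuasiFinite (Red.bc t (Red.DS U M)).hom :=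
    inferInstanceAs (LocallyQuasiFinite (pullback.snd (Red.DS U M).hom t))
  haveI : QuasiCompact (Red.bc t (Red.DS U M)).hom :=
    inferInstanceAs (QuasiCompact (pullback.snd (Red.DS U M).hom t))
  haveI : IsFinite (Red.bc t (Red.DS U M)).hom := IsFinite.of_locallyQuasiFinite _
  haveI : IsFinite (Red.DS (Spec (U.residueField x)) M).hom := by
    rw [← Over.w ei.inv]
    exact MorphismProperty.comp_mem @IsFinite _ _ (inferInstanceAs (IsFinite ei.inv.left)) inferInstance
  exact HomRepLib.finite_of_isFinite_DS (U := Spec (U.residueField x)) (IsLocalRing.closedPoint (U.residueField x)) M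

/-- A quasi-finite group of multiplicative type is finite. -/
theorem isFinite {S : Scheme.{u}} {K : Over S} [GrpObj K] (hK : SGA3x.IsMultTypeFT K) [LocallyQuasiFinite K.hom]
    [QuasiCompact K.hom] : IsFinite K.hom := by
  choose S' f hf hy M iM hM e using fun x => MultTypeQI.etale_locally_diag hK x
  haveI : ∀ x, Etale (f x) := hf
  haveI := EtFound.fpqc_isFinite.{u}
  refine HomRepLib.prop_of_etale_cover @IsFinite f (fun x => ⟨x, hy x⟩) K.hom fun x => ?_
  let ei : Red.bc (f x) K ≅ Red.DS (S' x) (M x) := (Grp.forget _).mapIso (e x).some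
  haveI : LocallyQuasiFinite (Red.bc (f x) K).hom := inferInstanceAs (LocallyQuasiFinite (pullback.snd K.hom (f x)))
  haveI : QuasiCompact (Red.bc (f x) K).hom := inferInstanceAs (QuasiCompact (pullback.snd K.hom (f x)))
  haveI : LocallyQuasiFinite (Red.DS (S' x) (M x)).hom := by rw [← Over.w ei.inv]; infer_instance
  haveI : QuasiCompact (Red.DS (S' x) (M x)).hom := by rw [← Over.w ei.inv]; infer_instance
  obtain ⟨y, -⟩ := hy x
  haveI := finite_of_quasiFinite_DS y (M x)
  haveI := isFinite_DS (S' x) (M x)
  show IsFinite (Red.bc (f x) K).hom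
  rw [← Over.w ei.hom]
  infer_instance

end Groth.Agent.RedRank.MultFinite
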