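import Groth.Agent.RedRank.CentDim
import Groth.Agent.S5330

/-!
# The nilpotent rank of a smooth affine group is upper semicontinuous
-/

universe u

open CategoryTheory CategoryTheory.Limits MonoidalCategory CartesianMonoidalCategory MonObj AlgebraicGeometry

set_option backward.isDefEq.respectTransparency false
set_option backward.isDefEq.respectTransparency.types false
set_option linter.style.haveILetI false
set_option synthInstance.maxHeartbeats 200000
set_option maxHeartbeats 1000000
set_option autoImplicit false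

namespace Groth.Agent.RedRank.NilRank

open GrpSchLib MaxTorCent MaxTorTransp
open GrpLimLib (cmp)

variable {S : Scheme.{u}}

/-- The dimension of the fibre at a field-valued point. -/
theorem dim_bc (C : Over S) [LocallyOfFiniteType C.hom] {K : Type u} [Field K] (b : Spec (CommRingCat.of K) ⟶ S)
    (s : S) (hs : b (IsLocalRing.closedPoint K) = s) :
    topologicalKrullDim (Red.bc b C).left = topologicalKrullDim ↥(C.hom.base ⁻¹' {s}) := by
  obtain ⟨τ, -, hτ⟩ := exists_residue_lift b s hs
  subst hτ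
  let p := pullback.snd C.hom (S.fromSpecResidueField s)
  haveI : LocallyOfFiniteType p := MorphismProperty.pullback_snd (P := @LocallyOfFiniteType) _ _ inferInstance
  haveI : LocallyOfFiniteType (pullback.snd p τ) := inferInstance
  haveI : Subsingleton ↥(Spec (CommRingCat.of K)) := inferInstanceAs (Subsingleton (PrimeSpectrum K))
  let e := pullbackLeftPullbackSndIso C.hom (S.fromSpecResidueField s) τ
  calc topologicalKrullDim (Red.bc (τ ≫ S.fromSpecResidueField s) C).left
      = topologicalKrullDim ↥(pullback p τ) :=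
        (IsHomeomorph.topologicalKrullDim_eq _ e.inv.homeomorph.isHomeomorph)
    _ = topologicalKrullDim ↥(C.hom.fiber s) :=
        FibDim.topologicalKrullDim_baseChange (IsPullback.of_hasPullback p τ)
    _ = topologicalKrullDim ↥(C.hom.base ⁻¹' {s}) :=
        IsHomeomorph.topologicalKrullDim_eq _ (C.hom.fiberHomeo s).isHomeomorph

/-- The fibre dimension of a smooth group is locally constant. -/
theorem exists_nhd_dim (C : Over S) [GrpObj C] [Smooth C.hom] (s : S) :
    ∃ U : S.Opens, s ∈ U ∧ ∀ t ∈ U,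
      topologicalKrullDim ↥(C.hom.base ⁻¹' {t}) = topologicalKrullDim ↥(C.hom.base ⁻¹' {s}) := by
  obtain ⟨W, hW, hd⟩ := (Groth.Agent.S5330.result S C s).2.mp fun x _ Y g x' _ U hU => by
    haveI : UniversallyOpen (pullback.snd C.hom g) := inferInstance
    exact (pullback.snd C.hom g).isOpenMap.image_mem_nhds hU
  obtain ⟨U, hUW, hU, hsU⟩ := mem_nhds_iff.mp hW
  exact ⟨⟨U, hU⟩, hsU, fun t ht => hd t (hUW ht)⟩

variable {G : Over S} [GrpObj G] [IsAffineHom G.hom] [Smooth G.hom]

/-- Cartan subgroups of a geometric fibre all have the dimension of the centraliser of any maximal torus. -/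
theorem dim_cartan_eq {k : Type u} [Field k] [IsAlgClosed k] {G T C C' : Over (Spec (CommRingCat.of k))} [GrpObj G]
    [GrpObj T] [GrpObj C] [GrpObj C'] [IsAffine G.left] [Smooth G.hom] {i : T ⟶ G} (hi : Red.IsMaximalTorus i)
    {c : C ⟶ G} (hc : Red.IsCentralizerOf i c) {c' : C' ⟶ G} (hC' : SGA3x.IsCartanOver k c') :
    topologicalKrullDim C'.left = topologicalKrullDim C.left := by
  haveI := hi.1; haveI := hi.2.1; haveI := hc.1; haveI := hc.2.1
  obtain ⟨h1, h2, U, _, u, hU, hcen⟩ := id hC'
  haveI := hU.1; haveI := hU.2.1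
  refine le_antisymm (CentDim.dim_cartan_le i hi.2.2.1 hc hC') ?_
  exact CentDim.dim_cartan_le u hU.2.2.1 hcen ⟨hc.1, hc.2.1, T, inferInstance, i, hi, hc⟩

/-- Near a point, on each geometric fibre a torus with centraliser of the same dimension as the Cartan subgroups
at that point. -/
theorem exists_nhd_le (s : S) {C' : Over (Spec (CommRingCat.of (AlgebraicClosure (S.residueField s))))} [GrpObj C']
    {c' : C' ⟶ Red.geomFibre s G} (hC' : SGA3x.IsCartanOver (AlgebraicClosure (S.residueField s)) c') :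
    ∃ U : S.Opens, s ∈ U ∧ ∀ t ∈ U, ∀ (D : Over (Spec (CommRingCat.of (AlgebraicClosure (S.residueField t)))))
      [GrpObj D] (d : D ⟶ Red.geomFibre t G), SGA3x.IsCartanOver (AlgebraicClosure (S.residueField t)) d →
        topologicalKrullDim ↥D.left ≤ topologicalKrullDim ↥C'.left := by
  let b := Red.geomPt s
  haveI : IsAffineHom (pullback.snd G.hom b) := MorphismProperty.pullback_snd (P := @IsAffineHom) _ _ inferInstance
  haveI : IsAffine (Red.geomFibre s G).left := isAffine_of_isAffineHom (pullback.snd G.hom b)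
  haveI : Smooth (Red.geomFibre s G).hom := inferInstanceAs (Smooth (pullback.snd G.hom b))
  haveI : QuasiCompact (Red.geomFibre s G).hom := inferInstanceAs (QuasiCompact (pullback.snd G.hom b))
  obtain ⟨T₁, _, i₁, hi₁⟩ := exists_maximal (Red.geomFibre s G)
  obtain ⟨n, hrank, -⟩ := exists_rank ⟨T₁, inferInstance, i₁, hi₁, rfl⟩
  obtain ⟨S', g, hg, ⟨x, hx⟩, T, _, i, him, himo, hT, hsplit⟩ := UnipZero.exists_etale_subtorus hrank
  haveI := hg; haveI := him; haveI := himo
  haveI : Smooth (Red.bc g G).hom := inferInstanceAs (Smooth (pullback.snd G.hom g))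
  haveI : IsAffineHom (Red.bc g G).hom := MorphismProperty.pullback_snd (P := @IsAffineHom) _ _ inferInstance
  haveI : IsSeparated (Red.bc g G).hom := inferInstance
  obtain ⟨C, _, c, hc, hcl, hCs⟩ := MaxTorCent.exists_centralizer i (TorusQI.isMultTypeFT_of_isTorus hT)
  haveI := hcl; haveI := hCs; haveI := hc.1; haveI := hc.2.1
  obtain ⟨V, hxV, hV⟩ := exists_nhd_dim C x
  refine ⟨⟨g '' (V : Set S'), g.isOpenMap _ V.2⟩, ⟨x, hxV, hx⟩, ?_⟩
  -- at the chosen point the torus is maximal
  have hs' : (Red.geomPt x ≫ g) (IsLocalRing.closedPoint _) = s := by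
    rw [Scheme.Hom.comp_apply, ← hx]
    exact congrArg g (Scheme.fromSpecResidueField_apply x _)
  have hCx : topologicalKrullDim ↥C'.left = topologicalKrullDim ↥(C.hom.base ⁻¹' {x}) := by
    let K := AlgebraicClosure (S'.residueField x)
    let b' : Spec (CommRingCat.of K) ⟶ S' := Red.geomPt x
    obtain ⟨σ, hσ⟩ := exists_geom_lift (b' ≫ g) s hs'
    haveI : Smooth (Red.bc (b' ≫ g) G).hom := inferInstanceAs (Smooth (pullback.snd G.hom (b' ≫ g)))
    haveI : IsAffineHom (pullback.snd G.hom (b' ≫ g)) := MorphismProperty.pullback_snd (P := @IsAffineHom) _ _ inferInstance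
    haveI : IsAffine (Red.bc (b' ≫ g) G).left := isAffine_of_isAffineHom (pullback.snd G.hom (b' ≫ g))
    haveI : QuasiCompact (Red.bc (b' ≫ g) G).hom := inferInstanceAs (QuasiCompact (pullback.snd G.hom (b' ≫ g)))
    haveI : (Over.pullback b').IsRightAdjoint := (Over.mapPullbackAdj b').isRightAdjoint
    haveI : (Over.pullback σ).IsRightAdjoint := (Over.mapPullbackAdj σ).isRightAdjoint
    haveI := GrpLimLib.isMonHom_cmp hσ G
    haveI := GrpLimLib.isMonHom_cmp (rfl : b' ≫ g = _) G
    haveI : IsMonHom (cmp (rfl : b' ≫ g = _) G).inv := TorsionCent.isMonHom_inv_of _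
    haveI : IsMonHom (cmp (rfl : b' ≫ g = _) G).symm.hom := ‹IsMonHom (cmp (rfl : b' ≫ g = _) G).inv›
    let E : Red.bc σ (Red.geomFibre s G) ≅ Red.bc b' (Red.bc g G) := cmp hσ G ≪≫ (cmp (rfl : b' ≫ g = _) G).symm
    haveI : IsMonHom E.hom := inferInstanceAs (IsMonHom ((cmp hσ G).hom ≫ (cmp (rfl : b' ≫ g = _) G).inv))
    obtain ⟨T₂, _, i₂, hi₂, hn₂⟩ := HasRank.of_geomPt (b' ≫ g) s hs' hrank
    let iK : Red.bc b' T ⟶ Red.bc (b' ≫ g) G :=
      (Over.pullback b').map i ≫ (cmp (rfl : b' ≫ g = _) G).hom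
    haveI : IsMonHom iK := inferInstance
    haveI : Mono iK := inferInstance
    have hm : Red.IsMaximalTorus iK := NonAffine.isMaximalTorus_of_isMaxTorus (UnipZero.isMaxTorus_of_dim iK
      (SolvGrp.isTorus_bc b' hT) (hsplit b') (SolvGrp.isMaxTorus_of_isMaximalTorus hi₂) hn₂)
    haveI : Smooth (Red.bc b' (Red.bc g G)).hom := inferInstanceAs (Smooth (pullback.snd (Red.bc g G).hom b'))
    haveI : QuasiCompact (Red.bc b' (Red.bc g G)).hom := inferInstanceAs (QuasiCompact (pullback.snd (Red.bc g G).hom b'))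
    haveI : IsAffineHom (pullback.snd (Red.bc g G).hom b') := MorphismProperty.pullback_snd (P := @IsAffineHom) _ _ inferInstance
    haveI : IsAffine (Red.bc b' (Red.bc g G)).left := isAffine_of_isAffineHom (pullback.snd (Red.bc g G).hom b')
    have hmT : Red.IsMaximalTorus ((Over.pullback b').map i) := by
      have h := isMaximalTorus_comp_iso hm (cmp (rfl : b' ≫ g = _) G).inv
      rwa [show iK ≫ (cmp (rfl : b' ≫ g = _) G).inv = (Over.pullback b').map i by
        simp only [iK, Category.assoc, Iso.hom_inv_id, Category.comp_id]] at h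
    obtain ⟨h1, h2, U, _, u, hU, hcen⟩ := id hC'
    haveI := h1; haveI := h2; haveI := hU.1; haveI := hU.2.1
    haveI : IsAffineHom (pullback.snd G.hom (Red.geomPt s)) := ‹_›
    haveI : IsSeparated (Red.geomFibre s G).hom := inferInstanceAs (IsSeparated (pullback.snd G.hom (Red.geomPt s)))
    haveI : LocallyOfFinitePresentation (Red.geomFibre s G).hom := inferInstance
    have hσc : SGA3x.IsCartanOver _ ((Over.pullback σ).map c') :=
      ⟨inferInstance, inferInstance, Red.bc σ U, inferInstance, (Over.pullback σ).map u,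
        MaxTorCent.isMaximalTorus_bc hU σ, SolvGrp.isCentralizerOf_bc σ u _ hcen⟩
    have hE : SGA3x.IsCartanOver K ((Over.pullback σ).map c' ≫ E.hom) :=
      MaxTorTransp.isCartanOver_of_iso hσc (Iso.refl _) E (Category.id_comp _)
    have hd := dim_cartan_eq hmT (SolvGrp.isCentralizerOf_bc b' i c hc) hE
    haveI : IsClosedImmersion c'.left := CentDim.isClosedImmersion_centralizer
      (TorusQI.isMultTypeFT_of_isTorus hU.2.2.1) hcen
    haveI : LocallyOfFiniteType C'.hom := by rw [← Over.w c']; infer_instance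
    haveI : LocallyOfFiniteType (pullback.snd C'.hom σ) := inferInstance
    haveI : Subsingleton ↥(Spec (CommRingCat.of K)) := inferInstanceAs (Subsingleton (PrimeSpectrum K))
    haveI : Subsingleton ↥(Spec (CommRingCat.of (AlgebraicClosure (S.residueField s)))) :=
      inferInstanceAs (Subsingleton (PrimeSpectrum _))
    rw [← dim_bc C b' x (Scheme.fromSpecResidueField_apply x _)]
    refine Eq.trans ?_ hd
    exact (FibDim.topologicalKrullDim_baseChange (IsPullback.of_hasPullback C'.hom σ)).symm
  rintro t ⟨y, hyV, rfl⟩ D _ d hD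
  obtain ⟨h1, h2, U, _, u, hU, hcen⟩ := id hD
  haveI := h1; haveI := h2; haveI := hU.1; haveI := hU.2.1
  -- compare over a common algebraically closed field
  let K := AlgebraicClosure (S'.residueField y)
  let b' : Spec (CommRingCat.of K) ⟶ S' := Red.geomPt y
  have hy : (b' ≫ g) (IsLocalRing.closedPoint K) = g y := by
    rw [Scheme.Hom.comp_apply]
    exact congrArg g (Scheme.fromSpecResidueField_apply y _)
  obtain ⟨σ, hσ⟩ := exists_geom_lift (b' ≫ g) (g y) hy
  haveI : (Over.pullback b').IsRightAdjoint := (Over.mapPullbackAdj b').isRightAdjoint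
  haveI : (Over.pullback σ).IsRightAdjoint := (Over.mapPullbackAdj σ).isRightAdjoint
  haveI := GrpLimLib.isMonHom_cmp hσ G
  haveI := GrpLimLib.isMonHom_cmp (rfl : b' ≫ g = _) G
  haveI : IsMonHom (cmp (rfl : b' ≫ g = _) G).inv := TorsionCent.isMonHom_inv_of _
  let E : Red.bc σ (Red.geomFibre (g y) G) ≅ Red.bc b' (Red.bc g G) := cmp hσ G ≪≫ (cmp (rfl : b' ≫ g = _) G).symm
  haveI : IsMonHom E.hom := inferInstanceAs (IsMonHom ((cmp hσ G).hom ≫ (cmp (rfl : b' ≫ g = _) G).inv))
  haveI : IsAffineHom (pullback.snd G.hom (Red.geomPt (g y))) := MorphismProperty.pullback_snd (P := @IsAffineHom) _ _ inferInstance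
  haveI : Smooth (Red.geomFibre (g y) G).hom := inferInstanceAs (Smooth (pullback.snd G.hom (Red.geomPt (g y))))
  haveI : QuasiCompact (Red.geomFibre (g y) G).hom := inferInstanceAs (QuasiCompact (pullback.snd G.hom (Red.geomPt (g y))))
  haveI : IsSeparated (Red.geomFibre (g y) G).hom := inferInstanceAs (IsSeparated (pullback.snd G.hom (Red.geomPt (g y))))
  haveI : Smooth (Red.bc b' (Red.bc g G)).hom := inferInstanceAs (Smooth (pullback.snd (Red.bc g G).hom b'))
  haveI : IsAffineHom (pullback.snd (Red.bc g G).hom b') := MorphismProperty.pullback_snd (P := @IsAffineHom) _ _ inferInstance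
  haveI : IsAffine (Red.bc b' (Red.bc g G)).left := isAffine_of_isAffineHom (pullback.snd (Red.bc g G).hom b')
  have hσd : SGA3x.IsCartanOver _ ((Over.pullback σ).map d) :=
    ⟨inferInstance, inferInstance, Red.bc σ U, inferInstance, (Over.pullback σ).map u,
      MaxTorCent.isMaximalTorus_bc hU σ, SolvGrp.isCentralizerOf_bc σ u _ hcen⟩
  have hle := CentDim.dim_cartan_le ((Over.pullback b').map i) (SolvGrp.isTorus_bc b' hT)
    (SolvGrp.isCentralizerOf_bc b' i c hc) (MaxTorTransp.isCartanOver_of_iso hσd (Iso.refl _) E (Category.id_comp _))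
  rw [dim_bc C b' y (Scheme.fromSpecResidueField_apply y _), hV y hyV, ← hCx] at hle
  refine le_trans (le_of_eq ?_) hle
  haveI : IsClosedImmersion d.left := CentDim.isClosedImmersion_centralizer
    (TorusQI.isMultTypeFT_of_isTorus hU.2.2.1) hcen
  haveI : LocallyOfFiniteType D.hom := by rw [← Over.w d]; infer_instance
  haveI : LocallyOfFiniteType (pullback.snd D.hom σ) := inferInstance
  haveI : Subsingleton ↥(Spec (CommRingCat.of K)) := inferInstanceAs (Subsingleton (PrimeSpectrum K))
  haveI : Subsingleton ↥(Spec (CommRingCat.of (AlgebraicClosure (S.residueField (g y))))) :=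
    inferInstanceAs (Subsingleton (PrimeSpectrum _))
  exact (FibDim.topologicalKrullDim_baseChange (IsPullback.of_hasPullback D.hom σ)).symm

/-- The nilpotent rank is upper semicontinuous. -/
theorem isOpen_le (n : ℕ) :
    IsOpen {s : S | ∃ (C' : Over (Spec (CommRingCat.of (AlgebraicClosure (S.residueField s))))) (_ : GrpObj C')
      (c' : C' ⟶ Red.geomFibre s G),
      SGA3x.IsCartanOver (AlgebraicClosure (S.residueField s)) c' ∧ topologicalKrullDim ↥C'.left ≤ (n : WithBot ℕ∞)} := by
  rw [isOpen_iff_forall_mem_open]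
  rintro s ⟨C', _, c', hC', hle⟩
  obtain ⟨U, hsU, hU⟩ := exists_nhd_le s hC'
  refine ⟨U, fun t ht => ?_, U.2, hsU⟩
  let b := Red.geomPt t
  haveI : IsAffineHom (pullback.snd G.hom b) := MorphismProperty.pullback_snd (P := @IsAffineHom) _ _ inferInstance
  haveI : IsAffine (Red.geomFibre t G).left := isAffine_of_isAffineHom (pullback.snd G.hom b)
  haveI : Smooth (Red.geomFibre t G).hom := inferInstanceAs (Smooth (pullback.snd G.hom b))
  haveI : QuasiCompact (Red.geomFibre t G).hom := inferInstanceAs (QuasiCompact (pullback.snd G.hom b))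
  haveI : IsSeparated (Red.geomFibre t G).hom := inferInstanceAs (IsSeparated (pullback.snd G.hom b))
  obtain ⟨T, _, i, hi⟩ := exists_maximal (Red.geomFibre t G)
  haveI := hi.1
  obtain ⟨D, _, d, hd, -, -⟩ := MaxTorCent.exists_centralizer i (TorusQI.isMultTypeFT_of_isTorus hi.2.2.1)
  have hD : SGA3x.IsCartanOver (AlgebraicClosure (S.residueField t)) d := ⟨hd.1, hd.2.1, T, inferInstance, i, hi, hd⟩
  exact ⟨D, inferInstance, d, hD, (hU t ht D d hD).trans hle⟩

/-- Locally constant reductive rank gives locally constant nilpotent rank. -/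
theorem exists_nhd_eq (hr : SGA3x.RedRankLocallyConstant G) (s : S) :
    ∃ U : S.Opens, s ∈ U ∧ ∃ r : WithBot ℕ∞, ∀ t : S, t ∈ U →
      ∀ (D : Over (Spec (CommRingCat.of (AlgebraicClosure (S.residueField t))))) [GrpObj D]
        (d : D ⟶ Red.geomFibre t G),
        SGA3x.IsCartanOver (AlgebraicClosure (S.residueField t)) d → topologicalKrullDim ↥D.left = r := by
  obtain ⟨S', g, hg, hgs, T, _, i, hi⟩ := (Groth.Agent.S4115.result S G).mp hr
  haveI := hg; haveI := hgs; haveI := hi.1; haveI := hi.2.1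
  haveI : Smooth (Red.bc g G).hom := inferInstanceAs (Smooth (pullback.snd G.hom g))
  haveI : IsAffineHom (Red.bc g G).hom := MorphismProperty.pullback_snd (P := @IsAffineHom) _ _ inferInstance
  haveI : IsSeparated (Red.bc g G).hom := inferInstance
  obtain ⟨C, _, c, hc, hcl, hCs⟩ := MaxTorCent.exists_centralizer i (TorusQI.isMultTypeFT_of_isTorus hi.2.2.1)
  haveI := hcl; haveI := hCs; haveI := hc.1; haveI := hc.2.1
  obtain ⟨x, hx⟩ := g.surjective s
  obtain ⟨V, hxV, hV⟩ := exists_nhd_dim C x
  refine ⟨⟨g '' (V : Set S'), g.isOpenMap _ V.2⟩, ⟨x, hxV, hx⟩, topologicalKrullDim ↥(C.hom.base ⁻¹' {x}), ?_⟩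
  rintro t ⟨y, hyV, rfl⟩ D _ d hD
  obtain ⟨h1, h2, U, _, u, hU, hcen⟩ := id hD
  haveI := h1; haveI := h2; haveI := hU.1; haveI := hU.2.1
  let K := AlgebraicClosure (S'.residueField y)
  let b' : Spec (CommRingCat.of K) ⟶ S' := Red.geomPt y
  have hy : (b' ≫ g) (IsLocalRing.closedPoint K) = g y := by
    rw [Scheme.Hom.comp_apply]
    exact congrArg g (Scheme.fromSpecResidueField_apply y _)
  obtain ⟨σ, hσ⟩ := exists_geom_lift (b' ≫ g) (g y) hy
  haveI : (Over.pullback b').IsRightAdjoint := (Over.mapPullbackAdj b').isRightAdjoint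
  haveI : (Over.pullback σ).IsRightAdjoint := (Over.mapPullbackAdj σ).isRightAdjoint
  haveI := GrpLimLib.isMonHom_cmp hσ G
  haveI := GrpLimLib.isMonHom_cmp (rfl : b' ≫ g = _) G
  haveI : IsMonHom (cmp (rfl : b' ≫ g = _) G).inv := TorsionCent.isMonHom_inv_of _
  let E : Red.bc σ (Red.geomFibre (g y) G) ≅ Red.bc b' (Red.bc g G) := cmp hσ G ≪≫ (cmp (rfl : b' ≫ g = _) G).symm
  haveI : IsMonHom E.hom := inferInstanceAs (IsMonHom ((cmp hσ G).hom ≫ (cmp (rfl : b' ≫ g = _) G).inv))
  haveI : IsAffineHom (pullback.snd G.hom (Red.geomPt (g y))) := MorphismProperty.pullback_snd (P := @IsAffineHom) _ _ inferInstance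
  haveI : Smooth (Red.geomFibre (g y) G).hom := inferInstanceAs (Smooth (pullback.snd G.hom (Red.geomPt (g y))))
  haveI : QuasiCompact (Red.geomFibre (g y) G).hom := inferInstanceAs (QuasiCompact (pullback.snd G.hom (Red.geomPt (g y))))
  haveI : IsSeparated (Red.geomFibre (g y) G).hom := inferInstanceAs (IsSeparated (pullback.snd G.hom (Red.geomPt (g y))))
  haveI : Smooth (Red.bc b' (Red.bc g G)).hom := inferInstanceAs (Smooth (pullback.snd (Red.bc g G).hom b'))
  haveI : IsAffineHom (pullback.snd (Red.bc g G).hom b') := MorphismProperty.pullback_snd (P := @IsAffineHom) _ _ inferInstance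
  haveI : IsAffine (Red.bc b' (Red.bc g G)).left := isAffine_of_isAffineHom (pullback.snd (Red.bc g G).hom b')
  have hσd : SGA3x.IsCartanOver _ ((Over.pullback σ).map d) :=
    ⟨inferInstance, inferInstance, Red.bc σ U, inferInstance, (Over.pullback σ).map u,
      MaxTorCent.isMaximalTorus_bc hU σ, SolvGrp.isCentralizerOf_bc σ u _ hcen⟩
  have heq := dim_cartan_eq (isMaximalTorus_geomFibre hi y) (SolvGrp.isCentralizerOf_bc b' i c hc)
    (MaxTorTransp.isCartanOver_of_iso hσd (Iso.refl _) E (Category.id_comp _))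
  haveI : IsClosedImmersion d.left := CentDim.isClosedImmersion_centralizer
    (TorusQI.isMultTypeFT_of_isTorus hU.2.2.1) hcen
  haveI : LocallyOfFiniteType D.hom := by rw [← Over.w d]; infer_instance
  haveI : LocallyOfFiniteType (pullback.snd D.hom σ) := inferInstance
  haveI : Subsingleton ↥(Spec (CommRingCat.of K)) := inferInstanceAs (Subsingleton (PrimeSpectrum K))
  haveI : Subsingleton ↥(Spec (CommRingCat.of (AlgebraicClosure (S.residueField (g y))))) :=
    inferInstanceAs (Subsingleton (PrimeSpectrum _))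
  rw [← hV y hyV, ← dim_bc C b' y (Scheme.fromSpecResidueField_apply y _)]
  exact (FibDim.topologicalKrullDim_baseChange (IsPullback.of_hasPullback D.hom σ)).symm.trans heq

end Groth.Agent.RedRank.NilRank
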