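import Groth.Agent.RedRank.UnipZero
import Groth.Agent.RedRank.CentreInter
import Groth.Agent.SolvGrp.Nilp

/-!
# Central maximal tori of groups with nilpotent fibres
-/

universe u

open CategoryTheory CategoryTheory.Limits MonoidalCategory CartesianMonoidalCategory MonObj AlgebraicGeometry

set_option backward.isDefEq.respectTransparency false
set_option backward.isDefEq.respectTransparency.types false
set_option linter.style.haveILetI false
set_option synthInstance.maxHeartbeats 200000
set_option maxHeartbeats 1000000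
set_option autoImplicit false

namespace Groth.Agent.RedRank.NilpCentral

open GrpSchLib MaxTorCent MaxTorTransp CentreDescent CentreGlobal
open GrpLimLib (cmp)

section Field

variable {k : Type u} [Field k] [IsAlgClosed k] {G T : Over (Spec (CommRingCat.of k))} [GrpObj G] [GrpObj T]
  [IsAffine G.left] [Smooth G.hom] [ConnectedSpace G.left]

local notation "PT" => 𝟙_ (Over (Spec (CommRingCat.of k)))

/-- A torus of a connected group with nilpotent points is central. -/
theorem torus_central (hn : Group.IsNilpotent (PT ⟶ G)) (hT : Red.IsTorus T) (i : T ⟶ G) [IsMonHom i] :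
    Central i := by
  haveI := hn
  haveI : IsReduced G.left := isReduced_of_smooth_field G.hom
  haveI : LocallyOfFiniteType G.hom := inferInstance
  obtain ⟨haT, hsT, -, -⟩ := SolvGrp.torus_props hT
  haveI := haT; haveI := hsT
  haveI : IsReduced T.left := isReduced_of_smooth_field T.hom
  haveI : IsAffine (PT).left := inferInstanceAs (IsAffine (Spec _))
  have hpt : ∀ r : PT ⟶ G, (toUnit T ≫ r) * i = i * (toUnit T ≫ r) := fun r => by
    have h := CentreInter.ext_of_pts (Z := T) (X := PT) Set.univ
      (fun O hO => (SolvGrp.exists_pt_mem O hO).imp fun _ h => ⟨Set.mem_univ _, h⟩)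
      (fst T PT ≫ ((toUnit T ≫ r) * i)) (fst T PT ≫ (i * (toUnit T ≫ r))) fun t _ => by
        simp only [lift_fst_assoc, MonObj.comp_mul, Category.assoc]
        have := SolvGrp.commute_of_nilpotent (SolvGrp.isSsPt_of_torus hT i t) r
        simp only [← Category.assoc (toUnit PT) t, toUnit_unique (toUnit PT) (𝟙 PT), Category.id_comp]
        rw [← Category.assoc t, toUnit_unique (t ≫ toUnit T) (𝟙 PT), Category.id_comp]
        exact this
    haveI : IsSplitEpi (fst T PT) := IsSplitEpi.mk' ⟨lift (𝟙 T) (toUnit T), lift_fst _ _⟩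
    exact (cancel_epi (fst T PT)).mp h
  intro Y y g
  have h := CentreInter.ext_of_pts (Z := G) (X := T) Set.univ
    (fun O hO => (SolvGrp.exists_pt_mem O hO).imp fun _ h => ⟨Set.mem_univ _, h⟩)
    ((snd G T ≫ i) * fst G T) (fst G T * (snd G T ≫ i)) fun r _ => by
      simp only [MonObj.comp_mul, lift_fst, lift_snd_assoc, Category.id_comp]
      exact (hpt r).symm
  have h1 := congrArg (lift g y ≫ ·) h
  simpa only [MonObj.comp_mul, lift_fst, lift_snd_assoc] using h1

end Field

variable {S : Scheme.{u}} {G : Over S} [GrpObj G] [IsAffineHom G.hom] [Smooth G.hom]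
  (hconn : ∀ s : S, ConnectedSpace ↥(Red.geomFibre s G).left)
  (hnil : ∀ s : S, Group.IsNilpotent
    (𝟙_ (Over (Spec (CommRingCat.of (AlgebraicClosure (S.residueField s))))) ⟶ Red.geomFibre s G))
include hconn

/-- The fibres are connected. -/
theorem fibres : ∀ s : S, _root_.IsConnected (G.hom.base ⁻¹' {s}) := by
  intro s
  haveI := hconn s
  let p := Spec.map (CommRingCat.ofHom (algebraMap (S.residueField s) (AlgebraicClosure (S.residueField s))))
  haveI : Surjective p := ⟨Function.surjective_to_subsingleton (α := Spec (CommRingCat.of (AlgebraicClosure (S.residueField s))))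
    (β := Spec (S.residueField s)) _⟩
  let e := pullbackLeftPullbackSndIso G.hom (S.fromSpecResidueField s) p
  haveI : ConnectedSpace ↥(pullback G.hom (p ≫ S.fromSpecResidueField s)) := ‹ConnectedSpace ↥(Red.geomFibre s G).left›
  haveI : ConnectedSpace ↥(pullback (pullback.snd G.hom (S.fromSpecResidueField s)) p) :=
    e.inv.homeomorph.surjective.connectedSpace e.inv.homeomorph.continuous
  have h1 : ConnectedSpace ↥(G.hom.fiber s) :=
    (pullback.fst (pullback.snd G.hom (S.fromSpecResidueField s)) p).surjective.connectedSpace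
      (pullback.fst (pullback.snd G.hom (S.fromSpecResidueField s)) p).continuous
  exact isConnected_iff_connectedSpace.mpr
    ((G.hom.fiberHomeo s).surjective.connectedSpace (G.hom.fiberHomeo s).continuous)

include hnil

/-- A maximal torus of a base change is central. -/
theorem central_of_maximal {S' : Scheme.{u}} (f : S' ⟶ S) {T : Over S'} [GrpObj T] {i : T ⟶ Red.bc f G}
    (hi : Red.IsMaximalTorus i) : Central i := by
  haveI := hi.1; haveI := hi.2.1
  haveI : Smooth (Red.bc f G).hom := inferInstanceAs (Smooth (pullback.snd G.hom f))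
  haveI : IsAffineHom (Red.bc f G).hom := MorphismProperty.pullback_snd (P := @IsAffineHom) _ _ inferInstance
  haveI : IsSeparated (Red.bc f G).hom := inferInstance
  obtain ⟨C, _, c, hc, hcl, hCs⟩ := MaxTorCent.exists_centralizer i (TorusQI.isMultTypeFT_of_isTorus hi.2.2.1)
  haveI := hcl; haveI := hCs; haveI := hc.1; haveI := hc.2.1
  haveI : IsIso c := MaxTorTransp.isIso_of_fibre_sections c fun x => by
    let b := Red.geomPt x
    let s : S := (b ≫ f) (IsLocalRing.closedPoint _)
    obtain ⟨σ, hσ⟩ := exists_geom_lift (b ≫ f) s rfl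
    haveI := hconn s; haveI := hnil s
    haveI : IsAffineHom (pullback.snd G.hom (Red.geomPt s)) := MorphismProperty.pullback_snd (P := @IsAffineHom) _ _ inferInstance
    haveI : IsAffine (Red.geomFibre s G).left := isAffine_of_isAffineHom (pullback.snd G.hom (Red.geomPt s))
    haveI : Smooth (Red.geomFibre s G).hom := inferInstanceAs (Smooth (pullback.snd G.hom (Red.geomPt s)))
    haveI : QuasiCompact (Red.geomFibre s G).hom := inferInstanceAs (QuasiCompact (pullback.snd G.hom (Red.geomPt s)))
    obtain ⟨T₀, _, i₀, hi₀⟩ := exists_maximal (Red.geomFibre s G)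
    haveI := hi₀.1; haveI := hi₀.2.1
    have hc₀ : Central i₀ := torus_central (hnil s) hi₀.2.2.1 i₀
    let F := Over.pullback b
    haveI : F.IsRightAdjoint := (Over.mapPullbackAdj b).isRightAdjoint
    haveI : (Over.pullback σ).IsRightAdjoint := (Over.mapPullbackAdj σ).isRightAdjoint
    haveI : Smooth (Red.geomFibre x (Red.bc f G)).hom := inferInstanceAs (Smooth (pullback.snd (Red.bc f G).hom b))
    haveI : QuasiCompact (Red.geomFibre x (Red.bc f G)).hom :=
      inferInstanceAs (QuasiCompact (pullback.snd (Red.bc f G).hom b))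
    haveI := GrpLimLib.isMonHom_cmp hσ G
    haveI := GrpLimLib.isMonHom_cmp (rfl : b ≫ f = _) G
    let E : Red.bc σ (Red.geomFibre s G) ≅ Red.geomFibre x (Red.bc f G) :=
      cmp hσ G ≪≫ (cmp (rfl : b ≫ f = _) G).symm
    haveI : IsMonHom (cmp (rfl : b ≫ f = _) G).inv := TorsionCent.isMonHom_inv_of _
    haveI : IsMonHom E.hom := inferInstanceAs (IsMonHom ((cmp hσ G).hom ≫ (cmp (rfl : b ≫ f = _) G).inv))
    have h1 : Central ((Over.pullback σ).map i₀ ≫ E.hom) :=
      central_comp_iso ((central_theta σ _).mp (by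
        rw [show (Over.pullback σ).map i₀ = 𝟙 _ ≫ (Over.pullback σ).map i₀ from (Category.id_comp _).symm,
          TorsionCent.theta_map']
        intro W a g
        rw [← Category.assoc]
        exact hc₀ W _ g)) E
    obtain ⟨g, φ, hφ⟩ := MaxTorTransp.exists_conj_maxTorus
      (SolvGrp.isMaxTorus_of_isMaximalTorus (isMaximalTorus_comp_iso (MaxTorCent.isMaximalTorus_bc hi₀ σ) E.hom))
      (SolvGrp.isMaxTorus_of_isMaximalTorus (isMaximalTorus_geomFibre hi x))
    have h2 : Central (F.map i) := fun W a p => by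
      have hcj : ((Over.pullback σ).map i₀ ≫ E.hom) ≫ AGFLib.Borel.conjM g = (Over.pullback σ).map i₀ ≫ E.hom := by
        have h3 := h1 _ (𝟙 _) (toUnit _ ≫ g)
        rw [Category.id_comp] at h3
        rw [AGFLib.Borel.comp_conjM, ← h3]
        group
      have he : F.map i = φ.inv ≫ (Over.pullback σ).map i₀ ≫ E.hom := by
        rw [← cancel_epi φ.hom, Iso.hom_inv_id_assoc, hφ]
        refine Eq.trans ?_ hcj
        show _ = _ ≫ AGFLib.Borel.conjM g
        rw [AGFLib.Borel.comp_conjM]
      rw [he, ← Category.assoc]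
      exact h1 W _ p
    obtain ⟨l, hl⟩ := ((SolvGrp.isCentralizerOf_bc b i c hc).2.2 _ (𝟙 _)).mpr fun W a p => by
      rw [Category.comp_id]
      exact (h2 W p a).symm
    exact ⟨l, hl⟩
  intro Y y g
  have h := ((hc.2.2 Y g).mp ⟨g ≫ inv c, by rw [Category.assoc, IsIso.inv_hom_id, Category.comp_id]⟩) Y (𝟙 Y) y
  rw [Category.id_comp] at h
  exact h.symm

/-- The central maximal torus, containing every subtorus. -/
theorem exists_central_maximal (hr : SGA3x.RedRankLocallyConstant G) :
    ∃ (T : Over S) (_ : GrpObj T) (i : T ⟶ G), Red.IsMaximalTorus i ∧ Central i ∧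
      ∀ (R : Over S) [GrpObj R] (j : R ⟶ G) [IsMonHom j] [Mono j], Red.IsTorus R → ∃ l : R ⟶ T, l ≫ i = j := by
  obtain ⟨S', f, hf, hfs, T', _, i', hi'⟩ := (Groth.Agent.S4115.result S G).mp hr
  haveI := hf; haveI := hfs; haveI := hi'.1; haveI := hi'.2.1
  haveI : Smooth (Red.bc f G).hom := inferInstanceAs (Smooth (pullback.snd G.hom f))
  haveI : IsAffineHom (Red.bc f G).hom := MorphismProperty.pullback_snd (P := @IsAffineHom) _ _ inferInstance
  have hconn' := RedCentre.isConnected_fibre_bc f G (fibres hconn)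
  have hci : Central i' := central_of_maximal hconn hnil f hi'
  have hmt := TorusQI.isMultTypeFT_of_isTorus hi'.2.2.1
  have hui : Univ i' := fun S₂ g H _ v _ hH hv => by
    haveI : (Over.pullback g).IsRightAdjoint := (Over.mapPullbackAdj g).isRightAdjoint
    haveI : Smooth (Red.bc g (Red.bc f G)).hom := inferInstanceAs (Smooth (pullback.snd (Red.bc f G).hom g))
    haveI : IsAffineHom (Red.bc g (Red.bc f G)).hom := MorphismProperty.pullback_snd (P := @IsAffineHom) _ _ ‹_›
    exact CentralFactor.exists_factor (RedCentre.isConnected_fibre_bc g (Red.bc f G) hconn')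
      (MaxTorCent.isMaximalTorus_bc hi' g) hH v fun X h x => hv X h _
  have hcov := FpqcDescLib.isCovering_of_lfp f
  obtain ⟨Z, _, z, hzm, hzmono, hZ, hzc, hzu⟩ := exists_descent f hcov i' hmt hci hui
  haveI := hzm; haveI := hzmono
  haveI : (Over.pullback f).IsRightAdjoint := (Over.mapPullbackAdj f).isRightAdjoint
  obtain ⟨w, hw⟩ := hzu S' f T' i' hmt hci
  obtain ⟨w', hw'⟩ := CentralFactor.exists_factor hconn' hi' (MultTypeBC.isMultTypeFT_bc f hZ)
    ((Over.pullback f).map z) fun X h x => ((hci X x _)).symm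
  let e : Red.bc f Z ≅ T' :=
    ⟨w', w, by rw [← cancel_mono ((Over.pullback f).map z), Category.assoc, hw, hw', Category.id_comp],
      by rw [← cancel_mono i', Category.assoc, hw', hw, Category.id_comp]⟩
  haveI : IsMonHom e.hom := MaxTorusBC.isMonHom_of_mono w' i' (by rw [hw']; infer_instance)
  have hZt : Red.IsTorus Z := MaxTorTransp.isTorus_of_bc f hcov e hi'.2.2.1
  have hfac : ∀ (R : Over S) [GrpObj R] (j : R ⟶ G) [IsMonHom j] [Mono j], Red.IsTorus R →
      ∃ l : R ⟶ Z, l ≫ z = j := by
    intro R _ j _ _ hR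
    let v := (Over.pullback f).map j
    let p : (Over.map f).obj (Red.bc f R) ⟶ R := DSPtsLib.theta f (𝟙 _)
    have hθ : DSPtsLib.theta f v = p ≫ j := by
      rw [show v = 𝟙 _ ≫ v from (Category.id_comp _).symm, TorsionCent.theta_map']
    obtain ⟨a, ha⟩ := CentralFactor.exists_factor hconn' hi' (MultTypeBC.isMultTypeFT_bc f (TorusQI.isMultTypeFT_of_isTorus hR)) v
      fun X h x => (hci X x _).symm
    haveI : Mono z.left := inferInstanceAs (Mono ((Over.forget _).map z))
    have he : DSPtsLib.theta f (a ≫ w) ≫ z = p ≫ j := by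
      rw [← TorsionCent.theta_map', Category.assoc, hw, ha, hθ]
    have hp : p.left = pullback.fst R.hom f := by
      simp only [p, DSPtsLib.theta_left]
      exact Category.id_comp _
    obtain ⟨l, hl⟩ := TorusQI.exists_fac_of_covers z.left j.left
      ((FpqcDescLib.covers_of_isCovering hcov).pullback R.hom _ _ (IsPullback.of_hasPullback R.hom f))
      (DSPtsLib.theta f (a ≫ w)).left (by
        rw [← hp]
        exact congrArg (fun m : _ ⟶ G => m.left) he)
    exact ⟨Over.homMk l (by rw [← Over.w z, reassoc_of% hl, Over.w j]), Over.OverMorphism.ext hl⟩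
  refine ⟨Z, inferInstance, z, ⟨hzm, hzmono, hZt, fun s T₂ _ j _ _ a hT₂ ha => ?_⟩, hzc, hfac⟩
  haveI := hconn s
  haveI : (Over.pullback (Red.geomPt s)).IsRightAdjoint := (Over.mapPullbackAdj (Red.geomPt s)).isRightAdjoint
  haveI : IsAffineHom (pullback.snd G.hom (Red.geomPt s)) := MorphismProperty.pullback_snd (P := @IsAffineHom) _ _ inferInstance
  haveI : IsAffine (Red.geomFibre s G).left := isAffine_of_isAffineHom (pullback.snd G.hom (Red.geomPt s))
  haveI : Smooth (Red.geomFibre s G).hom := inferInstanceAs (Smooth (pullback.snd G.hom (Red.geomPt s)))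
  obtain ⟨b, hb⟩ := hzu _ (Red.geomPt s) T₂ j (TorusQI.isMultTypeFT_of_isTorus hT₂) (torus_central (hnil s) hT₂ j)
  refine ⟨b, ?_, ?_⟩
  · rw [← cancel_mono ((Over.pullback (Red.geomPt s)).map z), Category.assoc, hb, ha, Category.id_comp]
  · rw [← cancel_mono j, Category.assoc, ha, hb, Category.id_comp]

end Groth.Agent.RedRank.NilpCentral
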