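import Groth.Agent.RedRank.CentreTori
import Groth.Agent.S8422

/-!
# Maximal tori in parabolic subgroups
-/

universe u

open CategoryTheory CategoryTheory.Limits MonoidalCategory CartesianMonoidalCategory MonObj AlgebraicGeometry

set_option backward.isDefEq.respectTransparency false
set_option backward.isDefEq.respectTransparency.types false
set_option linter.style.haveILetI false
set_option synthInstance.maxHeartbeats 200000
set_option maxHeartbeats 1000000
set_option autoImplicit false

namespace Groth.Agent.RedRank.Parabolic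

open GrpSchLib MaxTorCent MaxTorTransp CentreDescent CentreGlobal
open GrpLimLib (cmp)

variable {S : Scheme.{u}} {G P : Over S} [GrpObj G] [GrpObj P]

/-- Etale locally a parabolic subgroup contains a maximal torus. -/
theorem exists_maxTorus_le (hG : Red.IsReductive G) (p : P ⟶ G) (hP : Red.IsParabolic p) (s : S) :
    ∃ (S' : Scheme.{u}) (f : S' ⟶ S) (_ : Etale f), s ∈ Set.range f ∧
      ∃ (T : Over S') (_ : GrpObj T) (t : T ⟶ Red.bc f P), IsMonHom t ∧
        Red.IsMaximalTorus (t ≫ (Over.pullback f).map p) := by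
  haveI := hG.1; haveI := hG.2.1; haveI := hP.1; haveI := hP.2.1; haveI := hP.2.2.1
  obtain ⟨S', f, hf, hfs, T, _, i, hi⟩ :=
    UnipZero.hasMaxTorusEtaleLocally (ReductiveRank.isConnected_fibre hG) (ReductiveRank.unipotentRankZero hG)
  haveI := hf; haveI := hfs; haveI := hi.1; haveI := hi.2.1
  haveI : (Over.pullback f).IsRightAdjoint := (Over.mapPullbackAdj f).isRightAdjoint
  haveI : Mono p := haveI : Mono p.left := inferInstance; Over.mono_of_mono_left _
  haveI : Smooth (Red.bc f G).hom := inferInstanceAs (Smooth (pullback.snd G.hom f))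
  haveI : IsAffineHom (Red.bc f G).hom := MorphismProperty.pullback_snd (P := @IsAffineHom) _ _ inferInstance
  haveI : Smooth (Red.bc f P).hom := inferInstanceAs (Smooth (pullback.snd P.hom f))
  let p' := (Over.pullback f).map p
  obtain ⟨M, m, -, hMs, hM⟩ := MaxTorTransp.exists_transporter i hi.2.2.1 p'
  haveI := hMs
  obtain ⟨x, hx⟩ := f.surjective s
  -- a point of the transporter over the chosen point
  obtain ⟨x₀, hx₀⟩ : x ∈ Set.range M.hom := by
    let K := AlgebraicClosure (S'.residueField x)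
    let b : Spec (CommRingCat.of K) ⟶ S' := Red.geomPt x
    haveI : (Over.pullback b).IsRightAdjoint := (Over.mapPullbackAdj b).isRightAdjoint
    obtain ⟨σ, hσ⟩ := exists_geom_lift (b ≫ f) s (by
      rw [Scheme.Hom.comp_apply, ← hx]
      exact congrArg f (Scheme.fromSpecResidueField_apply x _))
    haveI : (Over.pullback σ).IsRightAdjoint := (Over.mapPullbackAdj σ).isRightAdjoint
    haveI : (Over.pullback (Red.geomPt s)).IsRightAdjoint := (Over.mapPullbackAdj (Red.geomPt s)).isRightAdjoint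
    haveI : Smooth (Red.geomFibre s G).hom := inferInstanceAs (Smooth (pullback.snd G.hom (Red.geomPt s)))
    haveI : IsAffine (Red.geomFibre s G).left := (hG.2.2 s).1
    haveI : QuasiCompact (Red.geomFibre s G).hom := inferInstanceAs (QuasiCompact (pullback.snd G.hom (Red.geomPt s)))
    obtain ⟨h1, h2, h3, B, _, b₀, hB⟩ := hP.2.2.2 s
    haveI := h1; haveI := hB.1; haveI := hB.2.1; haveI := hB.2.2.1
    haveI : IsAffine B.left := isAffine_of_isAffineHom (b₀ ≫ (Over.pullback (Red.geomPt s)).map p).left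
    haveI : QuasiCompact B.hom := inferInstance
    obtain ⟨U, _, u₀, hu₀⟩ := exists_maximal B
    have hU := (Groth.Agent.S8422.result _ (Red.geomFibre s G)).2.1 B _ hB U u₀ hu₀
    haveI := hU.1; haveI := hU.2.1
    haveI : QuasiSeparated (Red.geomFibre s G).hom := inferInstance
    haveI := GrpLimLib.isMonHom_cmp hσ G
    haveI := GrpLimLib.isMonHom_cmp (rfl : b ≫ f = _) G
    haveI : IsMonHom (cmp (rfl : b ≫ f = _) G).inv := TorsionCent.isMonHom_inv_of _
    let EG : Red.bc σ (Red.geomFibre s G) ≅ Red.bc b (Red.bc f G) := cmp hσ G ≪≫ (cmp (rfl : b ≫ f = _) G).symm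
    let EP : Red.bc σ (Red.geomFibre s P) ≅ Red.bc b (Red.bc f P) := cmp hσ P ≪≫ (cmp (rfl : b ≫ f = _) P).symm
    haveI : IsMonHom EG.hom := inferInstanceAs (IsMonHom ((cmp hσ G).hom ≫ (cmp (rfl : b ≫ f = _) G).inv))
    haveI : Smooth (Red.bc b (Red.bc f G)).hom := inferInstanceAs (Smooth (pullback.snd (Red.bc f G).hom b))
    haveI : QuasiCompact (Red.bc b (Red.bc f G)).hom := inferInstanceAs (QuasiCompact (pullback.snd (Red.bc f G).hom b))
    have hE : EP.hom ≫ (Over.pullback b).map p' =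
        (Over.pullback σ).map ((Over.pullback (Red.geomPt s)).map p) ≫ EG.hom := by
      show ((cmp hσ P).hom ≫ (cmp (rfl : b ≫ f = _) P).inv) ≫ _ = _ ≫ (cmp hσ G).hom ≫ (cmp (rfl : b ≫ f = _) G).inv
      refine (Category.assoc _ _ _).trans ?_
      refine Eq.trans ?_ (Category.assoc _ _ _)
      rw [MaxTorusBC.cmp_naturality hσ p]
      refine Eq.trans ?_ (Category.assoc _ _ _).symm
      congr 1
      rw [Iso.inv_comp_eq]
      refine Eq.trans ?_ (Category.assoc _ _ _)
      rw [← MaxTorusBC.cmp_naturality (rfl : b ≫ f = _) p]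
      refine Eq.trans ?_ (Category.assoc _ _ _).symm
      rw [Iso.hom_inv_id, Category.comp_id]
    obtain ⟨g, φ, hφ⟩ := MaxTorTransp.exists_conj_maxTorus
      (SolvGrp.isMaxTorus_of_isMaximalTorus (isMaximalTorus_geomFibre hi x))
      (SolvGrp.isMaxTorus_of_isMaximalTorus (isMaximalTorus_comp_iso (MaxTorCent.isMaximalTorus_bc hU σ) EG.hom))
    obtain ⟨z, -⟩ := (hM _ _).mpr ((into_iff p' i b g).mpr
      ⟨φ.hom ≫ (Over.pullback σ).map (u₀ ≫ b₀) ≫ EP.hom, by
        rw [Category.assoc, Category.assoc, hE, ← Category.assoc ((Over.pullback σ).map _), ← Functor.map_comp,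
          Category.assoc, hφ, comp_conjEnd]⟩)
    refine ⟨z.left (IsLocalRing.closedPoint K), ?_⟩
    rw [← Scheme.Hom.comp_apply, Over.w z]
    show (𝟙 _ ≫ b) _ = x
    rw [Category.id_comp]
    exact Scheme.fromSpecResidueField_apply x _
  -- a section of the transporter near the point
  obtain ⟨S'', q, y, hq, hqy, h, hh⟩ := Groth.Agent.S0412.result M.hom x ⟨x₀, hx₀⟩
  haveI := hq
  let z : (Over.map q).obj (𝟙_ (Over S'')) ⟶ M := Over.homMk h (by
    show h ≫ M.hom = 𝟙 _ ≫ q
    rw [Category.id_comp, hh])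
  obtain ⟨g, hg⟩ := (DSPtsLib.theta_bijective (g := q) (Y := 𝟙_ (Over S'')) (H := Red.bc f G)).2 (z ≫ m)
  obtain ⟨β, hβ⟩ := (into_iff p' i q g).mp (by rw [hg]; exact (hM _ _).mp ⟨z, rfl⟩)
  let F := Over.pullback q
  haveI : F.IsRightAdjoint := (Over.mapPullbackAdj q).isRightAdjoint
  haveI : Smooth (F.obj (Red.bc f G)).hom := inferInstanceAs (Smooth (pullback.snd (Red.bc f G).hom q))
  haveI : IsSeparated (F.obj (Red.bc f G)).hom := inferInstanceAs (IsSeparated (pullback.snd (Red.bc f G).hom q))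
  haveI : QuasiCompact (F.obj (Red.bc f G)).hom := inferInstanceAs (QuasiCompact (pullback.snd (Red.bc f G).hom q))
  haveI := GrpLimLib.isMonHom_cmp (rfl : q ≫ f = _) G
  haveI := GrpLimLib.isMonHom_cmp (rfl : q ≫ f = _) P
  have hmax := isMaximalTorus_comp_iso (MaxTorCent.isMaximalTorus_bc hi q) (conjEnd g)
  haveI : IsMonHom β := MaxTorusBC.isMonHom_of_mono β (F.map p') (by rw [hβ]; exact hmax.1)
  refine ⟨S'', q ≫ f, inferInstance, ⟨y, by rw [Scheme.Hom.comp_apply, hqy, hx]⟩, F.obj T, inferInstance,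
    β ≫ (cmp (rfl : q ≫ f = _) P).hom, inferInstance, ?_⟩
  rw [Category.assoc, ← MaxTorusBC.cmp_naturality (rfl : q ≫ f = _) p, ← Category.assoc, hβ]
  exact isMaximalTorus_comp_iso hmax _

/-- The centre lies in every parabolic subgroup. -/
theorem centre_le {Z : Over S} [GrpObj Z] (hG : Red.IsReductive G) (z : Z ⟶ G) (hZ : Red.IsCentre z) (p : P ⟶ G)
    (hP : Red.IsParabolic p) : ∃ l : Z ⟶ P, l ≫ p = z := by
  haveI := hG.1; haveI := hG.2.1; haveI := hZ.1; haveI := hP.1; haveI := hP.2.1
  choose S' f hf hs T iT t htm ht using exists_maxTorus_le hG p hP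
  haveI : ∀ s, Etale (f s) := hf
  let F : (∐ S') ⟶ S := Sigma.desc f
  haveI : Etale F := IsZariskiLocalAtSource.sigmaDesc (P := @Etale) hf
  haveI : Surjective F := ⟨fun w => by
    obtain ⟨y, hy⟩ := hs w
    exact ⟨Sigma.ι S' w y, by rw [← Scheme.Hom.comp_apply, Sigma.ι_desc]; exact hy⟩⟩
  have hfac : ∀ s, ∃ l : Red.bc (f s) Z ⟶ Red.bc (f s) P,
      l ≫ (Over.pullback (f s)).map p = (Over.pullback (f s)).map z := fun s => by
    haveI := htm s
    have hsc := ReductiveRank.selfCent_bc hG (f s) (ht s)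
    obtain ⟨a, ha⟩ := (hsc.2.2 _ ((Over.pullback (f s)).map z)).mpr fun W x k => by
      refine (DSPtsLib.theta_bijective (f s)).1 ?_
      rw [DSPtsLib.theta_mul, DSPtsLib.theta_mul, TorsionCent.theta_map']
      have h1 := (hZ.2.2 _ (DSPtsLib.theta (f s) x ≫ z)).mp ⟨_, rfl⟩ _ (𝟙 _)
        (DSPtsLib.theta (f s) (k ≫ t s ≫ (Over.pullback (f s)).map p))
      rwa [Category.id_comp, Category.comp_id] at h1
    exact ⟨a ≫ t s, by rw [Category.assoc, ha]⟩
  choose l hl using hfac
  obtain ⟨a, ha⟩ := TorusQI.exists_fac_of_openCover p.left (pullback.fst Z.hom F ≫ z.left)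
    ((sigmaOpenCover S').pullback₁ (pullback.snd Z.hom F)) fun j => by
      let o := Sigma.ι S' j
      have e : pullback.snd (pullback.snd Z.hom F) o ≫ f j =
          pullback.fst (pullback.snd Z.hom F) o ≫ pullback.fst Z.hom F ≫ Z.hom := by
        rw [pullback.condition, pullback.condition_assoc]
        exact congrArg (_ ≫ ·) (Sigma.ι_desc f j).symm
      let W : pullback (pullback.snd Z.hom F) o ⟶ (Red.bc (f j) Z).left :=
        pullback.lift (pullback.fst _ _ ≫ pullback.fst Z.hom F) (pullback.snd _ _) (by rw [Category.assoc]; exact e.symm)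
      refine ⟨W ≫ (l j).left ≫ pullback.fst P.hom (f j), ?_⟩
      have h1 : ((l j).left ≫ pullback.fst P.hom (f j)) ≫ p.left = pullback.fst Z.hom (f j) ≫ z.left := by
        have h2 := congrArg (fun m : Red.bc (f j) Z ⟶ Red.bc (f j) G => m.left ≫ pullback.fst G.hom (f j)) (hl j)
        simpa [pullback.lift_fst] using h2
      rw [Category.assoc W, h1, pullback.lift_fst_assoc, Category.assoc]
      rfl
  haveI : Mono p.left := inferInstance
  obtain ⟨l₀, hl₀⟩ := TorusQI.exists_fac_of_covers p.left z.left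
    ((FpqcDescLib.covers_of_isCovering (FpqcDescLib.isCovering_of_lfp F)).pullback Z.hom _ _
      (IsPullback.of_hasPullback Z.hom F)) a ha
  exact ⟨Over.homMk l₀ (by rw [← Over.w p, reassoc_of% hl₀, Over.w z]), Over.OverMorphism.ext hl₀⟩

end Groth.Agent.RedRank.Parabolic
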