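import Groth.Agent.SolvGrp.Fibre
import Groth.Agent.SolvGrp.TorusPts
import Groth.Agent.GrpSchLib.HomUnitLocus
import Groth.Agent.TorusQI.Geom
import Groth.Agent.S5286
import Mathlib.AlgebraicGeometry.AlgClosed.Basic
import Mathlib.AlgebraicGeometry.Morphisms.QuasiFinite

/-!
# A homomorphism from a torus into the kernel of a finite homomorphism is trivial
-/

universe u

open CategoryTheory CategoryTheory.Limits MonoidalCategory CartesianMonoidalCategory MonObj AlgebraicGeometry

set_option backward.isDefEq.respectTransparency false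
set_option backward.isDefEq.respectTransparency.types false
set_option linter.style.haveILetI false
set_option synthInstance.maxHeartbeats 200000
set_option maxHeartbeats 1000000
set_option autoImplicit false

namespace Groth.Agent.RedRank.TorusFinite

open GrpSchLib

/-- Over an algebraically closed field. -/
theorem eq_one_over {k : Type u} [Field k] [IsAlgClosed k] {T G H : Over (Spec (CommRingCat.of k))}
    [GrpObj T] [GrpObj G] [GrpObj H] [IsSeparated G.hom] [LocallyOfFiniteType G.hom] (hT : Red.IsTorus T)
    (f : G ⟶ H) [IsFinite f.left] (u : T ⟶ G) [IsMonHom u] (hu : u ≫ f = 1) (h1 : η[G] ≫ f = η[H]) : u = 1 := by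
  obtain ⟨-, hsm, hconn, -⟩ := SolvGrp.torus_props hT
  haveI := hsm; haveI := hconn
  haveI : IsReduced T.left := isReduced_of_smooth_field T.hom
  let p := IsLocalRing.closedPoint k
  have hpt : ∀ q : Spec (CommRingCat.of k), q = p := fun q => Subsingleton.elim (α := PrimeSpectrum k) q p
  let e := η[G].left p
  have hmap : ∀ t : T.left, u.left t ∈ f.left ⁻¹' {η[H].left p} := fun t => by
    show f.left (u.left t) = _
    rw [← Scheme.Hom.comp_apply, ← Over.comp_left, hu]
    show (toUnit T ≫ η[H]).left t = _
    rw [Over.comp_left, Scheme.Hom.comp_apply]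
    exact congrArg η[H].left (hpt _)
  have hd : _root_.IsDiscrete (f.left ⁻¹' {η[H].left p}) := f.left.isDiscrete_preimage_singleton _
  have hconst : ∀ a b : T.left, u.left a = u.left b := fun a b =>
    (isPreconnected_range u.left.continuous).constant_of_mapsTo hd continuousOn_id
      (fun z hz => by obtain ⟨t, rfl⟩ := hz; exact hmap t) ⟨a, rfl⟩ ⟨b, rfl⟩
  have he : u.left (η[T].left p) = e := by
    rw [← Scheme.Hom.comp_apply, ← Over.comp_left, IsMonHom.one_hom]
  haveI : LocallyOfFiniteType T.hom := inferInstance
  haveI : LocallyOfFiniteType (u.left ≫ G.hom) := by rw [Over.w u]; infer_instance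
  refine Over.OverMorphism.ext (ext_of_apply_eq G.hom Set.univ isOpen_univ.isLocallyClosed dense_univ ?_
    (by rw [Over.w u, Over.w (1 : T ⟶ G)]))
  intro t _ _
  rw [hconst t (η[T].left p), he]
  show e = (toUnit T ≫ η[G]).left t
  rw [Over.comp_left, Scheme.Hom.comp_apply]
  exact congrArg η[G].left (hpt _).symm

variable {S : Scheme.{u}} {T G H : Over S} [GrpObj T] [GrpObj G] [GrpObj H]

/-- A homomorphism from a torus into the kernel of a finite homomorphism is trivial. -/
theorem eq_one (hT : Red.IsTorus T) [IsSeparated G.hom] [LocallyOfFinitePresentation G.hom] [QuasiCompact G.hom]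
    (f : G ⟶ H) [IsMonHom f] [IsFinite f.left] (u : T ⟶ G) [IsMonHom u] (hu : u ≫ f = 1) : u = 1 := by
  obtain ⟨U, -, hU, hU1⟩ := S5286.result T G (TorusQI.isMultTypeFT_of_isTorus hT)
    (Or.inr ⟨inferInstance, inferInstance, inferInstance⟩) u
  have hall : ∀ s : S, HomUnitLocus.Triv u (S.fromSpecResidueField s) := fun s => by
    let b := Red.geomPt s
    let F := Over.pullback b
    haveI : IsFinite (F.map f).left := MorphismProperty.baseChange_map b f ‹IsFinite f.left›
    haveI : IsSeparated (Red.bc b G).hom := inferInstanceAs (IsSeparated (pullback.snd G.hom b))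
    haveI : LocallyOfFiniteType (Red.bc b G).hom := inferInstanceAs (LocallyOfFiniteType (pullback.snd G.hom b))
    have h1 := eq_one_over (k := AlgebraicClosure (S.residueField s)) (SolvGrp.isTorus_bc b hT)
      (F.map f) (F.map u)
      (by rw [← F.map_comp, hu]; exact map_one (Over.pullback b).homMonoidHom)
      (IsMonHom.one_hom (F.map f))
    have h2 := HomUnitLocus.triv_of_map_eq_one h1
    exact HomUnitLocus.Triv.of_covers _ (HomUnitLocus.covers_field
      (CommRingCat.ofHom (algebraMap (S.residueField s) (AlgebraicClosure (S.residueField s))))) h2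
  have htop : U = ⊤ := top_le_iff.1 fun s _ => (hU s).2 (HomUnitLocus.map_eq_one_of_triv (hall s))
  subst htop
  have ht := HomUnitLocus.triv_of_map_eq_one hU1
  haveI : IsIso (⊤ : S.Opens).ι := inferInstanceAs (IsIso S.topIso.hom)
  have := ht T (Over.homMk (T.hom ≫ inv (⊤ : S.Opens).ι) (by
    show (T.hom ≫ inv (⊤ : S.Opens).ι) ≫ (⊤ : S.Opens).ι = T.hom
    rw [Category.assoc, IsIso.inv_hom_id, Category.comp_id])) (𝟙 T)
  rwa [Category.id_comp] at this

end Groth.Agent.RedRank.TorusFinite
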