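import Groth.Agent.RedRank.CentreGlobal
import Groth.Agent.RedRank.Main
import Groth.Agent.RedRank.Semi
import Groth.Agent.RedRank.IsoNhd
import Groth.Agent.RedRank.CartanNhd
import Groth.Agent.MaxTorTransp.Conj
import Groth.Agent.MultTypeLib.SubgroupTransporter

/-!
# Groups of unipotent rank zero

Smooth affine groups with connected fibres and unipotent rank zero have étale-local maximal tori, these are their own
centralisers, and the centre is the reductive centre.
-/

universe u

open CategoryTheory CategoryTheory.Limits MonoidalCategory CartesianMonoidalCategory MonObj AlgebraicGeometry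

set_option backward.isDefEq.respectTransparency false
set_option backward.isDefEq.respectTransparency.types false
set_option linter.style.haveILetI false
set_option synthInstance.maxHeartbeats 200000
set_option maxHeartbeats 1000000
set_option autoImplicit false

namespace Groth.Agent.RedRank.UnipZero

open GrpSchLib MaxTorCent MaxTorTransp CentreDescent CentreGlobal
open GrpLimLib (cmp)

variable {S : Scheme.{u}}

/-- Being its own centraliser is invariant under isomorphisms. -/
theorem selfCent_transport {G G' T T' : Over S} [GrpObj G] [GrpObj G'] [GrpObj T] [GrpObj T'] (e : G ≅ G')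
    [IsMonHom e.hom] (φ : T ≅ T') {i : T ⟶ G} (i' : T' ⟶ G') [IsMonHom i'] [Mono i'] (hφ : φ.hom ≫ i' = i ≫ e.hom)
    (h : Red.IsCentralizerOf i i) : Red.IsCentralizerOf i' i' := by
  have hi' : i' = φ.inv ≫ i ≫ e.hom := by rw [← hφ, Iso.inv_hom_id_assoc]
  haveI : IsMonHom e.inv := TorsionCent.isMonHom_inv_of e
  refine ⟨inferInstance, inferInstance, fun X g => ⟨fun ⟨z, hz⟩ X' x y => ?_, fun hg => ?_⟩⟩
  · have h1 := (h.2.2 X (g ≫ e.inv)).mp ⟨z ≫ φ.inv, by rw [← hz, hi']; simp⟩ X' x (y ≫ φ.inv)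
    have h2 := congrArg (· ≫ e.hom) h1
    simp only [MonObj.mul_comp, Category.assoc, Iso.inv_hom_id, Category.comp_id] at h2
    rwa [← hi'] at h2
  · obtain ⟨z, hz⟩ := (h.2.2 X (g ≫ e.inv)).mpr fun X' x y => by
      have h1 := congrArg (· ≫ e.inv) (hg X' x (y ≫ φ.hom))
      simp only [hi', MonObj.mul_comp, Category.assoc, Iso.hom_inv_id, Category.comp_id, Iso.hom_inv_id_assoc] at h1
      exact h1
    exact ⟨z ≫ φ.hom, by rw [Category.assoc, hφ, reassoc_of% hz, Iso.inv_hom_id, Category.comp_id]⟩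

/-- A torus which is its own centraliser is a maximal torus. -/
theorem isMaximalTorus_of_selfCent {G T : Over S} [GrpObj G] [GrpObj T] {i : T ⟶ G} [IsMonHom i] [Mono i]
    (hT : Red.IsTorus T) (h : Red.IsCentralizerOf i i) : Red.IsMaximalTorus i := by
  refine ⟨inferInstance, inferInstance, hT, fun s T' _ j _ _ f hT' hf => ?_⟩
  let F := Over.pullback (Red.geomPt s)
  haveI : F.IsRightAdjoint := (Over.mapPullbackAdj (Red.geomPt s)).isRightAdjoint
  have hc := SolvGrp.isCentralizerOf_bc (Red.geomPt s) i i h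
  obtain ⟨l, hl⟩ := (hc.2.2 T' j).mpr fun X x y => by
    rw [← hf, ← Category.assoc y f j, ← MonObj.mul_comp, ← MonObj.mul_comp,
      GrpSchLib.MultTypeComm.points_comm (TorusQI.isMultTypeFT_of_isTorus hT') x (y ≫ f)]
  refine ⟨l, ?_, ?_⟩
  · rw [← cancel_mono (F.map i), Category.assoc, hl, hf, Category.id_comp]
  · rw [← cancel_mono j, Category.assoc, hf, hl, Category.id_comp]

/-- A torus of the rank of a maximal torus is maximal. -/
theorem isMaxTorus_of_dim {k : Type u} [Field k] [IsAlgClosed k] {G T T₁ : Over (Spec (CommRingCat.of k))} [GrpObj G]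
    [GrpObj T] [GrpObj T₁] [IsAffine G.left] [Smooth G.hom] (i : T ⟶ G) [IsMonHom i] [Mono i] (hT : Red.IsTorus T)
    {n : ℕ} (hn : Red.IsSplitTorusWith (Fin n → ℤ) T) {i₁ : T₁ ⟶ G} (h₁ : AGF.IsMaxTorus i₁)
    (hn₁ : Red.IsSplitTorusWith (Fin n → ℤ) T₁) : AGF.IsMaxTorus i := by
  haveI : QuasiCompact G.hom := inferInstance
  refine ⟨inferInstance, inferInstance, hT, fun T' _ j _ _ f hT' hf => ?_⟩
  haveI : IsMonHom f := AGFLib.isMonHom_of_mul f fun X a c => by
    rw [← cancel_mono j, MonObj.mul_comp (a ≫ f), Category.assoc, Category.assoc, Category.assoc, hf,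
      MonObj.mul_comp a c]
  haveI : Mono (f ≫ j) := hf.symm ▸ ‹Mono i›
  haveI : Mono f := mono_of_mono f j
  have h2 := dim_le h₁ j hT'
  refine isIso_of_dim hT hT' f (le_antisymm ?_ ?_)
  · obtain ⟨ha, hs, hc, -⟩ := SolvGrp.torus_props hT'
    obtain ⟨ha', hs', hc', -⟩ := SolvGrp.torus_props hT
    haveI := ha; haveI := hs; haveI := hc; haveI := ha'; haveI := hs'; haveI := hc'
    haveI : IsClosedImmersion f.left := DomHom.isClosedImmersion_of_mono f
    exact f.left.isClosedEmbedding.isInducing.topologicalKrullDim_le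
  · rw [dim_split hn₁, ← dim_split hn] at h2
    exact h2

/-- The hypothesis of unipotent rank zero over any algebraically closed point. -/
theorem selfCent_geom {G : Over S} [GrpObj G] [IsAffineHom G.hom] [Smooth G.hom] (h0 : SGA3x.UnipotentRankZero G)
    {K : Type u} [Field K] [IsAlgClosed K] (b : Spec (CommRingCat.of K) ⟶ S) {T' : Over (Spec (CommRingCat.of K))}
    [GrpObj T'] {i' : T' ⟶ Red.bc b G} (hi' : AGF.IsMaxTorus i') : Red.IsCentralizerOf i' i' := by
  haveI := hi'.1; haveI := hi'.2.1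
  let s : S := b (IsLocalRing.closedPoint K)
  obtain ⟨σ, hσ⟩ := exists_geom_lift b s rfl
  haveI : IsAffineHom (pullback.snd G.hom b) := MorphismProperty.pullback_snd (P := @IsAffineHom) _ _ inferInstance
  haveI : Smooth (Red.bc b G).hom := inferInstanceAs (Smooth (pullback.snd G.hom b))
  haveI : QuasiCompact (Red.bc b G).hom := inferInstanceAs (QuasiCompact (pullback.snd G.hom b))
  haveI : IsAffineHom (pullback.snd G.hom (Red.geomPt s)) := MorphismProperty.pullback_snd (P := @IsAffineHom) _ _ inferInstance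
  haveI : IsAffine (Red.geomFibre s G).left := isAffine_of_isAffineHom (pullback.snd G.hom (Red.geomPt s))
  haveI : Smooth (Red.geomFibre s G).hom := inferInstanceAs (Smooth (pullback.snd G.hom (Red.geomPt s)))
  haveI : QuasiCompact (Red.geomFibre s G).hom := inferInstanceAs (QuasiCompact (pullback.snd G.hom (Red.geomPt s)))
  obtain ⟨T₀, _, i₀, hi₀⟩ := exists_maximal (Red.geomFibre s G)
  haveI := hi₀.1; haveI := hi₀.2.1
  haveI := GrpLimLib.isMonHom_cmp hσ G
  haveI : (Over.pullback σ).IsRightAdjoint := (Over.mapPullbackAdj σ).isRightAdjoint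
  let i₁ : Red.bc σ T₀ ⟶ Red.bc b G := (Over.pullback σ).map i₀ ≫ (cmp hσ G).hom
  haveI : IsMonHom i₁ := inferInstance
  haveI : Mono i₁ := inferInstance
  have h1 : Red.IsCentralizerOf i₁ i₁ :=
    selfCent_transport (cmp hσ G) (Iso.refl _) i₁ (Category.id_comp _)
      (SolvGrp.isCentralizerOf_bc σ i₀ i₀ (h0 s T₀ i₀ hi₀))
  have hm : Red.IsMaximalTorus i₁ := isMaximalTorus_comp_iso (MaxTorCent.isMaximalTorus_bc hi₀ σ) _
  obtain ⟨g, φ, hφ⟩ := MaxTorTransp.exists_conj_maxTorus (SolvGrp.isMaxTorus_of_isMaximalTorus hm) hi'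
  let e : Red.bc b G ≅ Red.bc b G :=
    { hom := AGFLib.Borel.conjM g
      inv := AGFLib.Borel.conjM g⁻¹
      hom_inv_id := by rw [AGFLib.Borel.conjM_comp, inv_mul_cancel, AGFLib.Borel.conjM_one]
      inv_hom_id := by rw [AGFLib.Borel.conjM_comp, mul_inv_cancel, AGFLib.Borel.conjM_one] }
  haveI : IsMonHom e.hom := inferInstanceAs (IsMonHom (AGFLib.Borel.conjM g))
  refine selfCent_transport e φ i' (hφ.trans ?_) h1
  show _ = i₁ ≫ AGFLib.Borel.conjM g
  rw [AGFLib.Borel.comp_conjM]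

variable {G : Over S} [GrpObj G] [IsAffineHom G.hom] [Smooth G.hom]

/-- Near every point there is, étale-locally, a torus of the rank of that point. -/
theorem exists_etale_subtorus {s : S} {n : ℕ} (h : HasRank G (Red.geomPt s) n) :
    ∃ (S' : Scheme.{u}) (g : S' ⟶ S), Etale g ∧ s ∈ Set.range g ∧
      ∃ (T : Over S') (_ : GrpObj T) (i : T ⟶ Red.bc g G), IsMonHom i ∧ Mono i ∧ Red.IsTorus T ∧
        ∀ {K : Type u} [Field K] [IsAlgClosed K] (b : Spec (CommRingCat.of K) ⟶ S'),
          Red.IsSplitTorusWith (Fin n → ℤ) (Red.bc b T) := by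
  obtain ⟨H, _, hHtor, hH, hHsplit, hHiso⟩ := exists_std S n
  obtain ⟨A, υ, ⟨hυ, huniv⟩, hAs, -⟩ := Groth.Agent.S5246.result H G hH inferInstance inferInstance
  haveI := hAs
  let ε : (Over.map A.hom).obj (𝟙_ (Over A.left)) ⟶ A := Over.homMk (𝟙 A.left)
  obtain ⟨uA, huAm, huA⟩ := exists_hom A.hom ((H ◁ ε) ≫ υ) (HomRepLib.isHomFamily_comp hυ ε)
  haveI := huAm
  obtain ⟨T₀, _, i₀, hi₀, hs₀⟩ := h
  haveI := hi₀.1; haveI := hi₀.2.1
  let b := Red.geomPt s
  obtain ⟨e, he⟩ := hHiso b T₀ hs₀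
  haveI := he
  haveI : IsIso e.hom := e.isIso_hom
  let u₀ : Red.bc b H ⟶ Red.bc b G := e.hom ≫ i₀
  haveI : IsMonHom u₀ := inferInstanceAs (IsMonHom (e.hom ≫ i₀))
  haveI : Mono u₀ := inferInstanceAs (Mono (e.hom ≫ i₀))
  obtain ⟨φ₀, hφ₀, hu₀⟩ := exists_family b u₀
  obtain ⟨a₀, ha₀, -⟩ := huniv _ φ₀ hφ₀
  beta_reduce at ha₀
  have hinj := inj_of_classify υ uA huA b u₀ a₀ (fun Z z => by rw [ha₀]; exact hu₀ Z z)
  haveI : IsSeparated (Red.bc A.hom G).hom := inferInstanceAs (IsSeparated (pullback.snd G.hom A.hom))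
  obtain ⟨U, hmem, hU⟩ := HomMonoLocus.main (u := uA) (MultTypeBC.isMultTypeFT_bc A.hom hH)
  let p₀ : Spec (CommRingCat.of (AlgebraicClosure (S.residueField s))) ⟶ A.left := a₀.left
  let α : A.left := p₀ (IsLocalRing.closedPoint _)
  have hα : α ∈ U := by
    rw [hmem]
    refine HomMonoLocus.Inj.of_covers
      (Spec.map (A.left.descResidueField (Scheme.stalkClosedPointTo p₀))) (HomUnitLocus.covers_field _) ?_
    rw [Scheme.descResidueField_stalkClosedPointTo_fromSpecResidueField]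
    exact hinj
  have hαs : A.hom α = s := by
    show A.hom (a₀.left _) = s
    rw [← Scheme.Hom.comp_apply, (Over.w a₀).trans (Category.id_comp b), Scheme.Hom.comp_apply]
    exact Scheme.fromSpecResidueField_apply s _
  obtain ⟨S', g, s₀, hg, hgs, h, hh⟩ := Groth.Agent.S0412.result (U.ι ≫ A.hom) s ⟨⟨α, hα⟩, hαs⟩
  haveI := hg
  refine ⟨S', g, hg, ⟨s₀, hgs⟩, ?_⟩
  let w : S' ⟶ A.left := h ≫ U.ι
  have hw : w ≫ A.hom = g := (Category.assoc _ _ _).trans hh
  haveI : Mono ((Over.pullback w).map uA).left := HomMonoLocus.mono_of_inj (hU.comp h)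
  haveI : Mono ((Over.pullback w).map uA) := Over.mono_of_mono_left _
  haveI := GrpLimLib.isMonHom_cmp hw G
  haveI := GrpLimLib.isMonHom_cmp hw H
  haveI : IsMonHom (cmp hw H).inv := TorsionCent.isMonHom_inv_of _
  exact ⟨Red.bc g H, inferInstance, (cmp hw H).inv ≫ (Over.pullback w).map uA ≫ (cmp hw G).hom, inferInstance,
    inferInstance, SolvGrp.isTorus_bc g hHtor, fun {K} _ _ b => hHsplit g b⟩

variable (hconn : ∀ s : S, _root_.IsConnected (G.hom.base ⁻¹' {s})) (h0 : SGA3x.UnipotentRankZero G)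
include hconn h0

/-- Near every point there is, étale-locally, a maximal torus. -/
theorem exists_etale_maxTorus (s : S) :
    ∃ (S' : Scheme.{u}) (g : S' ⟶ S), Etale g ∧ s ∈ Set.range g ∧
      ∃ (T : Over S') (_ : GrpObj T) (i : T ⟶ Red.bc g G), Red.IsMaximalTorus i := by
  let b := Red.geomPt s
  haveI : IsAffineHom (pullback.snd G.hom b) := MorphismProperty.pullback_snd (P := @IsAffineHom) _ _ inferInstance
  haveI : IsAffine (Red.geomFibre s G).left := isAffine_of_isAffineHom (pullback.snd G.hom b)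
  haveI : Smooth (Red.geomFibre s G).hom := inferInstanceAs (Smooth (pullback.snd G.hom b))
  haveI : QuasiCompact (Red.geomFibre s G).hom := inferInstanceAs (QuasiCompact (pullback.snd G.hom b))
  obtain ⟨T₁, _, i₁, hi₁⟩ := exists_maximal (Red.geomFibre s G)
  obtain ⟨n, hrank, -⟩ := exists_rank ⟨T₁, inferInstance, i₁, hi₁, rfl⟩
  obtain ⟨S', g, hg, ⟨x, hx⟩, T, _, i, him, himo, hT, hsplit⟩ := exists_etale_subtorus hrank
  haveI := hg; haveI := him; haveI := himo
  haveI : Smooth (Red.bc g G).hom := inferInstanceAs (Smooth (pullback.snd G.hom g))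
  haveI : IsAffineHom (Red.bc g G).hom := MorphismProperty.pullback_snd (P := @IsAffineHom) _ _ inferInstance
  haveI : IsSeparated (Red.bc g G).hom := inferInstance
  haveI : QuasiCompact (Red.bc g G).hom := inferInstance
  obtain ⟨C, _, c, hc, hcl, hCs⟩ := MaxTorCent.exists_centralizer i (TorusQI.isMultTypeFT_of_isTorus hT)
  haveI := hcl; haveI := hCs; haveI := hc.1; haveI := hc.2.1
  obtain ⟨j, hj⟩ := (hc.2.2 T i).mpr fun X x y => by
    rw [← MonObj.mul_comp, ← MonObj.mul_comp, MultTypeComm.points_comm (TorusQI.isMultTypeFT_of_isTorus hT) x y]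
  haveI : IsMonHom j := MaxTorusBC.isMonHom_of_mono j c (by rw [hj]; infer_instance)
  haveI : Mono (j ≫ c) := hj.symm ▸ himo
  haveI : Mono j := mono_of_mono j c
  haveI : Smooth T.hom := FixTorus.smooth_of_isTorus hT
  haveI : IsAffineHom C.hom := by rw [← Over.w c]; infer_instance
  haveI : IsClosedImmersion j.left :=
    MultTypeLib.SubgroupTransporter.isClosedImmersion_of_mono (TorusQI.isMultTypeFT_of_isTorus hT) j
  -- the torus fills the centraliser on the fibre at the chosen point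
  let K := AlgebraicClosure (S'.residueField x)
  let b' : Spec (CommRingCat.of K) ⟶ S' := Red.geomPt x
  let F := Over.pullback b'
  haveI : F.IsRightAdjoint := (Over.mapPullbackAdj b').isRightAdjoint
  have hb' : (b' ≫ g) (IsLocalRing.closedPoint K) = s := by
    rw [Scheme.Hom.comp_apply, ← hx]
    exact congrArg g (Scheme.fromSpecResidueField_apply x _)
  obtain ⟨T₂, _, i₂, hi₂, hn₂⟩ := HasRank.of_geomPt (b' ≫ g) s hb' hrank
  haveI : Smooth (Red.bc (b' ≫ g) G).hom := inferInstanceAs (Smooth (pullback.snd G.hom (b' ≫ g)))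
  haveI : IsAffineHom (pullback.snd G.hom (b' ≫ g)) := MorphismProperty.pullback_snd (P := @IsAffineHom) _ _ inferInstance
  haveI : IsAffine (Red.bc (b' ≫ g) G).left := isAffine_of_isAffineHom (pullback.snd G.hom (b' ≫ g))
  haveI := GrpLimLib.isMonHom_cmp (rfl : b' ≫ g = _) G
  let iK : Red.bc b' T ⟶ Red.bc (b' ≫ g) G := F.map i ≫ (cmp (rfl : b' ≫ g = _) G).hom
  haveI : IsMonHom iK := inferInstance
  haveI : Mono iK := inferInstance
  have hsc := selfCent_geom h0 (b' ≫ g) (isMaxTorus_of_dim iK (SolvGrp.isTorus_bc b' hT) (hsplit b')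
    (SolvGrp.isMaxTorus_of_isMaximalTorus hi₂) hn₂)
  haveI : IsMonHom (cmp (rfl : b' ≫ g = _) G).inv := TorsionCent.isMonHom_inv_of _
  haveI : IsMonHom (cmp (rfl : b' ≫ g = _) G).symm.hom := ‹IsMonHom (cmp (rfl : b' ≫ g = _) G).inv›
  have hscT : Red.IsCentralizerOf (F.map i) (F.map i) :=
    selfCent_transport (cmp (rfl : b' ≫ g = _) G).symm (Iso.refl _) (F.map i) (by
      show 𝟙 _ ≫ F.map i = (F.map i ≫ (cmp (rfl : b' ≫ g = _) G).hom) ≫ (cmp (rfl : b' ≫ g = _) G).inv
      rw [Category.assoc, Iso.hom_inv_id, Category.comp_id, Category.id_comp]) hsc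
  have hcK := SolvGrp.isCentralizerOf_bc b' i c hc
  obtain ⟨l, hl⟩ := (hscT.2.2 _ (F.map c)).mpr ((hcK.2.2 _ (F.map c)).mp ⟨𝟙 _, Category.id_comp _⟩)
  have hiso : IsIso (F.map j) := ⟨l, by
    rw [← cancel_mono (F.map i), Category.assoc, hl, ← F.map_comp, hj, Category.id_comp], by
    rw [← cancel_mono (F.map c), Category.assoc, ← F.map_comp, hj, hl, Category.id_comp]⟩
  obtain ⟨V, hxV, hVj, -⟩ := exists_nhd_isIso j
    (fun t => RedRank.isConnected_centralizer (RedCentre.isConnected_fibre_bc g G hconn) i hT hc t) b' hiso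
  -- on the neighbourhood the torus is its own centraliser
  haveI := hVj
  haveI : (Over.pullback V.ι).IsRightAdjoint := (Over.mapPullbackAdj V.ι).isRightAdjoint
  have hcV := SolvGrp.isCentralizerOf_bc V.ι i c hc
  have hjV : (Over.pullback V.ι).map j ≫ (Over.pullback V.ι).map c = (Over.pullback V.ι).map i := by
    rw [← Functor.map_comp, hj]
  have hsV : Red.IsCentralizerOf ((Over.pullback V.ι).map i) ((Over.pullback V.ι).map i) :=
    ⟨inferInstance, inferInstance, fun X p => by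
      rw [← hcV.2.2 X p]
      refine ⟨fun ⟨z, hz⟩ => ⟨z ≫ (Over.pullback V.ι).map j, by rw [Category.assoc, hjV, hz]⟩,
        fun ⟨z, hz⟩ => ⟨z ≫ inv ((Over.pullback V.ι).map j), ?_⟩⟩
      rw [Category.assoc, ← hjV, IsIso.inv_hom_id_assoc, hz]⟩
  haveI := GrpLimLib.isMonHom_cmp (rfl : V.ι ≫ g = _) G
  haveI : Smooth (Red.bc V.ι (Red.bc g G)).hom := inferInstanceAs (Smooth (pullback.snd (Red.bc g G).hom V.ι))
  refine ⟨V, V.ι ≫ g, inferInstance, ⟨⟨x, ?_⟩, ?_⟩, Red.bc V.ι T, inferInstance,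
    (Over.pullback V.ι).map i ≫ (cmp (rfl : V.ι ≫ g = _) G).hom,
    isMaximalTorus_comp_iso (isMaximalTorus_of_selfCent (SolvGrp.isTorus_bc V.ι hT) hsV) _⟩
  · have h := Scheme.fromSpecResidueField_apply x
      (Spec.map (CommRingCat.ofHom (algebraMap (S'.residueField x) K)) (IsLocalRing.closedPoint K))
    exact h ▸ hxV
  · rw [Scheme.Hom.comp_apply]
    exact hx

/-- Unipotent rank zero gives étale-local maximal tori. -/
theorem hasMaxTorusEtaleLocally : SGA3x.HasMaxTorusEtaleLocally G := by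
  choose S' g hg hs T iT i hi using exists_etale_maxTorus hconn h0
  haveI : ∀ s, Etale (g s) := hg
  let F : (∐ S') ⟶ S := Sigma.desc g
  haveI : Etale F := IsZariskiLocalAtSource.sigmaDesc (P := @Etale) hg
  haveI : Surjective F := ⟨fun s => by
    obtain ⟨y, hy⟩ := hs s
    exact ⟨Sigma.ι S' s y, by rw [← Scheme.Hom.comp_apply, Sigma.ι_desc]; exact hy⟩⟩
  haveI : Smooth (Red.bc F G).hom := inferInstanceAs (Smooth (pullback.snd G.hom F))
  haveI : IsSeparated (Red.bc F G).hom := inferInstanceAs (IsSeparated (pullback.snd G.hom F))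
  haveI : QuasiCompact (Red.bc F G).hom := inferInstanceAs (QuasiCompact (pullback.snd G.hom F))
  obtain ⟨T₀, _, i₀, hi₀⟩ := TorsionCent.exists_maximalTorus_sigma S' (G := Red.bc F G) fun j => by
    have e : Sigma.ι S' j ≫ F = g j := Sigma.ι_desc _ _
    haveI := GrpLimLib.isMonHom_cmp e G
    haveI : IsMonHom (cmp e G).inv := TorsionCent.isMonHom_inv_of (cmp e G)
    exact ⟨T j, iT j, i j ≫ (cmp e G).inv, isMaximalTorus_comp_iso (hi j) _⟩
  exact ⟨∐ S', F, inferInstance, inferInstance, T₀, inferInstance, i₀, hi₀⟩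

omit hconn in
/-- A maximal torus of a base change is its own centraliser. -/
theorem selfCent_of_maximal {S' : Scheme.{u}} (f : S' ⟶ S) {T : Over S'} [GrpObj T] {i : T ⟶ Red.bc f G}
    (hi : Red.IsMaximalTorus i) : Red.IsCentralizerOf i i := by
  haveI := hi.1; haveI := hi.2.1
  haveI : Smooth (Red.bc f G).hom := inferInstanceAs (Smooth (pullback.snd G.hom f))
  haveI : IsAffineHom (Red.bc f G).hom := MorphismProperty.pullback_snd (P := @IsAffineHom) _ _ inferInstance
  haveI : IsSeparated (Red.bc f G).hom := inferInstance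
  have hT := hi.2.2.1
  obtain ⟨C, _, c, hc, hcl, hCs⟩ := MaxTorCent.exists_centralizer i (TorusQI.isMultTypeFT_of_isTorus hT)
  haveI := hcl; haveI := hCs; haveI := hc.1; haveI := hc.2.1
  obtain ⟨j, hj⟩ := (hc.2.2 T i).mpr fun X x y => by
    rw [← MonObj.mul_comp, ← MonObj.mul_comp, MultTypeComm.points_comm (TorusQI.isMultTypeFT_of_isTorus hT) x y]
  haveI : IsMonHom j := MaxTorusBC.isMonHom_of_mono j c (by rw [hj]; infer_instance)
  haveI : Mono (j ≫ c) := hj.symm ▸ hi.2.1
  haveI : Mono j := mono_of_mono j c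
  haveI : Smooth T.hom := FixTorus.smooth_of_isTorus hT
  haveI : IsIso j := MaxTorTransp.isIso_of_fibre_sections j fun x => by
    let b' := Red.geomPt x
    let F := Over.pullback b'
    haveI : F.IsRightAdjoint := (Over.mapPullbackAdj b').isRightAdjoint
    haveI := GrpLimLib.isMonHom_cmp (rfl : b' ≫ f = _) G
    haveI : IsMonHom (cmp (rfl : b' ≫ f = _) G).inv := TorsionCent.isMonHom_inv_of _
    haveI : IsMonHom (cmp (rfl : b' ≫ f = _) G).symm.hom := ‹IsMonHom (cmp (rfl : b' ≫ f = _) G).inv›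
    haveI : Smooth (Red.geomFibre x (Red.bc f G)).hom := inferInstanceAs (Smooth (pullback.snd (Red.bc f G).hom b'))
    have hsc := selfCent_geom h0 (b' ≫ f) (SolvGrp.isMaxTorus_of_isMaximalTorus
      (isMaximalTorus_comp_iso (isMaximalTorus_geomFibre hi x) (cmp (rfl : b' ≫ f = _) G).hom))
    have hscT : Red.IsCentralizerOf (F.map i) (F.map i) :=
      selfCent_transport (cmp (rfl : b' ≫ f = _) G).symm (Iso.refl _) (F.map i) (by
        show 𝟙 _ ≫ F.map i = (F.map i ≫ (cmp (rfl : b' ≫ f = _) G).hom) ≫ (cmp (rfl : b' ≫ f = _) G).inv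
        rw [Category.assoc, Iso.hom_inv_id, Category.comp_id, Category.id_comp]) hsc
    obtain ⟨l, hl⟩ := (hscT.2.2 _ (F.map c)).mpr
      (((SolvGrp.isCentralizerOf_bc b' i c hc).2.2 _ (F.map c)).mp ⟨𝟙 _, Category.id_comp _⟩)
    exact ⟨l, by
      show l ≫ F.map j = 𝟙 _
      rw [← cancel_mono (F.map c), Category.assoc, ← F.map_comp, hj, hl, Category.id_comp]⟩
  refine ⟨inferInstance, inferInstance, fun X p => ?_⟩
  rw [← hc.2.2 X p]
  refine ⟨fun ⟨z, hz⟩ => ⟨z ≫ j, by rw [Category.assoc, hj, hz]⟩, fun ⟨z, hz⟩ => ⟨z ≫ inv j, ?_⟩⟩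
  rw [Category.assoc, ← hj, IsIso.inv_hom_id_assoc, hz]

/-- The reductive centre is the centre. -/
theorem exists_centre :
    ∃ (Z : Over S) (_ : GrpObj Z) (z : Z ⟶ G), Red.IsCentre z ∧ IsMonHom z ∧ Mono z ∧ SGA3x.IsMultTypeFT Z ∧
      Central z ∧ Univ z := by
  obtain ⟨S', f, hf, hfs, T, _, i, hi⟩ := hasMaxTorusEtaleLocally hconn h0
  haveI := hf; haveI := hfs; haveI := hi.1; haveI := hi.2.1
  haveI : Smooth (Red.bc f G).hom := inferInstanceAs (Smooth (pullback.snd G.hom f))
  haveI : IsAffineHom (Red.bc f G).hom := MorphismProperty.pullback_snd (P := @IsAffineHom) _ _ ‹_›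
  obtain ⟨Z', _, z', h1, h2, h3, h4, h5, hex⟩ :=
    exists_centre_of_torus i (RedCentre.isConnected_fibre_bc f G hconn) hi
  haveI := h1; haveI := h2
  have hcov := FpqcDescLib.isCovering_of_lfp f
  obtain ⟨Z, _, z, hzm, hzmono, hZ, hzc, hzu⟩ := exists_descent f hcov z' h3 h4 h5
  haveI := hzm; haveI := hzmono
  obtain ⟨w, hw⟩ := hzu S' f Z' z' h3 h4
  refine ⟨Z, inferInstance, z, ⟨hzm, hzmono, fun X g => ⟨fun ⟨a, ha⟩ X' x y => ?_, fun hg => ?_⟩⟩, hzm, hzmono,
    hZ, hzc, hzu⟩
  · rw [Category.comp_id, ← ha, ← Category.assoc]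
    exact hzc X' (x ≫ a) y
  · have hgc : Central g := fun Y y h => by
      have := hg Y y h
      rwa [Category.comp_id] at this
    let P := (Over.pullback f).obj X
    let v := (Over.pullback f).map g
    let p : (Over.map f).obj P ⟶ X := DSPtsLib.theta f (𝟙 P)
    have hθ : DSPtsLib.theta f v = p ≫ g := by
      rw [show v = 𝟙 P ≫ v from (Category.id_comp _).symm, TorsionCent.theta_map']
    have hv : Central v := (central_theta f v).mp (by
      rw [hθ]
      intro Y y h
      rw [← Category.assoc]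
      exact hgc Y _ h)
    obtain ⟨t, ht⟩ := ((selfCent_of_maximal h0 f hi).2.2 P v).mpr fun Y y h => hv Y y _
    obtain ⟨l, hl⟩ := hex P v ⟨hv, t, ht⟩
    haveI : Mono z.left := inferInstanceAs (Mono ((Over.forget _).map z))
    have he : DSPtsLib.theta f (l ≫ w) ≫ z = p ≫ g := by
      rw [← TorsionCent.theta_map', Category.assoc, hw, hl, hθ]
    have hp : p.left = pullback.fst X.hom f := by
      simp only [p, DSPtsLib.theta_left]
      exact Category.id_comp _
    obtain ⟨a, ha⟩ := TorusQI.exists_fac_of_covers z.left g.left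
      ((FpqcDescLib.covers_of_isCovering hcov).pullback X.hom _ _ (IsPullback.of_hasPullback X.hom f))
      (DSPtsLib.theta f (l ≫ w)).left (by
        rw [← hp]
        exact congrArg (fun m : _ ⟶ G => m.left) he)
    exact ⟨Over.homMk a (by rw [← Over.w z, reassoc_of% ha, Over.w g]), Over.OverMorphism.ext ha⟩

end Groth.Agent.RedRank.UnipZero
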